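import Groth.Agent.Deform.GenSub.Comm
import Groth.Agent.GrpSchLib.AntiAffineHom

/-!
# The commutator subgroup scheme of two geometrically reduced subgroups over a field
-/

set_option autoImplicit false

universe u

open CategoryTheory CategoryTheory.Limits MonoidalCategory CartesianMonoidalCategory MonObj GrpObj AlgebraicGeometry

attribute [local instance] CategoryTheory.Hom.monoid CategoryTheory.Hom.group
set_option linter.style.haveILetI false
set_option linter.unusedSectionVars false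

namespace Groth.Agent.Deform.GenSub

noncomputable section

open Chev Luna.SolvLocus
open scoped commutatorElement

variable {k : Type u} [Field k]

/-- A connected group locally of finite type is quasi-compact. -/
theorem quasiCompact_of_connected (A : Over (Spec (CommRingCat.of k))) [GrpObj A] [LocallyOfFiniteType A.hom]
    [ConnectedSpace A.left] : QuasiCompact A.hom := by
  obtain ⟨A₀, _, c, -, -, -, hr, -, hc⟩ := GrpSchLib.exists_identityComponent (G := A)
  haveI := hc
  refine (quasiCompact_iff_compactSpace A.hom).mpr ?_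
  rw [← isCompact_univ_iff, ← PreconnectedSpace.connectedComponent_eq_univ (η[A].left (IsLocalRing.closedPoint k)),
    ← hr]
  exact isCompact_range c.left.continuous

variable {G X : Over (Spec (CommRingCat.of k))} [GrpObj G]

/-- Two subgroups generated by one morphism agree. -/
theorem generated_iso {f : X ⟶ G} {I : Over (Spec (CommRingCat.of k))} [GrpObj I] (i : I ⟶ G) [IsMonHom i]
    [IsClosedImmersion i.left] (hfI : ∃ f', f' ≫ i = f)
    (hminI : ∀ (Γ : Over (Spec (CommRingCat.of k))) (_ : GrpObj Γ) (i' : Γ ⟶ G), IsMonHom i' →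
      IsClosedImmersion i'.left → (∃ f', f' ≫ i' = f) → ∃ j : I ⟶ Γ, j ≫ i' = i)
    {Γ : Over (Spec (CommRingCat.of k))} [GrpObj Γ] (i' : Γ ⟶ G) [IsMonHom i'] [IsClosedImmersion i'.left]
    (hf : ∃ f', f' ≫ i' = f)
    (hmin : ∀ (Γ' : Over (Spec (CommRingCat.of k))) (_ : GrpObj Γ') (j : Γ' ⟶ G), IsMonHom j →
      IsClosedImmersion j.left → (∃ f', f' ≫ j = f) → ∃ m : Γ ⟶ Γ', m ≫ j = i') :
    ∃ φ : I ≅ Γ, φ.hom ≫ i' = i := by
  haveI : Mono i := (Over.forget _).mono_of_mono_map (inferInstanceAs (Mono i.left))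
  haveI : Mono i' := (Over.forget _).mono_of_mono_map (inferInstanceAs (Mono i'.left))
  obtain ⟨j, hj⟩ := hminI Γ ‹_› i' ‹_› ‹_› hf
  obtain ⟨m, hm⟩ := hmin I ‹_› i ‹_› ‹_› hfI
  exact ⟨⟨j, m, by rw [← cancel_mono i, Category.assoc, hm, hj, Category.id_comp],
    by rw [← cancel_mono i', Category.assoc, hj, hm, Category.id_comp]⟩, hj⟩

variable {K : Type u} [Field K] [IsAlgClosed K] (σ : Spec (CommRingCat.of K) ⟶ Spec (CommRingCat.of k))

/-- A closed subgroup is irreducible if its geometric points form an irreducible set. -/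
theorem irreducibleSpace_of_pts {I : Over (Spec (CommRingCat.of k))} [LocallyOfFiniteType I.hom]
    [LocallyOfFiniteType G.hom] (i : I ⟶ G) [IsClosedImmersion i.left] (H : Set (geomT σ ⟶ G))
    (hI : (Set.range fun x : geomT σ ⟶ I => x ≫ i) = H)
    (hirr : @IsIrreducible _ (Luna.SolvPts.ptTop (Red.bc σ G)) (ptsEquiv (G := G) σ _ '' H)) :
    IrreducibleSpace I.left := by
  letI := Luna.SolvPts.ptTop (Red.bc σ G)
  haveI : Nonempty I.left := by
    obtain ⟨_, h, hh, rfl⟩ := hirr.1
    rw [← hI] at hh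
    obtain ⟨x, -⟩ := hh
    exact ⟨x.left (IsLocalRing.closedPoint K)⟩
  refine { isPreirreducible_univ := ?_, toNonempty := inferInstance }
  rintro U V hU hV ⟨u, -, hu⟩ ⟨v, -, hv⟩
  obtain ⟨U', hU', rfl⟩ := i.left.isClosedEmbedding.isInducing.isOpen_iff.mp hU
  obtain ⟨V', hV', rfl⟩ := i.left.isClosedEmbedding.isInducing.isOpen_iff.mp hV
  obtain ⟨x, hx⟩ := exists_geomPt σ I ⟨u, hu⟩ hU.isLocallyClosed
  obtain ⟨y, hy⟩ := exists_geomPt σ I ⟨v, hv⟩ hV.isLocallyClosed
  let O : Set G.left → Set (Pt (Red.bc σ G)) := fun W => pimg ⁻¹' (pullback.fst G.hom σ ⁻¹' W)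
  have hmem : ∀ (z : geomT σ ⟶ I) (W : Set G.left),
      ptsEquiv (G := G) σ _ (z ≫ i) ∈ O W ↔ i.left (z.left (IsLocalRing.closedPoint K)) ∈ W := fun z W => by
    show pullback.fst G.hom σ (pimg (ptsEquiv (G := G) σ _ (z ≫ i))) ∈ W ↔ _
    rw [show pullback.fst G.hom σ (pimg (ptsEquiv (G := G) σ _ (z ≫ i))) = (z ≫ i).left (IsLocalRing.closedPoint K)
      from fst_pimg σ (z ≫ i)]
    exact Iff.rfl
  have hOo : ∀ W, IsOpen W → IsOpen (O W) := fun W hW =>
    (hW.preimage (pullback.fst G.hom σ).continuous).preimage Luna.SolvPts.isInducing_pimg.continuous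
  obtain ⟨_, ⟨h, hh, rfl⟩, h₁, h₂⟩ := hirr.2 (O U') (O V') (hOo _ hU') (hOo _ hV')
    ⟨_, ⟨x ≫ i, hI ▸ ⟨x, rfl⟩, rfl⟩, (hmem x U').mpr hx⟩ ⟨_, ⟨y ≫ i, hI ▸ ⟨y, rfl⟩, rfl⟩, (hmem y V').mpr hy⟩
  rw [← hI] at hh
  obtain ⟨z, rfl⟩ := hh
  exact ⟨z.left (IsLocalRing.closedPoint K), trivial, (hmem z U').mp h₁, (hmem z V').mp h₂⟩

variable {A B : Over (Spec (CommRingCat.of k))} (a : A ⟶ G) (b : B ⟶ G)

/-- The commutator morphism. -/
abbrev commMor : A ⊗ B ⟶ G :=
  ((fst A B) ≫ a) * ((snd A B) ≫ b) * ((fst A B) ≫ a)⁻¹ * ((snd A B) ≫ b)⁻¹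

theorem range_commMor (T : Over (Spec (CommRingCat.of k))) :
    (Set.range fun x : T ⟶ A ⊗ B => x ≫ commMor a b) =
      Set.image2 (fun g h : T ⟶ G => (⁅g, h⁆ : T ⟶ G)) (Set.range fun x : T ⟶ A => x ≫ a)
        (Set.range fun y : T ⟶ B => y ≫ b) := by
  ext g
  constructor
  · rintro ⟨x, rfl⟩
    exact ⟨_, ⟨x ≫ fst A B, rfl⟩, _, ⟨x ≫ snd A B, rfl⟩, by
      simp only [commMor, commutatorElement_def, MonObj.comp_mul, GrpObj.comp_inv, Category.assoc]⟩
  · rintro ⟨_, ⟨x, rfl⟩, _, ⟨y, rfl⟩, rfl⟩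
    exact ⟨lift x y, by
      simp only [commMor, commutatorElement_def, MonObj.comp_mul, GrpObj.comp_inv, lift_fst_assoc, lift_snd_assoc]⟩

theorem normal_bc {N : Over (Spec (CommRingCat.of k))} [GrpObj N] (c : N ⟶ G) (hc : AlgGrp.IsNormalHom c) :
    AlgGrp.IsNormalHom ((Over.pullback σ).map c) := by
  intro T g n
  obtain ⟨g', rfl⟩ := (ptsEquiv (G := G) σ T).surjective g
  obtain ⟨n', rfl⟩ := (ptsEquiv (G := N) σ T).surjective n
  obtain ⟨m, hm⟩ := hc _ g' n'
  refine ⟨ptsEquiv (G := N) σ T m, ?_⟩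
  have h : ∀ z, ptsEquiv (G := N) σ T z ≫ (Over.pullback σ).map c = ptsEquiv (G := G) σ T (z ≫ c) := fun z =>
    ((Over.mapPullbackAdj σ).homEquiv_naturality_right z c).symm
  rw [h, h, ← hm, map_mul, map_mul, map_inv]

variable [GrpObj A] [GrpObj B] [IsMonHom a] [IsMonHom b] [IsClosedImmersion a.left] [IsClosedImmersion b.left]
  [LocallyOfFiniteType G.hom] [GeometricallyReduced A.hom] [GeometricallyReduced B.hom] [QuasiCompact B.hom]

/-- Commutator words are bounded on geometric points. -/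
theorem bounded_commMor
    (hcase : (AlgGrp.IsNormalHom a ∧ AlgGrp.IsNormalHom b ∧ QuasiCompact A.hom) ∨ ConnectedSpace A.left) :
    Bounded (Set.range fun x : geomT σ ⟶ A ⊗ B => x ≫ commMor a b) ∧ (ConnectedSpace A.left →
      @IsIrreducible _ (Luna.SolvPts.ptTop (Red.bc σ G)) (ptsEquiv (G := G) σ _ ''
        (Subgroup.closure (Set.range fun x : geomT σ ⟶ A ⊗ B => x ≫ commMor a b) : Set (geomT σ ⟶ G)))) := by
  haveI : LocallyOfFiniteType A.hom := by rw [← Over.w a]; infer_instance
  haveI : LocallyOfFiniteType B.hom := by rw [← Over.w b]; infer_instance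
  haveI : QuasiCompact A.hom := by
    rcases hcase with ⟨-, -, h⟩ | h
    · exact h
    · exact quasiCompact_of_connected A
  haveI : LocallyOfFiniteType (A ⊗ B).hom := by rw [Over.tensorObj_hom]; infer_instance
  haveI : QuasiCompact (A ⊗ B).hom := by rw [Over.tensorObj_hom]; infer_instance
  haveI := geometricallyReduced_tensor A B
  -- over `K`
  let AK := Red.bc σ A; let BK := Red.bc σ B
  let aK : AK ⟶ Red.bc σ G := (Over.pullback σ).map a
  let bK : BK ⟶ Red.bc σ G := (Over.pullback σ).map b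
  haveI : LocallyOfFiniteType (Red.bc σ G).hom := MorphismProperty.pullback_snd G.hom σ inferInstance
  haveI : LocallyOfFiniteType AK.hom := MorphismProperty.pullback_snd A.hom σ inferInstance
  haveI : LocallyOfFiniteType BK.hom := MorphismProperty.pullback_snd B.hom σ inferInstance
  haveI : IsReduced AK.left := pullback_of_geometrically (GeometricallyReduced.geometrically_isReduced (f := A.hom)) K σ
  haveI : IsReduced BK.left := pullback_of_geometrically (GeometricallyReduced.geometrically_isReduced (f := B.hom)) K σ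
  haveI : Smooth AK.hom := GrpSchLib.smooth_of_perfectField_of_isReduced AK
  haveI : Smooth BK.hom := GrpSchLib.smooth_of_perfectField_of_isReduced BK
  haveI : QuasiCompact AK.hom := MorphismProperty.pullback_snd A.hom σ inferInstance
  haveI : QuasiCompact BK.hom := MorphismProperty.pullback_snd B.hom σ inferInstance
  haveI : IsMonHom aK := inferInstanceAs (IsMonHom ((Over.pullback σ).map a))
  haveI : IsMonHom bK := inferInstanceAs (IsMonHom ((Over.pullback σ).map b))
  haveI : IsClosedImmersion aK.left :=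
    MorphismProperty.baseChange_map (P := @IsClosedImmersion) σ a inferInstance
  haveI : IsClosedImmersion bK.left :=
    MorphismProperty.baseChange_map (P := @IsClosedImmersion) σ b inferInstance
  haveI : Mono aK := (Over.forget _).mono_of_mono_map (inferInstanceAs (Mono aK.left))
  haveI : Mono bK := (Over.forget _).mono_of_mono_map (inferInstanceAs (Mono bK.left))
  let e := ptsEquiv (G := G) σ (𝟙_ (Over (Spec (CommRingCat.of K))))
  have hnat : ∀ {C : Over (Spec (CommRingCat.of k))} (c : C ⟶ G),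
      e '' (Set.range fun x : geomT σ ⟶ C => x ≫ c) =
        Set.range fun y : Pt (Red.bc σ C) => y ≫ (Over.pullback σ).map c := by
    intro C c
    rw [← Set.range_comp]
    ext g
    constructor
    · rintro ⟨x, rfl⟩
      exact ⟨_, ((Over.mapPullbackAdj σ).homEquiv_naturality_right x c).symm⟩
    · rintro ⟨y, rfl⟩
      obtain ⟨x, rfl⟩ := ((Over.mapPullbackAdj σ).homEquiv _ C).surjective y
      exact ⟨x, (Over.mapPullbackAdj σ).homEquiv_naturality_right x c⟩
  have himg : e '' (Set.range fun x : geomT σ ⟶ A ⊗ B => x ≫ commMor a b) = commSet aK bK := by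
    rw [range_commMor]
    refine (Set.image_image2_distrib (g := fun g => e g) (f := fun g h : geomT σ ⟶ G => (⁅g, h⁆ : geomT σ ⟶ G))
      (f' := fun g h : Pt (Red.bc σ G) => (⁅g, h⁆ : Pt (Red.bc σ G))) (g₁ := fun g => e g) (g₂ := fun g => e g)
      fun g h => map_commutatorElement e.toMonoidHom g h).trans ?_
    rw [hnat, hnat]
  have hb : Bounded (commSet aK bK) ∧ (ConnectedSpace A.left →
      @IsIrreducible _ (Luna.SolvPts.ptTop (Red.bc σ G)) (Subgroup.closure (commSet aK bK) : Set (Pt (Red.bc σ G)))) := by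
    have hconn : ConnectedSpace A.left → ConnectedSpace AK.left := fun h => by
      obtain ⟨φ, hφ⟩ := Spec.map_surjective σ
      haveI := GrpSchLib.AntiAffine.connectedSpace_bc A φ.hom
      show ConnectedSpace ↥(Red.bc σ A).left
      rw [← hφ]
      exact this
    refine ⟨?_, fun h => by haveI := hconn h; exact (bounded_comm_connected aK bK).2⟩
    rcases hcase with ⟨hA, hB, -⟩ | h
    · exact bounded_comm_normal aK bK (normal_bc σ a hA) (normal_bc σ b hB)
    · haveI := hconn h
      exact (bounded_comm_connected aK bK).1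
  refine ⟨bounded_of_mulEquiv e (himg ▸ hb.1), fun h => ?_⟩
  rw [show ptsEquiv (G := G) σ _ '' _ = e.toMonoidHom '' _ from rfl, ← Subgroup.coe_map, MonoidHom.map_closure]
  erw [himg]
  exact hb.2 h

/-- **The commutator subgroup scheme.** -/
theorem exists_commutator
    (hcase : (AlgGrp.IsNormalHom a ∧ AlgGrp.IsNormalHom b ∧ QuasiCompact A.hom) ∨ ConnectedSpace A.left) :
    ∃ (I : Over (Spec (CommRingCat.of k))) (_ : GrpObj I) (i : I ⟶ G), IsMonHom i ∧ IsClosedImmersion i.left ∧
      Smooth I.hom ∧ QuasiCompact I.hom ∧ (∃ f', f' ≫ i = commMor a b) ∧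
      (∀ (Γ : Over (Spec (CommRingCat.of k))) (_ : GrpObj Γ) (i' : Γ ⟶ G), IsMonHom i' → IsClosedImmersion i'.left →
        (∃ f', f' ≫ i' = commMor a b) → ∃ j : I ⟶ Γ, j ≫ i' = i) ∧
      (ConnectedSpace A.left → ConnectedSpace I.left) ∧
      (Set.range fun x : geomT σ ⟶ I => x ≫ i) =
        Subgroup.closure (Set.image2 (fun g h : geomT σ ⟶ G => (⁅g, h⁆ : geomT σ ⟶ G))
          (Set.range fun x : geomT σ ⟶ A => x ≫ a) (Set.range fun y : geomT σ ⟶ B => y ≫ b)) := by
  haveI : LocallyOfFiniteType A.hom := by rw [← Over.w a]; infer_instance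
  haveI : LocallyOfFiniteType B.hom := by rw [← Over.w b]; infer_instance
  haveI : QuasiCompact A.hom := by
    rcases hcase with ⟨-, -, h⟩ | h
    · exact h
    · exact quasiCompact_of_connected A
  haveI : LocallyOfFiniteType (A ⊗ B).hom := by rw [Over.tensorObj_hom]; infer_instance
  haveI : QuasiCompact (A ⊗ B).hom := by rw [Over.tensorObj_hom]; infer_instance
  haveI := geometricallyReduced_tensor A B
  obtain ⟨hb, hirr⟩ := bounded_commMor σ a b hcase
  obtain ⟨I, iI, i, hi, hic, hs, hq, hf, -, hpts, hmin⟩ := exists_generated σ (commMor a b) hb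
  haveI := hic; haveI := hs
  refine ⟨I, iI, i, hi, hic, hs, hq, hf, hmin, fun h => ?_, by rw [hpts, range_commMor]⟩
  haveI := irreducibleSpace_of_pts σ i _ hpts (hirr h)
  infer_instance

end

end Groth.Agent.Deform.GenSub
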