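import Groth.Agent.Deform.GenSub.GenConn
import Groth.Agent.Deform.GenSub.CommField

/-!
# Commutator words over a general base
-/

set_option autoImplicit false

universe u

open CategoryTheory CategoryTheory.Limits MonoidalCategory CartesianMonoidalCategory MonObj GrpObj AlgebraicGeometry

attribute [local instance] CategoryTheory.Hom.monoid CategoryTheory.Hom.group
set_option linter.style.haveILetI false
set_option linter.unusedSectionVars false

namespace Groth.Agent.Deform.GenSub.Spread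

noncomputable section

open scoped commutatorElement

section Groups

variable {P : Type*} [Group P]

theorem wVal_mono {S S' : Set P} (h : S ⊆ S') : ∀ l, wVal S l ⊆ wVal S' l
  | [] => subset_rfl
  | β :: l => Set.image2_subset (by cases β with
      | true => exact h
      | false => exact Set.image_mono h) (wVal_mono h l)

theorem wVal_alt {S : Set P} (h1 : (1 : P) ∈ S) :
    ∀ (n : ℕ) (l : List Bool), l.length ≤ n → wVal S l ⊆ wVal S (alt n)
  | 0, l, hl => by rw [List.length_eq_zero_iff.mp (Nat.le_zero.mp hl)]; exact subset_rfl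
  | n + 1, [], _ => by
    rintro x rfl
    exact ⟨1, h1, 1, ⟨1, ⟨1, h1, inv_one⟩, 1, wVal_alt h1 n [] (Nat.zero_le n) rfl, _root_.one_mul 1⟩, _root_.one_mul 1⟩
  | n + 1, β :: l, hl => by
    rintro _ ⟨x, hx, y, hy, rfl⟩
    have hy' := wVal_alt h1 n l (Nat.le_of_succ_le_succ hl) hy
    cases β with
    | true => exact ⟨x, hx, y, ⟨1, ⟨1, h1, inv_one⟩, y, hy', _root_.one_mul y⟩, rfl⟩
    | false => exact ⟨1, h1, x * y, ⟨x, hx, y, hy', rfl⟩, _root_.one_mul _⟩

/-- Values of words in a set stable under conjugation. -/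
theorem conj_mem_wVal {S : Set P} (g : P) (h : ∀ x ∈ S, g * x * g⁻¹ ∈ S) {l : List Bool} {x : P} (hx : x ∈ wVal S l) :
    g * x * g⁻¹ ∈ wVal S l :=
  wVal_mono (S := (MulAut.conj g).toMonoidHom '' S) (fun _ ⟨z, hz, e⟩ => e ▸ h z hz) l
    (image_wVal (MulAut.conj g).toMonoidHom S l ▸ ⟨x, hx, rfl⟩)

end Groups

variable {S : Scheme.{u}} {G A B X : Over S} [GrpObj G]

/-- The commutator morphism. -/
abbrev cm (a : A ⟶ G) (b : B ⟶ G) : A ⊗ B ⟶ G :=
  ((fst A B) ≫ a) * ((snd A B) ≫ b) * ((fst A B) ≫ a)⁻¹ * ((snd A B) ≫ b)⁻¹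

theorem comp_cm (a : A ⟶ G) (b : B ⟶ G) {T : Over S} (x : T ⟶ A ⊗ B) :
    x ≫ cm a b = (⁅(x ≫ fst A B) ≫ a, (x ≫ snd A B) ≫ b⁆ : T ⟶ G) := by
  simp only [cm, commutatorElement_def, MonObj.comp_mul, GrpObj.comp_inv, Category.assoc]

theorem range_cm (a : A ⟶ G) (b : B ⟶ G) (T : Over S) :
    (Set.range fun x : T ⟶ A ⊗ B => x ≫ cm a b) =
      Set.image2 (fun g h : T ⟶ G => (⁅g, h⁆ : T ⟶ G)) (Set.range fun x : T ⟶ A => x ≫ a)
        (Set.range fun y : T ⟶ B => y ≫ b) := by
  ext g
  constructor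
  · rintro ⟨x, rfl⟩
    exact ⟨_, ⟨x ≫ fst A B, rfl⟩, _, ⟨x ≫ snd A B, rfl⟩, (comp_cm a b x).symm⟩
  · rintro ⟨_, ⟨x, rfl⟩, _, ⟨y, rfl⟩, rfl⟩
    exact ⟨lift x y, by simp only [comp_cm, lift_fst, lift_snd]⟩

variable {S' : Scheme.{u}} (t : S' ⟶ S)

theorem map_inv (f : X ⟶ G) : (Over.pullback t).map f⁻¹ = ((Over.pullback t).map f)⁻¹ :=
  eq_inv_of_mul_eq_one_left (by rw [← Functor.map_mul, inv_mul_cancel, Functor.map_one])

theorem map_cm (a : A ⟶ G) (b : B ⟶ G) :
    (Over.pullback t).map (cm a b) = lift ((Over.pullback t).map (fst A B)) ((Over.pullback t).map (snd A B)) ≫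
      cm ((Over.pullback t).map a) ((Over.pullback t).map b) := by
  rw [comp_cm, lift_fst, lift_snd]
  simp only [cm, commutatorElement_def, Functor.map_mul, map_inv, Functor.map_comp]

theorem μ_map_cm (a : A ⟶ G) (b : B ⟶ G) :
    Functor.LaxMonoidal.μ (Over.pullback t) A B ≫ (Over.pullback t).map (cm a b) =
      cm ((Over.pullback t).map a) ((Over.pullback t).map b) := by
  rw [map_cm, ← Category.assoc, comp_lift, Functor.Monoidal.μ_fst, Functor.Monoidal.μ_snd, lift_fst_snd,
    Category.id_comp]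

/-- A word of a base change factors through the word in a factor. -/
theorem exists_map_wMor (f : X ⟶ G) {X' : Over S'} (f' : X' ⟶ Red.bc t G)
    (u : (Over.pullback t).obj X ⟶ X') (hu : u ≫ f' = (Over.pullback t).map f) :
    ∀ l, ∃ θ : (Over.pullback t).obj (wObj X l) ⟶ wObj X' l, θ ≫ wMor f' l = (Over.pullback t).map (wMor f l)
  | [] => ⟨toUnit _, by
      show toUnit _ ≫ (1 : 𝟙_ (Over S') ⟶ Red.bc t G) = (Over.pullback t).map (1 : 𝟙_ (Over S) ⟶ G)
      rw [Functor.map_one, MonObj.comp_one]⟩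
  | β :: l => by
    obtain ⟨θ, hθ⟩ := exists_map_wMor f f' u hu l
    let L : (Over.pullback t).obj (X ⊗ wObj X l) ⟶ X' ⊗ wObj X' l :=
      lift ((Over.pullback t).map (fst X (wObj X l)) ≫ u) ((Over.pullback t).map (snd X (wObj X l)) ≫ θ)
    refine ⟨L, ?_⟩
    cases β with
    | true =>
      show L ≫ ((fst X' (wObj X' l) ≫ f') * (snd X' (wObj X' l) ≫ wMor f' l) : X' ⊗ wObj X' l ⟶ Red.bc t G) =
        (Over.pullback t).map ((fst X (wObj X l) ≫ f) * (snd X (wObj X l) ≫ wMor f l) : X ⊗ wObj X l ⟶ G)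
      rw [MonObj.comp_mul, Functor.map_mul, Functor.map_comp, Functor.map_comp, ← hu, ← hθ]
      simp only [L, lift_fst_assoc, lift_snd_assoc, Category.assoc]
    | false =>
      show L ≫ ((fst X' (wObj X' l) ≫ f')⁻¹ * (snd X' (wObj X' l) ≫ wMor f' l) : X' ⊗ wObj X' l ⟶ Red.bc t G) =
        (Over.pullback t).map ((fst X (wObj X l) ≫ f)⁻¹ * (snd X (wObj X l) ≫ wMor f l) : X ⊗ wObj X l ⟶ G)
      rw [MonObj.comp_mul, GrpObj.comp_inv, Functor.map_mul, map_inv, Functor.map_comp, Functor.map_comp, ← hu, ← hθ]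
      simp only [L, lift_fst_assoc, lift_snd_assoc, Category.assoc]

omit [GrpObj G] in
theorem range_map {C D : Over S} (w : C ⟶ D) :
    Set.range ((Over.pullback t).map w).left = pullback.fst D.hom t ⁻¹' Set.range w.left := by
  have e : ((Over.pullback t).map w).left = pullback.map C.hom t D.hom t w.left (𝟙 _) (𝟙 _)
      (by rw [Category.comp_id, Over.w]) (by simp) := by
    refine pullback.hom_ext ?_ ?_
    · exact (pullback.lift_fst _ _ _).trans (pullback.lift_fst _ _ _).symm
    · exact (pullback.lift_snd _ _ _).trans ((Category.comp_id _).symm.trans (pullback.lift_snd _ _ _).symm)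
  rw [e, Scheme.Pullback.range_map]
  simp only [Scheme.Hom.id_base, TopCat.hom_id, ContinuousMap.coe_id, Set.range_id, Set.preimage_univ, Set.inter_univ]

omit [GrpObj G] in
theorem smooth_wObj (X : Over S) [Smooth X.hom] : ∀ l, Smooth (wObj X l).hom
  | [] => inferInstanceAs (Smooth (𝟙 S))
  | _ :: l => by
    haveI := smooth_wObj X l
    exact Luna.SolvLocus.smooth_tensor X (wObj X l)

omit [GrpObj G] in
theorem props_wObjS (X : Over S) [LocallyOfFinitePresentation X.hom] [QuasiCompact X.hom] :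
    ∀ l, LocallyOfFinitePresentation (wObj X l).hom ∧ QuasiCompact (wObj X l).hom
  | [] => ⟨inferInstanceAs (LocallyOfFinitePresentation (𝟙 S)), inferInstanceAs (QuasiCompact (𝟙 S))⟩
  | _ :: l => by
    obtain ⟨_, _⟩ := props_wObjS X l
    constructor
    · show LocallyOfFinitePresentation (X ⊗ wObj X l).hom
      rw [Over.tensorObj_hom]; infer_instance
    · show QuasiCompact (X ⊗ wObj X l).hom
      rw [Over.tensorObj_hom]; infer_instance

omit [GrpObj G] in
theorem props_wObjT (X : Over S) [LocallyOfFiniteType X.hom] [QuasiCompact X.hom] :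
    ∀ l, LocallyOfFiniteType (wObj X l).hom ∧ QuasiCompact (wObj X l).hom
  | [] => ⟨inferInstanceAs (LocallyOfFiniteType (𝟙 S)), inferInstanceAs (QuasiCompact (𝟙 S))⟩
  | _ :: l => by
    obtain ⟨_, _⟩ := props_wObjT X l
    constructor
    · show LocallyOfFiniteType (X ⊗ wObj X l).hom
      rw [Over.tensorObj_hom]; infer_instance
    · show QuasiCompact (X ⊗ wObj X l).hom
      rw [Over.tensorObj_hom]; infer_instance

omit [GrpObj G] in
theorem smooth_bc_tensor (A B : Over S) [Smooth (Red.bc t A).hom] [Smooth (Red.bc t B).hom] :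
    Smooth (Red.bc t (A ⊗ B)).hom := by
  haveI : Smooth (Red.bc t A ⊗ Red.bc t B).hom := Luna.SolvLocus.smooth_tensor _ _
  haveI : IsIso (Functor.Monoidal.μIso (Over.pullback t) A B).inv.left :=
    ((Over.forget _).mapIso (Functor.Monoidal.μIso (Over.pullback t) A B).symm).isIso_hom
  rw [← Over.w (Functor.Monoidal.μIso (Over.pullback t) A B).inv]
  infer_instance

omit [GrpObj G] in
theorem smooth_bc_wObj (X : Over S) [Smooth (Red.bc t X).hom] : ∀ l, Smooth (Red.bc t (wObj X l)).hom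
  | [] => inferInstanceAs (Smooth (pullback.snd (𝟙 S) t))
  | _ :: l => by
    haveI := smooth_bc_wObj X l
    exact smooth_bc_tensor t X (wObj X l)

/-- A base change of a subscheme covered by words is covered by the words of the base change. -/
theorem range_sub_words (a : A ⟶ G) (b : B ⟶ G) {D₀ : Over S} (d₀ : D₀ ⟶ G) (l : List Bool)
    (h : ∀ q : D₀.left, D₀.hom q ∈ Set.range t → d₀.left q ∈ Set.range (wMor (cm a b) l).left) :
    Set.range ((Over.pullback t).map d₀).left ⊆
      Set.range (wMor (cm ((Over.pullback t).map a) ((Over.pullback t).map b)) l).left := by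
  rw [range_map]
  rintro p ⟨q, hq⟩
  have hqt : D₀.hom q ∈ Set.range t := by
    rw [← Over.w d₀, Scheme.Hom.comp_apply, hq, ← Scheme.Hom.comp_apply, pullback.condition, Scheme.Hom.comp_apply]
    exact ⟨_, rfl⟩
  obtain ⟨θ, hθ⟩ := exists_map_wMor t (cm a b) (cm ((Over.pullback t).map a) ((Over.pullback t).map b))
    (lift ((Over.pullback t).map (fst A B)) ((Over.pullback t).map (snd A B))) (map_cm t a b).symm l
  obtain ⟨z, hz⟩ := (range_map t (wMor (cm a b) l)).ge (hq ▸ h q hqt : pullback.fst G.hom t p ∈ _)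
  exact ⟨θ.left z, by rw [← hz, ← hθ]; rfl⟩

end

end Groth.Agent.Deform.GenSub.Spread
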