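import Groth.Agent.Deform.GenSub.GenClosed
import Groth.Agent.VarGeom.OpenMap
import Groth.Agent.H23.RedSub
import Groth.Agent.Deform.GenSub.SpreadWord

/-!
# Universal schematic density of a geometrically reduced generating family
-/

set_option autoImplicit false

universe u

open CategoryTheory CategoryTheory.Limits MonoidalCategory CartesianMonoidalCategory MonObj GrpObj AlgebraicGeometry
open TopologicalSpace

attribute [local instance] CategoryTheory.Hom.monoid CategoryTheory.Hom.group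
set_option linter.style.haveILetI false
set_option linter.unusedSectionVars false

namespace Groth.Agent.Deform.GenSub

noncomputable section

open scoped TensorProduct

/-- Jointly injective maps stay jointly injective after tensoring over a field. -/
theorem eq_zero_of_tensor_map {k A R : Type u} [Field k] [CommRing A] [Algebra k A] [CommRing R] [Algebra k R]
    {J : Type u} (B : J → Type u) [∀ j, CommRing (B j)] [∀ j, Algebra k (B j)] (ψ : ∀ j, A →ₐ[k] B j)
    (hψ : ∀ a, (∀ j, ψ j a = 0) → a = 0) (x : A ⊗[k] R)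
    (hx : ∀ j, Algebra.TensorProduct.map (ψ j) (AlgHom.id k R) x = 0) : x = 0 := by
  classical
  let b := Module.Basis.ofVectorSpace k R
  have hc : ∀ (j) (x : A ⊗[k] R) (i), TensorProduct.equivFinsuppOfBasisRight b
      (Algebra.TensorProduct.map (ψ j) (AlgHom.id k R) x) i =
        ψ j (TensorProduct.equivFinsuppOfBasisRight b x i) := by
    intro j x i
    induction x using TensorProduct.induction_on with
    | zero => simp
    | tmul a r => simp [Algebra.TensorProduct.map_tmul, TensorProduct.equivFinsuppOfBasisRight_apply_tmul]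
    | add x y hx hy => simp [map_add, hx, hy]
  refine (TensorProduct.equivFinsuppOfBasisRight b).injective (Finsupp.ext fun i => ?_)
  rw [map_zero]
  refine hψ _ fun j => ?_
  rw [← hc, hx, map_zero]
  rfl

variable {k : Type u} [Field k]

/-- A dense family of maps to a reduced scheme gives jointly injective maps on an affine open. -/
theorem exists_injective_family {C : Over (Spec (CommRingCat.of k))} [IsReduced C.left] {J : Type}
    (W : J → Over (Spec (CommRingCat.of k))) (u : ∀ j, W j ⟶ C) (hd : Dense (⋃ j, Set.range (u j).left))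
    {A : CommRingCat.{u}} (e : Spec A ⟶ C.left) [IsOpenImmersion e] :
    ∃ (ι' : Type u) (R : ι' → CommRingCat.{u}) (p₁ : ι' → J) (g : ∀ p, Spec (R p) ⟶ (W (p₁ p)).left)
      (ψ : ∀ p, A ⟶ R p), (∀ p, Spec.map (ψ p) ≫ e = g p ≫ (u (p₁ p)).left) ∧
        ∀ a, (∀ p, ψ p a = 0) → a = 0 := by
  let O : ∀ j, (W j).left.Opens := fun j => (u j).left ⁻¹ᵁ e.opensRange
  let R : ULift.{u} (Σ j : J, (O j).toScheme.affineOpenCover.I₀) → CommRingCat.{u} := fun p =>
    (O p.down.1).toScheme.affineOpenCover.X p.down.2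
  let g : ∀ p, Spec (R p) ⟶ (W p.down.1).left := fun p =>
    (O p.down.1).toScheme.affineOpenCover.f p.down.2 ≫ (O p.down.1).ι
  have hrange : ∀ p, Set.range (g p ≫ (u p.down.1).left) ⊆ Set.range e := by
    rintro p _ ⟨z, rfl⟩
    exact ((O p.down.1).toScheme.affineOpenCover.f p.down.2 z).2
  let t : ∀ p, Spec (R p) ⟶ Spec A := fun p => IsOpenImmersion.lift e _ (hrange p)
  choose ψ hψ using fun p => Spec.map_surjective (t p)
  refine ⟨_, R, fun p => p.down.1, g, ψ, fun p => by rw [hψ, IsOpenImmersion.lift_fac], fun a ha => ?_⟩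
  haveI : _root_.IsReduced A := (affine_isReduced_iff _).mp (isReduced_of_isOpenImmersion e)
  have hz : PrimeSpectrum.zeroLocus ({a} : Set A) = Set.univ := by
    refine Set.eq_univ_of_forall fun z => (PrimeSpectrum.isClosed_zeroLocus _).closure_subset_iff.mpr subset_rfl
      (mem_closure_iff.mpr fun U hU hzU => ?_)
    obtain ⟨_, ⟨y, hyU, rfl⟩, hyd⟩ := hd.inter_open_nonempty _ (e.isOpenEmbedding.isOpenMap U hU) ⟨e z, z, hzU, rfl⟩
    obtain ⟨j, w, hw⟩ := Set.mem_iUnion.mp hyd
    obtain ⟨q, b, hb⟩ := (O j).toScheme.affineOpenCover.openCover.exists_eq ⟨w, show (u j).left w ∈ e.opensRange from hw ▸ ⟨y, rfl⟩⟩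
    let p : ULift.{u} (Σ j : J, (O j).toScheme.affineOpenCover.I₀) := ⟨⟨j, q⟩⟩
    have hy : t p b = y := e.isOpenEmbedding.injective (by
      rw [← Scheme.Hom.comp_apply, IsOpenImmersion.lift_fac]
      show (u j).left ((O j).ι ((O j).toScheme.affineOpenCover.f q b)) = e y
      exact (congrArg (fun v => (u j).left ((O j).ι v)) hb).trans hw)
    refine ⟨y, hyU, ?_⟩
    rw [← hy, ← hψ p]
    intro x hx
    rw [Set.mem_singleton_iff.mp hx]
    show ψ p a ∈ (PrimeSpectrum.asIdeal b)
    rw [show (ψ p) a = 0 from ha p]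
    exact Submodule.zero_mem _
  rw [PrimeSpectrum.zeroLocus_eq_univ_iff, Set.singleton_subset_iff] at hz
  exact IsNilpotent.eq_zero hz

variable {C : Over (Spec (CommRingCat.of k))} [IsReduced C.left] {J : Type}
  (W : J → Over (Spec (CommRingCat.of k))) (u : ∀ j, W j ⟶ C) (hd : Dense (⋃ j, Set.range (u j).left))
  {S : Scheme.{u}} (σ : S ⟶ Spec (CommRingCat.of k)) {Y : Scheme.{u}} (y : Y ⟶ (Red.bc σ C).left) [IsClosedImmersion y]
  (h : ∀ j, ∃ z, z ≫ y = ((Over.pullback σ).map (u j)).left)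

include hd h in
theorem isIso_snd_chart {A R : CommRingCat.{u}} (e : Spec A ⟶ C.left) [IsOpenImmersion e] (v : Spec R ⟶ S)
    [IsOpenImmersion v] :
    IsIso (pullback.snd y (pullback.map (e ≫ C.hom) (v ≫ σ) C.hom σ e v (𝟙 _)
      (Category.comp_id _) (Category.comp_id _))) := by
  obtain ⟨φ, hφ⟩ := Spec.map_surjective (e ≫ C.hom)
  obtain ⟨φ', hφ'⟩ := Spec.map_surjective (v ≫ σ)
  letI : Algebra k A := φ.hom.toAlgebra
  letI : Algebra k R := φ'.hom.toAlgebra
  let ε : pullback (e ≫ C.hom) (v ≫ σ) ≅ Spec (CommRingCat.of (A ⊗[k] R)) :=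
    pullback.congrHom hφ.symm hφ'.symm ≪≫ pullbackSpecIso k A R
  let E := pullback.map (e ≫ C.hom) (v ≫ σ) C.hom σ e v (𝟙 _) (Category.comp_id _) (Category.comp_id _)
  show IsIso (pullback.snd y E)
  let c := pullback.snd y E ≫ ε.hom
  suffices IsIso c from IsIso.of_isIso_comp_right (pullback.snd y E) ε.hom
  refine IsClosedImmersion.isIso_of_injective_of_isAffine ?_
  rw [injective_iff_map_eq_zero]
  intro x hx
  obtain ⟨ι', B, p₁, g, ψ, hg, hψ⟩ := exists_injective_family W u hd e
  letI : ∀ p, Algebra k (B p) := fun p => (φ ≫ ψ p).hom.toAlgebra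
  apply (Scheme.ΓSpecIso (CommRingCat.of (A ⊗[k] R))).commRingCatIsoToRingEquiv.injective
  rw [map_zero]
  refine eq_zero_of_tensor_map (fun p => B p) (fun p => AlgHom.mk (ψ p).hom fun _ => rfl) hψ _ fun p => ?_
  let ψ' := CommRingCat.ofHom (Algebra.TensorProduct.map (AlgHom.mk (ψ p).hom (fun _ => rfl) : A →ₐ[k] B p)
    (AlgHom.id k R)).toRingHom
  obtain ⟨z, hz⟩ := h (p₁ p)
  have hw : Spec.map (CommRingCat.ofHom (Algebra.TensorProduct.includeLeftRingHom (R := k) (A := B p) (B := R))) ≫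
      g p ≫ (W (p₁ p)).hom =
      Spec.map (CommRingCat.ofHom (Algebra.TensorProduct.includeRight.toRingHom : R →+* B p ⊗[k] R)) ≫ v ≫ σ := by
    rw [← Over.w (u (p₁ p)), ← reassoc_of% hg p, ← hφ, ← hφ', ← Spec.map_comp, ← Spec.map_comp, ← Spec.map_comp]
    congr 1
    ext a
    show (φ ≫ ψ p).hom a ⊗ₜ[k] (1 : R) = (1 : B p) ⊗ₜ[k] φ'.hom a
    exact (Algebra.TensorProduct.algebraMap_apply (R := k) (S := k) (A := B p) (B := R) a).symm.trans
      (Algebra.TensorProduct.algebraMap_apply' (R := k) (A := B p) (B := R) a)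
  let q : Spec (CommRingCat.of (B p ⊗[k] R)) ⟶ pullback (W (p₁ p)).hom σ :=
    pullback.lift (Spec.map (CommRingCat.ofHom (Algebra.TensorProduct.includeLeftRingHom)) ≫ g p)
      (Spec.map (CommRingCat.ofHom (Algebra.TensorProduct.includeRight.toRingHom : R →+* B p ⊗[k] R)) ≫ v)
      (by simpa only [Category.assoc] using hw)
  have hε1 : ε.inv ≫ pullback.fst (e ≫ C.hom) (v ≫ σ) =
      Spec.map (CommRingCat.ofHom (Algebra.TensorProduct.includeLeftRingHom (R := k) (A := A) (B := R))) := by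
    simp only [ε, Iso.trans_inv, Category.assoc, pullback.congrHom_inv, pullback.lift_fst, Category.comp_id]
    exact pullbackSpecIso_inv_fst k A R
  have hε2 : ε.inv ≫ pullback.snd (e ≫ C.hom) (v ≫ σ) =
      Spec.map (CommRingCat.ofHom (Algebra.TensorProduct.includeRight.toRingHom : R →+* A ⊗[k] R)) := by
    simp only [ε, Iso.trans_inv, Category.assoc, pullback.congrHom_inv, pullback.lift_snd, Category.comp_id]
    exact pullbackSpecIso_inv_snd k A R
  have hf : (q ≫ z) ≫ y = (Spec.map ψ' ≫ ε.inv) ≫ E := by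
    rw [Category.assoc, hz]
    apply pullback.hom_ext
    · rw [Category.assoc, Category.assoc, Category.assoc]
      erw [pullback.lift_fst, pullback.lift_fst]
      rw [pullback.lift_fst_assoc, Category.assoc, ← hg p, reassoc_of% hε1, ← Spec.map_comp_assoc, ← Spec.map_comp_assoc]
      congr 2
    · rw [Category.assoc, Category.assoc, Category.assoc]
      erw [pullback.lift_snd, pullback.lift_snd]
      rw [show E ≫ pullback.snd C.hom σ = pullback.snd _ _ ≫ v from pullback.lift_snd _ _ _, reassoc_of% hε2,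
        ← Spec.map_comp_assoc]
      congr 2
      ext a
      show (1 : B p) ⊗ₜ[k] a = Algebra.TensorProduct.map _ (AlgHom.id k R) ((1 : A) ⊗ₜ[k] a)
      rw [Algebra.TensorProduct.map_tmul, map_one]
      rfl
  have hl : pullback.lift (q ≫ z) (Spec.map ψ' ≫ ε.inv) hf ≫ c = Spec.map ψ' := by
    rw [pullback.lift_snd_assoc, Category.assoc, Iso.inv_hom_id, Category.comp_id]
  have h0 : (Spec.map ψ').appTop x = 0 := by
    rw [← hl, Scheme.Hom.comp_appTop, ConcreteCategory.comp_apply, hx, map_zero]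
  have h2 := ConcreteCategory.congr_hom (Scheme.ΓSpecIso_naturality ψ') x
  simp only [ConcreteCategory.comp_apply, h0, map_zero] at h2
  exact h2.symm

include hd h in
/-- **The base change of a dense family of geometrically reduced schemes is schematically dense.** -/
theorem isIso_of_dense_family : IsIso y := by
  refine (IsZariskiLocalAtTarget.iff_of_openCover (P := MorphismProperty.isomorphisms Scheme)
    (Scheme.Pullback.openCoverOfLeftRight C.left.affineOpenCover.openCover S.affineOpenCover.openCover C.hom σ)).mpr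
    fun ij => ?_
  exact isIso_snd_chart W u hd σ y h (C.left.affineOpenCover.f ij.1) (S.affineOpenCover.f ij.2)

omit [IsReduced C.left] in
theorem exists_fac_pullback {S : Scheme.{u}} {H G₀ Γ' T : Over S} [IsReduced T.left] (jC : H ⟶ G₀) (i' : Γ' ⟶ G₀)
    [IsImmersion i'.left] (f : T ⟶ H) (hf : Set.range f.left ⊆ Set.range (pullback.fst jC.left i'.left)) :
    ∃ t : T ⟶ Γ', t ≫ i' = f ≫ jC := by
  haveI : IsImmersion (pullback.fst jC.left i'.left) := MorphismProperty.pullback_fst _ _ inferInstance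
  obtain ⟨l, hl⟩ := H23.RedSub.exists_lift f.left (pullback.fst jC.left i'.left) hf
  refine ⟨Over.homMk (l ≫ pullback.snd jC.left i'.left) ?_, Over.OverMorphism.ext ?_⟩
  · rw [Category.assoc, ← Over.w i', ← pullback.condition_assoc, reassoc_of% hl, Over.w jC, Over.w f]
  · show (l ≫ pullback.snd jC.left i'.left) ≫ i'.left = f.left ≫ jC.left
    rw [Category.assoc, ← pullback.condition, reassoc_of% hl]

omit [IsReduced C.left] in
theorem mem_range_of_fac {S : Scheme.{u}} {H G₀ Γ' T : Over S} (jC : H ⟶ G₀) (i' : Γ' ⟶ G₀) (f : T ⟶ H)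
    (t : T ⟶ Γ') (ht : t ≫ i' = f ≫ jC) (r : T.left) : f.left r ∈ Set.range (pullback.fst jC.left i'.left) :=
  ⟨pullback.lift f.left t.left (congrArg CommaMorphism.left ht).symm r,
    by rw [← Scheme.Hom.comp_apply, pullback.lift_fst]⟩

omit [IsReduced C.left] in
/-- The preimage in a base change over a field point of a dense set is dense. -/
theorem dense_preimage_field {K : Type u} [Field K] (T : Over S) (eT : T.left = Spec (CommRingCat.of K)) {D : Set C.left}
    (hD : Dense D) : Dense ((fst (Red.bc σ C) T).left ⁻¹' (pullback.fst C.hom σ ⁻¹' D)) := by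
  haveI : UniversallyOpen (T.hom ≫ σ) := VarGeom.universallyOpen_of_field (k := k) _
  have e : (fst (Red.bc σ C) T).left ≫ pullback.fst C.hom σ =
      (pullbackLeftPullbackSndIso C.hom σ T.hom).hom ≫ pullback.fst C.hom (T.hom ≫ σ) :=
    (pullbackLeftPullbackSndIso_hom_fst C.hom σ T.hom).symm
  have hq : IsOpenMap ((fst (Red.bc σ C) T).left ≫ pullback.fst C.hom σ) := e ▸ Scheme.Hom.isOpenMap _
  exact hD.preimage hq

/-- A field-valued point at a given point. -/
theorem exists_point {S : Scheme.{u}} (Z : Over S) (w : Z.left) :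
    ∃ (T : Over S) (x : T ⟶ Z) (r : T.left), IsReduced T.left ∧ ∀ r', x.left r' = w := by
  obtain ⟨r⟩ : Nonempty (Spec (Z.left.residueField w)) := inferInstance
  exact ⟨Over.mk (Z.left.fromSpecResidueField w ≫ Z.hom), Over.homMk (Z.left.fromSpecResidueField w) rfl, r,
    inferInstanceAs (IsReduced (Spec (Z.left.residueField w))),
    fun r' => Set.mem_singleton_iff.mp ((Scheme.range_fromSpecResidueField w).le ⟨r', rfl⟩)⟩

omit [IsReduced C.left] in
theorem exists_two_points {S : Scheme.{u}} {H T : Over S} [GrpObj H] (ξ : T ⟶ H) (s₀ : T.left) {D : Set H.left}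
    (hD : IsLocallyClosed D) (hd : Dense ((fst H T).left ⁻¹' D)) :
    ∃ (T' : Over S) (x : T' ⟶ H ⊗ T) (r : T'.left), IsReduced T'.left ∧
      Set.range (x ≫ fst H T).left ⊆ D ∧ Set.range ((x ≫ snd H T ≫ ξ) * (x ≫ fst H T)).left ⊆ D := by
  let τ : H ⊗ T ⟶ H ⊗ T := lift ((snd H T ≫ ξ) * fst H T) (snd H T)
  let τ' : H ⊗ T ⟶ H ⊗ T := lift ((snd H T ≫ ξ)⁻¹ * fst H T) (snd H T)
  have hτ : τ' ≫ τ = 𝟙 _ := by
    apply CartesianMonoidalCategory.hom_ext <;> simp [τ, τ', MonObj.comp_mul]
  have hτf : τ ≫ fst H T = (snd H T ≫ ξ) * fst H T := lift_fst _ _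
  clear_value τ τ'
  have hoV : IsOpen ((fst H T).left ⁻¹' D) := by
    have := (hD.preimage (fst H T).left.continuous).isOpen_coborder
    rwa [coborder_eq_union_closure_compl, hd.closure_eq, Set.compl_univ, Set.union_empty] at this
  obtain ⟨a₁, -, ha₁⟩ := hd.inter_open_nonempty Set.univ isOpen_univ
    ⟨(lift (1 : T ⟶ H) (𝟙 T)).left s₀, trivial⟩
  obtain ⟨w, hw1, hw2⟩ := hd.inter_open_nonempty (τ.left ⁻¹' ((fst H T).left ⁻¹' D)) (hoV.preimage τ.left.continuous)
    ⟨τ'.left a₁, by
      rw [Set.mem_preimage, ← Scheme.Hom.comp_apply, ← Over.comp_left, hτ, Over.id_left]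
      simpa using ha₁⟩
  obtain ⟨T', x, r, hr, hx⟩ := exists_point (H ⊗ T) w
  refine ⟨T', x, r, hr, ?_, ?_⟩
  · rintro _ ⟨r', rfl⟩
    rw [Over.comp_left, Scheme.Hom.comp_apply, hx]
    exact hw2
  · rw [← MonObj.comp_mul, ← hτf]
    rintro _ ⟨r', rfl⟩
    rw [Over.comp_left, Over.comp_left, Scheme.Hom.comp_apply, Scheme.Hom.comp_apply, hx]
    exact hw1

omit [IsReduced C.left] in
theorem exists_fac_translate {S : Scheme.{u}} {H G₀ Γ' T : Over S} [GrpObj H] [GrpObj G₀] [GrpObj Γ'] (jC : H ⟶ G₀)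
    [IsMonHom jC] (i' : Γ' ⟶ G₀) [IsMonHom i'] (a b : T ⟶ H) (t₁ t₂ : T ⟶ Γ') (ht₁ : t₁ ≫ i' = a ≫ jC)
    (ht₂ : t₂ ≫ i' = (b * a) ≫ jC) : (t₂ * t₁⁻¹) ≫ i' = b ≫ jC := by
  rw [MonObj.mul_comp, GrpObj.inv_comp, ht₁, ht₂, MonObj.mul_comp, mul_inv_cancel_right]

omit [IsReduced C.left] in
theorem mem_range_of_dense {S : Scheme.{u}} {H G₀ Γ' T : Over S} [GrpObj H] [GrpObj G₀] [GrpObj Γ'] (jC : H ⟶ G₀)
    [IsMonHom jC] (i' : Γ' ⟶ G₀) [IsMonHom i'] [IsImmersion i'.left] (ξ : T ⟶ H) (p : H.left) (s₀ : T.left)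
    (hξ : ∀ r, ξ.left r = p) (hd : Dense ((fst H T).left ⁻¹' Set.range (pullback.fst jC.left i'.left))) :
    p ∈ Set.range (pullback.fst jC.left i'.left) := by
  haveI : IsImmersion (pullback.fst jC.left i'.left) := MorphismProperty.pullback_fst _ _ inferInstance
  obtain ⟨T', x, r, hr, h1, h2⟩ := exists_two_points ξ s₀ (Scheme.Hom.isLocallyClosed_range _) hd
  haveI := hr
  obtain ⟨t₁, ht₁⟩ := exists_fac_pullback jC i' (x ≫ fst _ _) h1
  obtain ⟨t₂, ht₂⟩ := exists_fac_pullback jC i' ((x ≫ snd _ _ ≫ ξ) * (x ≫ fst _ _)) h2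
  have h3 := mem_range_of_fac jC i' (x ≫ snd _ _ ≫ ξ) _ (exists_fac_translate jC i' _ _ t₁ t₂ ht₁ ht₂) r
  rwa [Over.comp_left, Over.comp_left, Scheme.Hom.comp_apply, Scheme.Hom.comp_apply, hξ] at h3

omit [IsReduced C.left] in
/-- A subgroup whose preimage in a group is dense over every point contains all points. -/
theorem surjective_of_dense {S : Scheme.{u}} {H G₀ Γ' : Over S} [GrpObj H] [GrpObj G₀] [GrpObj Γ'] (jC : H ⟶ G₀)
    [IsMonHom jC] (i' : Γ' ⟶ G₀) [IsMonHom i'] [IsImmersion i'.left]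
    (hd : ∀ (T : Over S) (K : Type u) (_ : Field K), T.left = Spec (CommRingCat.of K) →
      Dense ((fst H T).left ⁻¹' Set.range (pullback.fst jC.left i'.left))) :
    Surjective (pullback.fst jC.left i'.left) := by
  refine ⟨fun p => ?_⟩
  obtain ⟨s₀⟩ : Nonempty (Spec (H.left.residueField p)) := inferInstance
  exact mem_range_of_dense jC i' (T := Over.mk (H.left.fromSpecResidueField p ≫ H.hom))
    (Over.homMk (H.left.fromSpecResidueField p) rfl) p s₀
    (fun r => Set.mem_singleton_iff.mp ((Scheme.range_fromSpecResidueField p).le ⟨r, rfl⟩))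
    (hd (Over.mk (H.left.fromSpecResidueField p ≫ H.hom)) (H.left.residueField p) inferInstance rfl)

omit [IsReduced C.left] in
include hd in
/-- **A subgroup containing the base change of a dense family contains all points.** -/
theorem range_of_dense_family {G₀ : Over S} [GrpObj G₀] [GrpObj (Red.bc σ C)] (jC : Red.bc σ C ⟶ G₀) [IsMonHom jC]
    {Γ' : Over S} [GrpObj Γ'] (i' : Γ' ⟶ G₀) [IsMonHom i'] [IsImmersion i'.left]
    (h : ∀ j, ∃ z, z ≫ i' = (Over.pullback σ).map (u j) ≫ jC) :
    Surjective (pullback.fst jC.left i'.left) := by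
  refine surjective_of_dense jC i' fun T K _ eT => ?_
  refine (dense_preimage_field σ T eT hd).mono (Set.preimage_mono ?_)
  intro a ha
  obtain ⟨j, hj⟩ := Set.mem_iUnion.mp ha
  obtain ⟨b, rfl⟩ := (Spread.range_map σ (u j)).ge (show pullback.fst C.hom σ a ∈ _ from hj)
  obtain ⟨z, hz⟩ := h j
  exact mem_range_of_fac jC i' _ z hz b

end

end Groth.Agent.Deform.GenSub
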