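import Groth.Agent.Deform.GenSub.Topo
import Groth.Agent.Deform.Luna.SolvPts
import Groth.Agent.Deform.Luna.SolvDim
import Groth.Agent.S12442

/-!
# Sets of rational points which are images of morphisms, and the subgroups they generate
-/

set_option autoImplicit false

universe u

open CategoryTheory MonoidalCategory CartesianMonoidalCategory MonObj GrpObj AlgebraicGeometry Topology

attribute [local instance] CategoryTheory.Hom.monoid CategoryTheory.Hom.group
set_option linter.style.haveILetI false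
set_option linter.unusedSectionVars false

namespace Groth.Agent.Deform.GenSub

noncomputable section

open Chev Luna.SolvBound Luna.SolvPts

variable {k : Type u} [Field k] {G : Over (Spec (CommRingCat.of k))}

/-- The rational points under a morphism from a scheme of finite type. -/
def IsImg (S : Set (Pt G)) : Prop :=
  ∃ (W : Over (Spec (CommRingCat.of k))) (_ : LocallyOfFiniteType W.hom) (_ : QuasiCompact W.hom) (w : W ⟶ G),
    S = Set.range fun y : Pt W => y ≫ w

theorem IsImg.range {W : Over (Spec (CommRingCat.of k))} [LocallyOfFiniteType W.hom] [QuasiCompact W.hom]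
    (w : W ⟶ G) : IsImg (Set.range fun y : Pt W => y ≫ w) :=
  ⟨W, ‹_›, ‹_›, w, rfl⟩

theorem IsImg.singleton (g : Pt G) : IsImg ({g} : Set (Pt G)) := by
  haveI : LocallyOfFiniteType (𝟙_ (Over (Spec (CommRingCat.of k)))).hom :=
    inferInstanceAs (LocallyOfFiniteType (𝟙 (Spec (CommRingCat.of k))))
  haveI : QuasiCompact (𝟙_ (Over (Spec (CommRingCat.of k)))).hom :=
    inferInstanceAs (QuasiCompact (𝟙 (Spec (CommRingCat.of k))))
  refine ⟨𝟙_ _, ‹_›, ‹_›, g, ?_⟩
  ext x
  constructor
  · rintro rfl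
    exact ⟨𝟙 _, Category.id_comp _⟩
  · rintro ⟨y, rfl⟩
    show y ≫ g = g
    rw [toUnit_unique y (𝟙 _), Category.id_comp]

/-- Images of products under a natural binary operation. -/
theorem IsImg.image2 {S S' : Set (Pt G)} (hS : IsImg S) (hS' : IsImg S')
    (m : ∀ T : Over (Spec (CommRingCat.of k)), (T ⟶ G) → (T ⟶ G) → (T ⟶ G))
    (nat : ∀ (T T' : Over (Spec (CommRingCat.of k))) (f : T' ⟶ T) (a b : T ⟶ G), f ≫ m T a b = m T' (f ≫ a) (f ≫ b)) :
    IsImg (Set.image2 (m _) S S') := by
  obtain ⟨W, hW, hW', w, rfl⟩ := hS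
  obtain ⟨V, hV, hV', v, rfl⟩ := hS'
  haveI : LocallyOfFiniteType (W ⊗ V).hom := by rw [Over.tensorObj_hom]; infer_instance
  haveI : QuasiCompact (W ⊗ V).hom := by rw [Over.tensorObj_hom]; infer_instance
  refine ⟨W ⊗ V, ‹_›, ‹_›, m _ (fst W V ≫ w) (snd W V ≫ v), ?_⟩
  ext g
  constructor
  · rintro ⟨_, ⟨y, rfl⟩, _, ⟨z, rfl⟩, rfl⟩
    exact ⟨lift y z, (nat _ _ _ _ _).trans (by rw [lift_fst_assoc, lift_snd_assoc])⟩
  · rintro ⟨y, rfl⟩
    exact ⟨_, ⟨y ≫ fst W V, rfl⟩, _, ⟨y ≫ snd W V, rfl⟩, ((nat _ _ y _ _).trans (by simp only [Category.assoc])).symm⟩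

variable [GrpObj G]

theorem IsImg.mul {S S' : Set (Pt G)} (hS : IsImg S) (hS' : IsImg S') : IsImg (Set.image2 (· * ·) S S') :=
  hS.image2 hS' (fun _ a b => a * b) fun _ _ f a b => MonObj.comp_mul f a b

theorem IsImg.inv {S : Set (Pt G)} (hS : IsImg S) : IsImg ((fun g => g⁻¹) '' S) := by
  obtain ⟨W, hW, hW', w, rfl⟩ := hS
  refine ⟨W, hW, hW', w⁻¹, ?_⟩
  rw [← Set.range_comp]
  exact congrArg Set.range (funext fun y => (GrpObj.comp_inv y w).symm)

variable [IsAlgClosed k] [LocallyOfFiniteType G.hom]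

theorem lfp_qc_of_grp {W : Over (Spec (CommRingCat.of k))} [LocallyOfFiniteType W.hom] [QuasiCompact W.hom]
    (w : W ⟶ G) : LocallyOfFinitePresentation w.left ∧ QuasiCompact w.left := by
  haveI := GrpSchLib.AntiAffine.isSeparated_grp G
  haveI : LocallyOfFinitePresentation (w.left ≫ G.hom) := by rw [Over.w w]; infer_instance
  haveI : QuasiCompact (w.left ≫ G.hom) := by rw [Over.w w]; infer_instance
  exact ⟨S12442.locallyOfFinitePresentation_of_comp w.left G.hom, QuasiCompact.of_comp w.left G.hom⟩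

/-- The points of an image are the points in the image. -/
theorem range_pt_eq {W : Over (Spec (CommRingCat.of k))} [LocallyOfFiniteType W.hom] (w : W ⟶ G) :
    Set.range (fun y : Pt W => y ≫ w) = pimg ⁻¹' Set.range w.left := by
  ext g
  refine ⟨fun ⟨y, hy⟩ => ⟨pimg y, by rw [← hy]; rfl⟩, fun ⟨x, hx⟩ => ?_⟩
  have hc : IsClosed ({pimg g} : Set G.left) := ((pointEquivClosedPoint G.hom) ⟨g.left, Over.w g⟩).2
  obtain ⟨y, hy⟩ := exists_pt (G := W) (S := w.left ⁻¹' {pimg g}) ⟨x, hx⟩
    (hc.preimage w.left.continuous).isLocallyClosed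
  exact ⟨y, pimg_injective hy⟩

/-- The constructibility of an image. -/
theorem isConstructible_range {W : Over (Spec (CommRingCat.of k))} [LocallyOfFiniteType W.hom] [QuasiCompact W.hom]
    (w : W ⟶ G) : IsConstructible (Set.range w.left) := by
  haveI := GrpSchLib.AntiAffine.isSeparated_grp G
  obtain ⟨_, _⟩ := lfp_qc_of_grp w
  haveI : QuasiSeparatedSpace G.left := quasiSeparatedSpace_of_quasiSeparated G.hom
  haveI : CompactSpace W.left := QuasiCompact.compactSpace_of_compactSpace W.hom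
  have h : IsLocallyConstructible (Set.range w.left) := by
    rw [← Set.image_univ]
    exact w.left.isLocallyConstructible_image IsConstructible.univ.isLocallyConstructible
  exact h.isConstructible_of_subset_of_isCompact subset_rfl (isCompact_range w.left.continuous)

theorem IsImg.finLC {S : Set (Pt G)} (hS : IsImg S) : @FinLC _ (ptTop G) S := by
  obtain ⟨W, _, _, w, rfl⟩ := hS
  letI := ptTop G
  rw [range_pt_eq]
  exact (finLC_of_isConstructible (isConstructible_range w)).1.preimage isInducing_pimg.continuous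

/-- **A subgroup which is a finite union of images is closed.** -/
theorem isClosed_of_img (H : Subgroup (Pt G)) {J : Type u} [Finite J] (S : J → Set (Pt G)) (hS : ∀ i, IsImg (S i))
    (hH : (H : Set (Pt G)) = ⋃ i, S i) : IsClosed[ptTop G] (H : Set (Pt G)) := by
  letI := ptTop G
  exact isClosed_subgroup sepCont H (hH ▸ FinLC.iUnion fun i => (hS i).finLC)

/-- **The subgroup scheme of a group of points which is a finite union of images.** -/
theorem exists_subgroup_of_img (H : Subgroup (Pt G)) {J : Type u} [Finite J]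
    (W : J → Over (Spec (CommRingCat.of k))) [∀ i, LocallyOfFiniteType (W i).hom] [∀ i, QuasiCompact (W i).hom]
    (w : ∀ i, W i ⟶ G) (hH : (H : Set (Pt G)) = ⋃ i, Set.range fun y : Pt (W i) => y ≫ w i) :
    ∃ (Y : Over (Spec (CommRingCat.of k))) (_ : GrpObj Y) (i : Y ⟶ G), IsMonHom i ∧ IsClosedImmersion i.left ∧
      Smooth Y.hom ∧ QuasiCompact Y.hom ∧ Set.range i.left = (⋃ j, Set.range (w j).left) ∧
      (Set.range fun y : Pt Y => y ≫ i) = H := by
  letI := ptTop G
  have hcl : IsClosed (H : Set (Pt G)) := isClosed_of_img H _ (fun i => IsImg.range (w i)) hH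
  obtain ⟨C₀, hC₀, hC₀H⟩ := isInducing_pimg.isClosed_iff.mp hcl
  set C : Set G.left := ⋃ j, Set.range (w j).left with hC
  have hpre : pimg ⁻¹' C = (H : Set (Pt G)) := by
    simp only [hC, Set.preimage_iUnion, hH, range_pt_eq]
  have hclosed : IsClosed C := by
    have hsub : C ⊆ closure (pimg '' (H : Set (Pt G))) := by
      refine Set.iUnion_subset fun j => ?_
      rintro _ ⟨x, rfl⟩
      haveI : JacobsonSpace (W j).left := LocallyOfFiniteType.jacobsonSpace (W j).hom
      have hx : x ∈ closure (closedPoints (W j).left) := by rw [closure_closedPoints]; trivial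
      refine closure_mono ?_ (image_closure_subset_closure_image (w j).left.continuous ⟨x, hx, rfl⟩)
      rintro _ ⟨z, hz, rfl⟩
      obtain ⟨y, rfl⟩ := exists_pimg_eq (G := W j) hz
      exact ⟨y ≫ w j, hH ▸ Set.mem_iUnion.mpr ⟨j, y, rfl⟩, rfl⟩
    have hC₀' : closure (pimg '' (H : Set (Pt G))) ⊆ C₀ :=
      closure_minimal (by rw [← hC₀H]; exact Set.image_preimage_subset _ _) hC₀
    suffices hge : C₀ ⊆ C by
      rw [show C = C₀ from (hsub.trans hC₀').antisymm hge]
      exact hC₀
    by_contra hne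
    obtain ⟨x, hx, hxC⟩ := Set.not_subset.mp hne
    have hfin : FinLC Cᶜ := by
      have hcons : IsConstructible C := IsConstructible.iUnion fun j => isConstructible_range (w j)
      exact (finLC_of_isConstructible hcons).2
    obtain ⟨𝒮, -, hl, he⟩ := hfin
    obtain ⟨L, hL, hxL⟩ : x ∈ ⋃₀ 𝒮 := he ▸ hxC
    obtain ⟨g, hg, hgL⟩ := exists_pt (G := G) (S := C₀ ∩ L) ⟨x, hx, hxL⟩ (hC₀.isLocallyClosed.inter (hl L hL))
    have hgH : g ∈ (H : Set (Pt G)) := hC₀H ▸ hg
    rw [← hpre] at hgH
    exact (show pimg g ∈ Cᶜ by rw [he]; exact ⟨L, hL, hgL⟩) hgH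
  let I := Scheme.IdealSheafData.vanishingIdeal (⟨C, hclosed⟩ : TopologicalSpace.Closeds G.left)
  let Y : Over (Spec (CommRingCat.of k)) := Over.mk (I.subschemeι ≫ G.hom)
  let i : Y ⟶ G := Over.homMk I.subschemeι rfl
  haveI : IsReduced Y.left := H23.RedSub.isReduced_vanishingIdeal ⟨C, hclosed⟩
  haveI : IsClosedImmersion i.left := inferInstanceAs (IsClosedImmersion I.subschemeι)
  haveI : LocallyOfFiniteType Y.hom := inferInstanceAs (LocallyOfFiniteType (I.subschemeι ≫ G.hom))
  haveI : Mono i := (Over.forget _).mono_of_mono_map (inferInstanceAs (Mono i.left))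
  have hr : Set.range i.left = C := H23.RedSub.range_vanishingIdeal ⟨C, hclosed⟩
  have hcpt : IsCompact C := isCompact_iUnion fun j =>
    haveI : CompactSpace (W j).left := QuasiCompact.compactSpace_of_compactSpace (W j).hom
    isCompact_range (w j).left.continuous
  haveI : CompactSpace Y.left := by
    rw [← isCompact_univ_iff, i.left.isClosedEmbedding.isCompact_iff, Set.image_univ, hr]
    exact hcpt
  haveI : QuasiCompact Y.hom := (quasiCompact_iff_compactSpace Y.hom).mpr inferInstance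
  have hpts : ∀ {T : Over (Spec (CommRingCat.of k))} [LocallyOfFiniteType T.hom] (f : T ⟶ G),
      (∀ y : Pt T, y ≫ f ∈ H) → Set.range f.left ⊆ C := by
    intro T _ f hf
    rintro _ ⟨x, rfl⟩
    by_contra hx
    obtain ⟨y, hy⟩ := exists_pt (G := T) (S := f.left ⁻¹' Cᶜ) ⟨x, hx⟩
      (hclosed.isOpen_compl.preimage f.left.continuous).isLocallyClosed
    exact hy (show pimg (y ≫ f) ∈ C from Set.mem_preimage.mp (hpre.ge (hf y)))
  have hY : ∀ y : Pt Y, y ≫ i ∈ H := fun y => hpre.le (show pimg (y ≫ i) ∈ C from hr ▸ ⟨pimg y, rfl⟩)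
  haveI : IsReduced (Y ⊗ Y).left := GrpSchLib.isReduced_pullback_of_perfectField Y.hom Y.hom
  haveI : LocallyOfFiniteType (Y ⊗ Y).hom := by rw [Over.tensorObj_hom]; infer_instance
  haveI : IsReduced (𝟙_ (Over (Spec (CommRingCat.of k)))).left := inferInstanceAs (IsReduced (Spec (CommRingCat.of k)))
  obtain ⟨e, he⟩ := exists_lift_range i η[G] (hr ▸ (by
    rintro _ ⟨z, rfl⟩
    rw [Subsingleton.elim (α := Spec (CommRingCat.of k)) z (IsLocalRing.closedPoint k)]
    exact hpre.ge (show η[G] ∈ H from MonObj.one_eq_one (M := G) ▸ H.one_mem)))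
  obtain ⟨m, hm⟩ := exists_lift_range i ((fst Y Y ≫ i) * (snd Y Y ≫ i)) (hr ▸ hpts _ fun y => by
    rw [MonObj.comp_mul, ← Category.assoc, ← Category.assoc]
    exact H.mul_mem (hY _) (hY _))
  obtain ⟨v, hv⟩ := exists_lift_range i i⁻¹ (hr ▸ hpts _ fun y => by
    rw [GrpObj.comp_inv]
    exact H.inv_mem (hY _))
  obtain ⟨str, hi⟩ := GrpSchLib.exists_grpObj_of_mono i e he m hm v hv
  haveI : Smooth Y.hom := GrpSchLib.smooth_of_perfectField_of_isReduced Y
  exact ⟨Y, str, i, hi, inferInstance, inferInstance, inferInstance, hr, by rw [range_pt_eq, hr, hpre]⟩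

/-- Products of the members of a list of sets. -/
def listMul {J : Type u} (S : J → Set (Pt G)) : List J → Set (Pt G)
  | [] => {1}
  | i :: l => Set.image2 (· * ·) (S i) (listMul S l)

theorem isImg_listMul {J : Type u} {S : J → Set (Pt G)} (hS : ∀ i, IsImg (S i)) :
    ∀ l, IsImg (listMul S l)
  | [] => IsImg.singleton 1
  | i :: l => (hS i).mul (isImg_listMul hS l)

theorem listMul_subset {J : Type u} {S : J → Set (Pt G)} {H : Subgroup (Pt G)} (hS : ∀ i, S i ⊆ H) :
    ∀ l, listMul S l ⊆ H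
  | [] => fun _ hx => hx ▸ H.one_mem
  | i :: l => by
    rintro _ ⟨a, ha, b, hb, rfl⟩
    exact H.mul_mem (hS i ha) (listMul_subset hS l hb)

theorem mul_mem_listMul {J : Type u} {S : J → Set (Pt G)} {a b : Pt G} :
    ∀ {l l' : List J}, a ∈ listMul S l → b ∈ listMul S l' → a * b ∈ listMul S (l ++ l')
  | [], l', ha, hb => by
    rw [show a = 1 from ha, _root_.one_mul]
    exact hb
  | i :: l, l', ha, hb => by
    obtain ⟨x, hx, y, hy, rfl⟩ := ha
    exact ⟨x, hx, y * b, mul_mem_listMul hy hb, (_root_.mul_assoc x y b).symm⟩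

theorem one_mem_listMul {J : Type u} {S : J → Set (Pt G)} (h1 : ∀ i, (1 : Pt G) ∈ S i) :
    ∀ l, (1 : Pt G) ∈ listMul S l
  | [] => rfl
  | i :: l => ⟨1, h1 i, 1, one_mem_listMul h1 l, _root_.one_mul 1⟩

/-- Closed irreducible sets of rational points through the unit have bounded chains. -/
theorem exists_chain_bound : ∃ d : ℕ, ∀ c : ℕ → Set (Pt G),
    (∀ j ≤ d + 1, IsClosed[ptTop G] (c j) ∧ @IsIrreducible _ (ptTop G) (c j) ∧ (1 : Pt G) ∈ c j) →
    (∀ j ≤ d, c (j + 1) ⊂ c j) → False := by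
  haveI : IsLocallyNoetherian G.left := LocallyOfFiniteType.isLocallyNoetherian G.hom
  obtain ⟨G₀, iG₀, i₀, hi₀, hcc, hcf, hcr, -, hGc⟩ := GrpSchLib.exists_identityComponent (G := G)
  haveI := hcc; haveI := hcf; haveI := hGc
  haveI : IsOpenImmersion i₀.left := IsOpenImmersion.of_flat_of_mono i₀.left
  haveI : LocallyOfFiniteType G₀.hom := by rw [← Over.w i₀]; infer_instance
  haveI : QuasiCompact G₀.hom := (quasiCompact_iff_compactSpace G₀.hom).mpr inferInstance
  obtain ⟨d, hd⟩ := Luna.SolvDim.exists_chainBound G₀.hom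
    (U := (⊤ : (Spec (CommRingCat.of k)).Opens)) (isAffineOpen_top _)
  have hd' := hd k (𝟙 _) trivial
  let e := Limits.pullback.fst G₀.hom (𝟙 (Spec (CommRingCat.of k))) ≫ i₀.left
  have he : η[G].left (IsLocalRing.closedPoint k) ∈ Set.range e := by
    have h : η[G].left (IsLocalRing.closedPoint k) ∈ Set.range i₀.left := hcr ▸ mem_connectedComponent
    obtain ⟨z, hz⟩ := h
    refine ⟨inv (Limits.pullback.fst G₀.hom (𝟙 (Spec (CommRingCat.of k)))) z, ?_⟩
    rw [← Scheme.Hom.comp_apply, IsIso.inv_hom_id_assoc]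
    exact hz
  letI := ptTop G
  refine ⟨d, fun c hc hs => ?_⟩
  have hpre : ∀ j ≤ d + 1, pimg ⁻¹' closure (pimg '' c j) = c j := fun j hj => by
    rw [← isInducing_pimg.closure_eq_preimage_closure_image, (hc j hj).1.closure_eq]
  let C : ℕ → Set G.left := fun j => closure (pimg '' c j)
  have hCi : ∀ j ≤ d + 1, IsIrreducible (C j) := fun j hj =>
    ((hc j hj).2.1.image _ isInducing_pimg.continuous.continuousOn).closure
  have hne : ∀ j ≤ d + 1, (C j ∩ Set.range e).Nonempty := fun j hj =>
    ⟨_, subset_closure ⟨1, (hc j hj).2.2, rfl⟩,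
      show pimg (1 : Pt G) ∈ Set.range e by rw [← MonObj.one_eq_one]; exact he⟩
  refine hd' (fun j => e ⁻¹' C j) (fun j hj => ⟨isClosed_closure.preimage e.continuous,
    ⟨by obtain ⟨y, hy, v, rfl⟩ := hne j hj; exact ⟨v, hy⟩,
      (hCi j hj).isPreirreducible.preimage e.isOpenEmbedding⟩⟩) fun j hj => ?_
  refine (Set.preimage_mono (closure_mono (Set.image_mono (hs j hj).subset))).ssubset_of_ne fun eq =>
    (hs j hj).ne ?_
  rw [← hpre j (by omega), ← hpre (j + 1) (by omega)]
  refine congrArg (pimg ⁻¹' ·) ((closure_mono (Set.image_mono (hs j hj).subset)).antisymm ?_)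
  have e1 : C (j + 1) ∩ Set.range e = C j ∩ Set.range e := by
    rw [← Set.image_preimage_eq_inter_range, ← Set.image_preimage_eq_inter_range]
    exact congrArg (e '' ·) eq
  refine (subset_closure_inter_of_isPreirreducible_of_isOpen (hCi j (by omega)).isPreirreducible
    e.isOpenEmbedding.isOpen_range (hne j (by omega))).trans ?_
  show closure (C j ∩ Set.range e) ⊆ C (j + 1)
  rw [← e1]
  exact closure_minimal Set.inter_subset_left isClosed_closure

/-- **Irreducible images through the unit generate in a bounded number of steps.** -/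
theorem exists_listMul_eq {J : Type u} (S : J → Set (Pt G)) (hS : ∀ i, IsImg (S i))
    (hi : ∀ i, @IsPreirreducible _ (ptTop G) (S i)) (h1 : ∀ i, (1 : Pt G) ∈ S i)
    (hinv : ∀ i, ∃ j, (fun g => g⁻¹) '' S i ⊆ S j) :
    ∃ l : List J, listMul S l = Subgroup.closure (⋃ i, S i) ∧ @IsIrreducible _ (ptTop G) (listMul S l) := by
  letI := ptTop G
  have hsc : SepCont (Pt G) := sepCont
  have hirr : ∀ l, IsIrreducible (listMul S l) := fun l => ⟨⟨1, one_mem_listMul h1 l⟩, by
    induction l with
    | nil => exact isPreirreducible_singleton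
    | cons i l ih => exact isPreirreducible_image2 (· * ·) hsc.left hsc.right (hi i) ih⟩
  have hmono : ∀ i l, closure (listMul S l) ⊆ closure (listMul S (i :: l)) := fun i l =>
    closure_mono fun x hx => ⟨1, h1 i, x, hx, _root_.one_mul x⟩
  obtain ⟨d, hd⟩ := exists_chain_bound (G := G)
  obtain ⟨l, hl⟩ : ∃ l, ∀ i, closure (listMul S (i :: l)) = closure (listMul S l) := by
    by_contra! hne
    choose nxt hnxt using hne
    let L : ℕ → List J := fun n => Nat.rec [] (fun _ l => nxt l :: l) n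
    refine hd (fun j => closure (listMul S (L (d + 1 - j))))
      (fun j _ => ⟨isClosed_closure, (hirr _).closure, subset_closure (one_mem_listMul h1 _)⟩) fun j hj => ?_
    rw [show d + 1 - j = d + 1 - (j + 1) + 1 by omega]
    exact (hmono _ _).ssubset_of_ne (hnxt _).symm
  set H : Subgroup (Pt G) := Subgroup.closure (⋃ i, S i) with hH
  have hsub : ∀ l, listMul S l ⊆ H := listMul_subset fun i x hx => Subgroup.subset_closure (Set.mem_iUnion.mpr ⟨i, hx⟩)
  have hstab : ∀ i, ∀ x ∈ S i, ∀ y ∈ closure (listMul S l), x * y ∈ closure (listMul S l) := fun i x hx y hy => by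
    rw [← hl i]
    refine closure_mono ?_ (image_closure_subset_closure_image (hsc.left x) ⟨y, hy, rfl⟩)
    rintro _ ⟨z, hz, rfl⟩
    exact ⟨x, hx, z, hz, rfl⟩
  have hHsub : (H : Set (Pt G)) ⊆ closure (listMul S l) := fun x hx => by
    suffices h : ∀ y ∈ closure (listMul S l), x * y ∈ closure (listMul S l) by
      simpa using h 1 (subset_closure (one_mem_listMul h1 l))
    induction hx using Subgroup.closure_induction'' with
    | mem z hz => obtain ⟨i, hi'⟩ := Set.mem_iUnion.mp hz; exact hstab i z hi'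
    | inv_mem z hz =>
      obtain ⟨i, hi'⟩ := Set.mem_iUnion.mp hz
      obtain ⟨j, hj⟩ := hinv i
      exact hstab j _ (hj ⟨z, hi', rfl⟩)
    | one => intro y hy; rwa [_root_.one_mul]
    | mul a b _ _ ha hb => intro y hy; rw [_root_.mul_assoc]; exact ha _ (hb y hy)
  have hK : closure (listMul S l) = (clSub hsc H : Set (Pt G)) :=
    (closure_mono (hsub l)).antisymm (closure_minimal hHsub isClosed_closure)
  refine ⟨l ++ l, (hsub _).antisymm fun g hg => ?_, hirr _⟩
  obtain ⟨a, ha, b, hb, rfl⟩ := mem_mul_of_dense hsc (isImg_listMul hS l).finLC ⟨1, one_mem_listMul h1 l⟩ hK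
    (g := g) (subset_closure hg)
  exact mul_mem_listMul ha hb

end

end Groth.Agent.Deform.GenSub
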