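import Mathlib.GroupTheory.Schreier
import Mathlib.GroupTheory.FiniteAbelian.Basic
import Mathlib.GroupTheory.Commutator.Basic

/-!
# Baer's theorem: finitely many commutators of two normal subgroups generate a finite group
-/

set_option autoImplicit false
set_option linter.style.haveILetI false

universe u

namespace Groth.Agent.Deform.GenSub.Baer

open scoped commutatorElement

variable {Q : Type u} [Group Q]

/-- A group generated by a finite conjugation-invariant set has finitely many commutators. -/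
theorem finite_commutatorSet {K : Type u} [Group K] {S : Set K} (hS : S.Finite) (hgen : Subgroup.closure S = ⊤)
    (hinv : ∀ g : K, ∀ s ∈ S, g * s * g⁻¹ ∈ S) : Finite (commutatorSet K) := by
  haveI : Finite S := hS.to_subtype
  let conjMap : K →* Equiv.Perm S :=
    { toFun := fun g =>
        { toFun := fun s => ⟨g * s * g⁻¹, hinv g s s.2⟩
          invFun := fun s => ⟨g⁻¹ * s * g, by simpa using hinv g⁻¹ s s.2⟩
          left_inv := fun s => by ext; simp [mul_assoc]
          right_inv := fun s => by ext; simp [mul_assoc] }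
      map_one' := by ext; simp
      map_mul' := fun g h => by ext; simp [mul_assoc] }
  have hker : conjMap.ker ≤ Subgroup.center K := fun g hg => by
    rw [Subgroup.mem_center_iff]
    intro x
    have hle : Subgroup.closure S ≤ Subgroup.centralizer {g} := (Subgroup.closure_le _).mpr fun s hs => by
      rw [SetLike.mem_coe, Subgroup.mem_centralizer_singleton_iff]
      have h : g * s * g⁻¹ = s := congrArg Subtype.val (Equiv.ext_iff.mp (MonoidHom.mem_ker.mp hg) ⟨s, hs⟩)
      exact (eq_mul_of_mul_inv_eq h).symm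
    exact Subgroup.mem_centralizer_singleton_iff.mp (hle (hgen ▸ Subgroup.mem_top x))
  haveI : Finite (K ⧸ conjMap.ker) := Finite.of_equiv _ (QuotientGroup.quotientKerEquivRange conjMap).symm.toEquiv
  refine (Set.Finite.subset (Set.finite_range fun p : (K ⧸ conjMap.ker) × (K ⧸ conjMap.ker) => ⁅p.1.out, p.2.out⁆) ?_).to_subtype
  rintro _ ⟨a, b, rfl⟩
  refine ⟨((a : K ⧸ conjMap.ker), (b : K ⧸ conjMap.ker)), ?_⟩
  obtain ⟨⟨z, hz⟩, e⟩ := QuotientGroup.mk_out_eq_mul conjMap.ker a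
  obtain ⟨⟨w, hw⟩, e'⟩ := QuotientGroup.mk_out_eq_mul conjMap.ker b
  show ⁅(a : K ⧸ conjMap.ker).out, (b : K ⧸ conjMap.ker).out⁆ = ⁅a, b⁆
  rw [e, e']
  have hz' : ∀ y, y * z = z * y := Subgroup.mem_center_iff.mp (hker hz)
  have hw' : ∀ y, y * w = w * y := Subgroup.mem_center_iff.mp (hker hw)
  simp only [commutatorElement_def, mul_inv_rev]
  calc a * z * (b * w) * (z⁻¹ * a⁻¹) * (w⁻¹ * b⁻¹)
      = a * (z * (b * w)) * z⁻¹ * a⁻¹ * w⁻¹ * b⁻¹ := by group
    _ = a * ((b * w) * z) * z⁻¹ * a⁻¹ * w⁻¹ * b⁻¹ := by rw [hz' (b * w)]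
    _ = a * b * (w * a⁻¹) * w⁻¹ * b⁻¹ := by group
    _ = a * b * (a⁻¹ * w) * w⁻¹ * b⁻¹ := by rw [hw' a⁻¹]
    _ = a * b * a⁻¹ * b⁻¹ := by group

/-- The abelian case. -/
theorem finite_of_abelian (A B : Subgroup Q) [A.Normal] [B.Normal]
    (hS : (Set.image2 (fun a b : Q => (⁅a, b⁆ : Q)) A B).Finite)
    (hab : ∀ x ∈ (⁅A, B⁆ : Subgroup Q), ∀ y ∈ (⁅A, B⁆ : Subgroup Q), x * y = y * x) :
    Finite (⁅A, B⁆ : Subgroup Q) := by
  set K : Subgroup Q := ⁅A, B⁆ with hK
  set S : Set Q := Set.image2 (fun a b : Q => (⁅a, b⁆ : Q)) A B with hSdef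
  have hSK : S ⊆ K := by
    rintro _ ⟨a, ha, b, hb, rfl⟩
    exact Subgroup.commutator_mem_commutator ha hb
  have hKA : K ≤ A := Subgroup.commutator_le_left A B
  have hKB : K ≤ B := Subgroup.commutator_le_right A B
  -- a finite set closed under the powers of one element
  have hpow : ∀ (T : Set Q) (x : Q), T.Finite → (∀ j : ℕ, x ^ j ∈ T) → IsOfFinOrder x := fun T x hT h => by
    by_contra hx
    exact (Set.infinite_range_of_injective (fun i j e => injective_pow_iff_not_isOfFinOrder.mpr hx e :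
      Function.Injective fun j : ℕ => x ^ j)).mono (by rintro _ ⟨j, rfl⟩; exact h j) hT
  let n : ℕ := Nat.factorial hS.toFinset.card
  -- the powers `k ^ n` are central for `A` and `B`
  have hn : ∀ (x : Q), (∀ j : ℕ, x ^ j ∈ S) → x ^ n = 1 := fun x h => by
    have hx := hpow S x hS h
    refine orderOf_dvd_iff_pow_eq_one.mp (Nat.dvd_factorial hx.orderOf_pos ?_)
    rw [← Finset.card_range (orderOf x)]
    refine Finset.card_le_card_of_injOn (fun j => x ^ j) (fun j _ => hS.mem_toFinset.mpr (h j)) fun i hi j hj e => ?_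
    exact pow_injOn_Iio_orderOf (by simpa using hi) (by simpa using hj) e
  have hcentA : ∀ a ∈ A, ∀ k ∈ K, a * k ^ n * a⁻¹ = k ^ n := fun a ha k hk => by
    have hx : ⁅a, k⁆ ∈ K := Subgroup.commutator_mem_commutator ha (hKB hk)
    have hpw : ∀ j : ℕ, ⁅a, k⁆ ^ j = ⁅a, k ^ j⁆ := fun j => by
      have hc : Commute (a * k * a⁻¹) k⁻¹ :=
        hab _ (by have := K.mul_mem hx hk; simpa [commutatorElement_def] using this) _ (K.inv_mem hk)
      calc ⁅a, k⁆ ^ j = (a * k * a⁻¹) ^ j * k⁻¹ ^ j := by rw [commutatorElement_def]; exact hc.mul_pow j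
        _ = ⁅a, k ^ j⁆ := by rw [conj_pow, inv_pow, commutatorElement_def]
    have h1 := hn ⁅a, k⁆ fun j => ⟨a, ha, k ^ j, hKB (K.pow_mem hk j), (hpw j).symm⟩
    rw [hpw, commutatorElement_def] at h1
    exact mul_inv_eq_one.mp h1
  have hcentB : ∀ b ∈ B, ∀ k ∈ K, b * k ^ n * b⁻¹ = k ^ n := fun b hb k hk => by
    have hx : ⁅k, b⁆ ∈ K := Subgroup.commutator_mem_commutator (hKA hk) hb
    have hpw : ∀ j : ℕ, ⁅k, b⁆ ^ j = ⁅k ^ j, b⁆ := fun j => by
      have hm : b * k⁻¹ * b⁻¹ ∈ K := by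
        have := K.mul_mem (K.inv_mem hk) hx
        simpa [commutatorElement_def, mul_assoc] using this
      have hc : Commute k (b * k⁻¹ * b⁻¹) := hab _ hk _ hm
      calc ⁅k, b⁆ ^ j = (k * (b * k⁻¹ * b⁻¹)) ^ j := by rw [commutatorElement_def]; group
        _ = k ^ j * (b * k⁻¹ * b⁻¹) ^ j := hc.mul_pow j
        _ = ⁅k ^ j, b⁆ := by rw [conj_pow, inv_pow, commutatorElement_def]; group
    have h1 := hn ⁅k, b⁆ fun j => ⟨k ^ j, hKA (K.pow_mem hk j), b, hb, (hpw j).symm⟩
    rw [hpw, commutatorElement_eq_one_iff_mul_comm] at h1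
    rw [← h1, mul_inv_cancel_right]
  -- each commutator is torsion
  have htors : ∀ s ∈ S, IsOfFinOrder s := by
    rintro _ ⟨a, ha, b, hb, rfl⟩
    show IsOfFinOrder (⁅a, b⁆ : Q)
    set x : Q := ⁅a, b⁆ with hx
    have hxK : x ∈ K := Subgroup.commutator_mem_commutator ha hb
    have hj : ∀ j : ℕ, ⁅a, b ^ j⁆ ^ n = (x ^ n) ^ j := fun j => by
      induction j with
      | zero => simp
      | succ j ih =>
        have hxj : ⁅a, b ^ j⁆ ∈ K := Subgroup.commutator_mem_commutator ha (B.pow_mem hb j)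
        have hconj : b * ⁅a, b ^ j⁆ * b⁻¹ ∈ K := (Subgroup.commutator_normal A B).conj_mem _ hxj b
        have hc : Commute x (b * ⁅a, b ^ j⁆ * b⁻¹) := hab _ hxK _ hconj
        calc ⁅a, b ^ (j + 1)⁆ ^ n = (x * (b * ⁅a, b ^ j⁆ * b⁻¹)) ^ n := by
              congr 1; rw [hx, pow_succ']; simp only [commutatorElement_def]; group
          _ = x ^ n * (b * ⁅a, b ^ j⁆ * b⁻¹) ^ n := hc.mul_pow n
          _ = x ^ n * (x ^ n) ^ j := by rw [conj_pow, hcentB b hb _ hxj, ih]
          _ = (x ^ n) ^ (j + 1) := (pow_succ' _ _).symm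
    have h : IsOfFinOrder (x ^ n) := hpow _ _ (hS.image (fun s => s ^ n)) fun j =>
      ⟨_, ⟨a, ha, b ^ j, B.pow_mem hb j, rfl⟩, hj j⟩
    exact h.of_pow (Nat.factorial_pos _).ne'
  letI : CommGroup K := { (inferInstance : Group K) with mul_comm := fun x y => Subtype.ext (hab x x.2 y y.2) }
  have hgen : K = Subgroup.closure S := rfl
  haveI : Group.FG K := by
    rw [Group.fg_iff_subgroup_fg, hgen]
    exact ⟨hS.toFinset, by simp⟩
  refine CommGroup.finite_of_fg_isMulTorsion _ fun y => ?_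
  obtain ⟨y, hy⟩ := y
  rw [← Submonoid.isOfFinOrder_coe]
  show IsOfFinOrder y
  have hy' : y ∈ Subgroup.closure S := hgen ▸ hy
  induction hy' using Subgroup.closure_induction with
  | mem s hs => exact htors s hs
  | one => exact IsOfFinOrder.one
  | mul u v hu hv ihu ihv => exact Commute.isOfFinOrder_mul (hab u (hgen ▸ hu) v (hgen ▸ hv)) (ihu (hgen ▸ hu)) (ihv (hgen ▸ hv))
  | inv u hu ihu => exact (ihu (hgen ▸ hu)).inv

/-- **Baer's theorem.** -/
theorem finite_commutator (A B : Subgroup Q) [A.Normal] [B.Normal]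
    (hS : (Set.image2 (fun a b : Q => (⁅a, b⁆ : Q)) A B).Finite) : Finite (⁅A, B⁆ : Subgroup Q) := by
  set K : Subgroup Q := ⁅A, B⁆ with hK
  set S : Set Q := Set.image2 (fun a b : Q => (⁅a, b⁆ : Q)) A B with hSdef
  have hSK : S ⊆ K := by
    rintro _ ⟨a, ha, b, hb, rfl⟩
    exact Subgroup.commutator_mem_commutator ha hb
  have hgen : Subgroup.closure ((↑) ⁻¹' S : Set K) = ⊤ := by
    apply Subgroup.map_injective K.subtype_injective
    rw [MonoidHom.map_closure, Subgroup.coe_subtype, Set.image_preimage_eq_of_subset (by simpa using hSK),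
      ← MonoidHom.range_eq_map, Subgroup.range_subtype]
    rfl
  haveI : Finite (commutatorSet K) := finite_commutatorSet (hS.preimage Subtype.val_injective.injOn) hgen (by
    rintro ⟨g, hg⟩ ⟨_, hs⟩ ⟨a, ha, b, hb, rfl⟩
    exact ⟨g * a * g⁻¹, (‹A.Normal›).conj_mem a ha g, g * b * g⁻¹, (‹B.Normal›).conj_mem b hb g, by
      simp [commutatorElement_def, mul_assoc]⟩)
  let D : Subgroup Q := ⁅K, K⁆
  haveI : D.Normal := Subgroup.commutator_normal K K
  haveI : Finite D := by
    show Finite (⁅K, K⁆ : Subgroup Q)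
    rw [← Subgroup.map_subtype_commutator]
    exact Finite.of_equiv _ (Subgroup.equivMapOfInjective _ _ K.subtype_injective).toEquiv
  let π := QuotientGroup.mk' D
  have hπ := QuotientGroup.mk'_surjective D
  haveI : (A.map π).Normal := Subgroup.Normal.map ‹_› π hπ
  haveI : (B.map π).Normal := Subgroup.Normal.map ‹_› π hπ
  have hmap : (⁅A.map π, B.map π⁆ : Subgroup (Q ⧸ D)) = K.map π := (Subgroup.map_commutator A B π).symm
  have hS' : (Set.image2 (fun a b : Q ⧸ D => (⁅a, b⁆ : Q ⧸ D)) (A.map π) (B.map π)).Finite := by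
    refine (hS.image π).subset ?_
    rintro _ ⟨_, ⟨a, ha, rfl⟩, _, ⟨b, hb, rfl⟩, rfl⟩
    exact ⟨⁅a, b⁆, ⟨a, ha, b, hb, rfl⟩, map_commutatorElement π a b⟩
  have hab : ∀ x ∈ (⁅A.map π, B.map π⁆ : Subgroup (Q ⧸ D)), ∀ y ∈ (⁅A.map π, B.map π⁆ : Subgroup (Q ⧸ D)),
      x * y = y * x := by
    rw [hmap]
    rintro _ ⟨x, hx, rfl⟩ _ ⟨y, hy, rfl⟩
    rw [← commutatorElement_eq_one_iff_mul_comm, ← map_commutatorElement]
    exact (QuotientGroup.eq_one_iff _).mpr (Subgroup.commutator_mem_commutator hx hy)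
  have h := finite_of_abelian (A.map π) (B.map π) hS' hab
  rw [hmap] at h
  let r : ↥(K.map π) → Q := fun z => Function.surjInv hπ z.1
  haveI := h
  refine (Set.Finite.subset (Set.finite_range fun p : ↥(K.map π) × D => r p.1 * p.2) fun x hx => ?_).to_subtype
  let z : ↥(K.map π) := ⟨π x, x, hx, rfl⟩
  refine ⟨(z, ⟨(r z)⁻¹ * x, QuotientGroup.eq.mp ((Function.surjInv_eq hπ (π x)) : π (r z) = π x)⟩), ?_⟩
  exact mul_inv_cancel_left _ _

end Groth.Agent.Deform.GenSub.Baer
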