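import Groth.Agent.Deform.GenSub.Descend
import Groth.Agent.Deform.GenSub.Baer
import Groth.Agent.GeomLoci.ConnCount
import Groth.Prelude.Def_AlgGrp

/-!
# The commutator morphism of two subgroups generates in boundedly many steps
-/

set_option autoImplicit false

universe u

open CategoryTheory CategoryTheory.Limits MonoidalCategory CartesianMonoidalCategory MonObj GrpObj AlgebraicGeometry

attribute [local instance] CategoryTheory.Hom.monoid CategoryTheory.Hom.group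
set_option linter.style.haveILetI false
set_option linter.unusedSectionVars false

namespace Groth.Agent.Deform.GenSub

noncomputable section

open Chev Luna.SolvBound Luna.SolvPts Luna.SolvWords
open scoped commutatorElement

section Group

variable {P : Type*} [Group P]

theorem mem_wVal_append {S : Set P} : ∀ {l l' : List Bool} {a b : P}, a ∈ wVal S l → b ∈ wVal S l' →
    a * b ∈ wVal S (l ++ l')
  | [], _, a, b, ha, hb => by
    rw [show a = 1 from ha, _root_.one_mul]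
    exact hb
  | c :: l, _, a, b, ha, hb => by
    obtain ⟨x, hx, y, hy, rfl⟩ := ha
    exact ⟨x, hx, y * b, mem_wVal_append hy hb, (_root_.mul_assoc x y b).symm⟩

theorem exists_wVal (S : Set P) {x : P} (hx : x ∈ Subgroup.closure S) : ∃ l, x ∈ wVal S l := by
  induction hx using Subgroup.closure_induction'' with
  | one => exact ⟨[], rfl⟩
  | mem z hz => exact ⟨[true], z, hz, 1, rfl, _root_.mul_one z⟩
  | inv_mem z hz => exact ⟨[false], z⁻¹, ⟨z, hz, rfl⟩, 1, rfl, _root_.mul_one _⟩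
  | mul a b _ _ ha hb =>
    obtain ⟨l, hl⟩ := ha
    obtain ⟨l', hl'⟩ := hb
    exact ⟨l ++ l', mem_wVal_append hl hl'⟩

/-- Boundedness passes from a subgroup of finite index. -/
theorem bounded_of_finite_index {S : Set P} (H₁ : Subgroup P) (L : List Bool) (hL : (H₁ : Set P) ⊆ wVal S L)
    (hfin : ∃ F : Set P, F.Finite ∧ F ⊆ Subgroup.closure S ∧ ∀ h ∈ Subgroup.closure S, ∃ r ∈ F, r⁻¹ * h ∈ H₁) :
    Bounded S := by
  classical
  obtain ⟨F, hF, hFs, hcov⟩ := hfin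
  choose w hw using fun r : F => exists_wVal S (hFs r.2)
  haveI : Fintype F := hF.fintype
  refine ⟨(Finset.univ.sup fun r : F => (w r).length) + L.length, fun h hh => ?_⟩
  obtain ⟨r, hr, hrh⟩ := hcov h hh
  refine ⟨w ⟨r, hr⟩ ++ L, ?_, ?_⟩
  · rw [List.length_append]
    have := Finset.le_sup (f := fun r : F => (w r).length) (Finset.mem_univ ⟨r, hr⟩)
    omega
  · have := mem_wVal_append (hw ⟨r, hr⟩) (hL hrh)
    rwa [mul_inv_cancel_left] at this

theorem image_wVal {Q : Type*} [Group Q] (e : P →* Q) (S : Set P) : ∀ l, e '' wVal S l = wVal (e '' S) l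
  | [] => by simp [wVal]
  | b :: l => by
    have h : e '' sgnSet S b = sgnSet (e '' S) b := by
      cases b with
      | true => rfl
      | false => simp only [sgnSet, Set.image_image, map_inv]
    simp only [wVal, ← image_wVal e S l, ← h]
    exact Set.image_image2_distrib (map_mul e)

theorem bounded_of_mulEquiv {Q : Type*} [Group Q] (e : P ≃* Q) {S : Set P} (h : Bounded (e '' S)) : Bounded S := by
  obtain ⟨N, hN⟩ := h
  refine ⟨N, fun x hx => ?_⟩
  obtain ⟨l, hl, hxl⟩ := hN (e x) (by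
    rw [show e '' S = e.toMonoidHom '' S from rfl, ← MonoidHom.map_closure]
    exact ⟨x, hx, rfl⟩)
  refine ⟨l, hl, ?_⟩
  rw [show e '' S = e.toMonoidHom '' S from rfl, ← image_wVal] at hxl
  obtain ⟨y, hy, hye⟩ := hxl
  exact e.injective hye ▸ hy

end Group

variable {k : Type u} [Field k] [IsAlgClosed k] {G A B : Over (Spec (CommRingCat.of k))} [GrpObj G]
  [LocallyOfFiniteType G.hom]

theorem IsImg.range_hom {W : Over (Spec (CommRingCat.of k))} [LocallyOfFiniteType W.hom] [QuasiCompact W.hom]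
    {S : Set (Pt W)} (hS : IsImg S) (f : W ⟶ G) : IsImg ((fun y : Pt W => y ≫ f) '' S) := by
  obtain ⟨V, _, _, v, rfl⟩ := hS
  rw [← Set.range_comp]
  simpa [Function.comp_def, Category.assoc] using IsImg.range (v ≫ f)

theorem IsImg.comm {S S' : Set (Pt G)} (hS : IsImg S) (hS' : IsImg S') :
    IsImg (Set.image2 (fun a b : Pt G => (⁅a, b⁆ : Pt G)) S S') :=
  hS.image2 hS' (fun _ a b => ⁅a, b⁆) fun _ _ f a b => comp_commutator f a b

theorem preirreducible_comm {S S' : Set (Pt G)} (hS : @IsPreirreducible _ (ptTop G) S)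
    (hS' : @IsPreirreducible _ (ptTop G) S') :
    @IsPreirreducible _ (ptTop G) (Set.image2 (fun a b : Pt G => (⁅a, b⁆ : Pt G)) S S') := by
  letI := ptTop G
  exact isPreirreducible_image2 (fun a b : Pt G => (⁅a, b⁆ : Pt G)) sepCont.commR sepCont.commL hS hS'

theorem continuous_pt_comp {H : Over (Spec (CommRingCat.of k))} (f : H ⟶ G) :
    @Continuous _ _ (ptTop H) (ptTop G) fun y : Pt H => y ≫ f := by
  letI := ptTop G; letI := ptTop H
  refine isInducing_pimg.continuous_iff.mpr ?_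
  exact f.left.continuous.comp isInducing_pimg.continuous

/-- The neutral component of the points, as an image. -/
theorem exists_neutral_img (A : Over (Spec (CommRingCat.of k))) [GrpObj A] [Smooth A.hom] [QuasiCompact A.hom] :
    ∃ N : Subgroup (Pt A), N.Normal ∧ Finite (Pt A ⧸ N) ∧ @IsPreirreducible _ (ptTop A) (N : Set (Pt A)) ∧
      (∀ g : Pt A, IsImg ((fun x => g * x) '' (N : Set (Pt A)))) ∧
      (∀ f : A ⟶ A, (1 : Pt A) ≫ f = 1 → ∀ n ∈ N, n ≫ f ∈ N) ∧ (ConnectedSpace A.left → N = ⊤) := by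
  obtain ⟨N, hN, hNi, hNc, hNf⟩ := exists_neutral_pts (G := A)
  obtain ⟨A₀, iA₀, i₀, hi₀, hic, hio, hs₀, hq₀, hc₀, hr⟩ := exists_neutral A
  haveI := hic; haveI := hs₀; haveI := hq₀
  haveI : IsLocallyNoetherian A.left := LocallyOfFiniteType.isLocallyNoetherian A.hom
  haveI : CompactSpace A.left := QuasiCompact.compactSpace_of_compactSpace A.hom
  haveI : AlgebraicGeometry.IsNoetherian A.left := { }
  haveI := GeomLoci.finite_connectedComponents ↥A.left
  obtain ⟨m, hm⟩ : ∃ m : ℕ, ENat.card (_root_.ConnectedComponents A.left) ≤ m :=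
    ⟨_, (ENat.card_eq_coe_natCard _).le⟩
  have he : pimg (1 : Pt A) = η[A].left (IsLocalRing.closedPoint k) := by rw [← MonObj.one_eq_one]; rfl
  have himg : (N : Set (Pt A)) = Set.range fun y : Pt A₀ => y ≫ i₀ := by rw [range_pt_eq, hr, hNc]
  refine ⟨N, hN, (hNf m hm).1, hNi.2, fun g => ?_, fun f hf n hn => ?_, fun hconn => ?_⟩
  · rw [himg, ← Set.range_comp]
    have h : IsImg (Set.range fun y : Pt A₀ => y ≫ i₀ ≫ tr g) := IsImg.range (i₀ ≫ tr g)
    simpa [Function.comp_def, ← Category.assoc, pt_tr] using h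
  · rw [← SetLike.mem_coe, hNc, Set.mem_preimage, ← he] at hn ⊢
    have h := f.left.continuous.mapsTo_connectedComponent _ hn
    rw [← Luna.SolvPts.pimg_comp, ← Luna.SolvPts.pimg_comp, hf] at h
    exact h
  · refine SetLike.ext' ?_
    rw [hNc, Subgroup.coe_top, PreconnectedSpace.connectedComponent_eq_univ, Set.preimage_univ]

/-- The commutator set of two subgroups on rational points. -/
abbrev commSet (a : A ⟶ G) (b : B ⟶ G) : Set (Pt G) :=
  Set.image2 (fun x y : Pt G => (⁅x, y⁆ : Pt G)) (Set.range fun y : Pt A => y ≫ a) (Set.range fun y : Pt B => y ≫ b)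

theorem sgn_subset {S : Set (Pt G)} {C : Set (Pt G)} (h : S ⊆ C) (β : Bool) : sgnSet S β ⊆ sgnSet C β := by
  cases β with
  | true => exact h
  | false => exact Set.image_mono h

/-- A family of irreducible pieces of `C` through the unit. -/
theorem bounded_of_pieces {C : Set (Pt G)} {J : Type u} (S : J → Set (Pt G)) (hS : ∀ i, IsImg (S i))
    (hi : ∀ i, @IsPreirreducible _ (ptTop G) (S i)) (h1 : ∀ i, (1 : Pt G) ∈ S i) (hsub : ∀ i, S i ⊆ C) :
    ∃ L : List Bool, ((Subgroup.closure (⋃ i, S i) : Subgroup (Pt G)) : Set (Pt G)) ⊆ wVal C L ∧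
      @IsIrreducible _ (ptTop G) (Subgroup.closure (⋃ i, S i) : Set (Pt G)) := by
  letI := ptTop G
  let S' : J × ULift.{u} Bool → Set (Pt G) := fun p => sgnSet (S p.1) p.2.down
  have hU : Subgroup.closure (⋃ p, S' p) = Subgroup.closure (⋃ i, S i) := by
    refine le_antisymm ((Subgroup.closure_le _).mpr (Set.iUnion_subset fun ⟨i, ⟨β⟩⟩ => ?_))
      (Subgroup.closure_mono (Set.iUnion_subset fun i => Set.subset_iUnion S' (i, ⟨true⟩)))
    cases β with
    | true => exact fun x hx => Subgroup.subset_closure (Set.mem_iUnion.mpr ⟨i, hx⟩)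
    | false =>
      rintro _ ⟨x, hx, rfl⟩
      exact inv_mem (Subgroup.subset_closure (Set.mem_iUnion.mpr ⟨i, hx⟩))
  obtain ⟨l, hl, hirr⟩ := exists_listMul_eq S' (fun ⟨i, ⟨β⟩⟩ => by
      cases β with
      | true => exact hS i
      | false => exact (hS i).inv)
    (fun ⟨i, ⟨β⟩⟩ => by
      cases β with
      | true => exact hi i
      | false => exact (hi i).image _ sepCont.inv.continuousOn)
    (fun ⟨i, ⟨β⟩⟩ => by
      cases β with
      | true => exact h1 i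
      | false => exact ⟨1, h1 i, inv_one⟩)
    (fun ⟨i, ⟨β⟩⟩ => ⟨(i, ⟨!β⟩), by
      cases β with
      | true => exact subset_rfl
      | false => rintro _ ⟨_, ⟨x, hx, rfl⟩, rfl⟩; simpa [S', sgnSet] using hx⟩)
  rw [hU] at hl
  refine ⟨l.map fun p => p.2.down, ?_, hl ▸ hirr⟩
  rw [← hl]
  clear hl hirr hU
  induction l with
  | nil => exact subset_rfl
  | cons p l ih =>
    rintro _ ⟨x, hx, y, hy, rfl⟩
    exact ⟨x, sgn_subset (hsub p.1) _ hx, y, ih hy, rfl⟩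

/-- **Connected first factor.** -/
theorem bounded_comm_connected [GrpObj A] [GrpObj B] [Smooth A.hom] [QuasiCompact A.hom] [Smooth B.hom]
    [QuasiCompact B.hom] [ConnectedSpace A.left] (a : A ⟶ G) [IsMonHom a] (b : B ⟶ G) [IsMonHom b] :
    Bounded (commSet a b) ∧ @IsIrreducible _ (ptTop G) (Subgroup.closure (commSet a b) : Set (Pt G)) := by
  letI := ptTop G; letI := ptTop A; letI := ptTop B
  obtain ⟨NA, -, -, hAi, hAg, -, hAtop⟩ := exists_neutral_img A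
  obtain ⟨NB, hBn, hBf, hBi, hBg, -, -⟩ := exists_neutral_img B
  haveI := hBn; haveI := hBf
  let SA : Set (Pt G) := (fun y : Pt A => y ≫ a) '' Set.univ
  have hAuniv : (fun x => (1 : Pt A) * x) '' (NA : Set (Pt A)) = Set.univ := by
    simp [hAtop inferInstance]
  let S : ULift.{u} (Pt B ⧸ NB) → Set (Pt G) := fun q =>
    Set.image2 (fun x y : Pt G => (⁅x, y⁆ : Pt G)) SA
      ((fun y : Pt B => y ≫ b) '' ((fun x => q.down.out * x) '' (NB : Set (Pt B))))
  have hU : Subgroup.closure (⋃ q, S q) = Subgroup.closure (commSet a b) := by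
    congr 1
    ext g
    simp only [S, SA, commSet, Set.image_univ, Set.mem_iUnion, Set.mem_image2]
    constructor
    · rintro ⟨q, x, hx, _, ⟨y, -, rfl⟩, rfl⟩
      exact ⟨x, hx, _, ⟨y, rfl⟩, rfl⟩
    · rintro ⟨x, hx, _, ⟨y, rfl⟩, rfl⟩
      exact ⟨⟨(y : Pt B ⧸ NB)⟩, x, hx, _, ⟨y, ⟨(y : Pt B ⧸ NB).out⁻¹ * y,
        QuotientGroup.eq.mp (QuotientGroup.out_eq' (y : Pt B ⧸ NB)), mul_inv_cancel_left _ y⟩, rfl⟩, rfl⟩
  have hone : (1 : Pt G) ∈ SA := ⟨1, trivial, MonObj.one_comp a⟩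
  obtain ⟨L, hL, hirr⟩ := bounded_of_pieces (C := commSet a b) S
    (fun q => ((hAuniv ▸ hAg 1).range_hom a).comm ((hBg _).range_hom b))
    (fun q => preirreducible_comm ((hAuniv ▸ hAi.image _ (sepCont.left 1).continuousOn : IsPreirreducible
      (Set.univ : Set (Pt A))).image _ (continuous_pt_comp a).continuousOn)
      (((hBi.image _ (sepCont.left _).continuousOn)).image _ (continuous_pt_comp b).continuousOn))
    (fun q => ⟨1, hone, _, ⟨_, ⟨1, NB.one_mem, rfl⟩, rfl⟩, commutatorElement_one_left _⟩)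
    (fun q => by
      rintro _ ⟨x, ⟨x', -, rfl⟩, _, ⟨y, -, rfl⟩, rfl⟩
      exact ⟨_, ⟨x', rfl⟩, _, ⟨y, rfl⟩, rfl⟩)
  rw [hU] at hL hirr
  exact ⟨bounded_of_finite_index _ L hL ⟨{1}, Set.finite_singleton 1, fun x hx => hx ▸ one_mem _, fun h hh =>
    ⟨1, rfl, by simpa using hh⟩⟩, hirr⟩

/-- **Two normal subgroups.** -/
theorem bounded_comm_normal [GrpObj A] [GrpObj B] [Smooth A.hom] [QuasiCompact A.hom] [Smooth B.hom]
    [QuasiCompact B.hom] (a : A ⟶ G) [IsMonHom a] [Mono a] (b : B ⟶ G) [IsMonHom b] [Mono b]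
    (hA : AlgGrp.IsNormalHom a) (hB : AlgGrp.IsNormalHom b) : Bounded (commSet a b) := by
  letI := ptTop G; letI := ptTop A; letI := ptTop B
  obtain ⟨NA, hAn, hAf, hAi, hAg, hAmap, -⟩ := exists_neutral_img A
  obtain ⟨NB, hBn, hBf, hBi, hBg, hBmap, -⟩ := exists_neutral_img B
  haveI := hAn; haveI := hAf; haveI := hBn; haveI := hBf
  let α : Pt A →* Pt G := MonoidHom.mk' (fun y => y ≫ a) fun x y => MonObj.mul_comp x y a
  let β : Pt B →* Pt G := MonoidHom.mk' (fun y => y ≫ b) fun x y => MonObj.mul_comp x y b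
  have conj : ∀ {C : Over (Spec (CommRingCat.of k))} [GrpObj C] (c : C ⟶ G) [IsMonHom c] [Mono c],
      AlgGrp.IsNormalHom c → ∀ g : Pt G, ∃ f : C ⟶ C, (1 : Pt C) ≫ f = 1 ∧
        ∀ x : Pt C, (x ≫ f) ≫ c = g * (x ≫ c) * g⁻¹ := by
    intro C _ c _ _ hc g
    obtain ⟨f, hf⟩ := hc C (toUnit C ≫ g) (𝟙 C)
    have h : ∀ x : Pt C, (x ≫ f) ≫ c = g * (x ≫ c) * g⁻¹ := fun x => by
      rw [Category.assoc, ← hf, Category.id_comp, MonObj.comp_mul, MonObj.comp_mul, GrpObj.comp_inv,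
        ← Category.assoc x (toUnit C) g, toUnit_unique (x ≫ toUnit C) (𝟙 _), Category.id_comp]
    refine ⟨f, ?_, h⟩
    rw [← cancel_mono c, h, MonObj.one_comp, _root_.mul_one, mul_inv_cancel]
  let PA := α.range; let PB := β.range
  let PA₀ := NA.map α; let PB₀ := NB.map β
  haveI hPA : PA.Normal := ⟨by
    rintro _ ⟨x, rfl⟩ g
    obtain ⟨f, -, hf⟩ := conj a hA g
    exact ⟨x ≫ f, hf x⟩⟩
  haveI hPB : PB.Normal := ⟨by
    rintro _ ⟨x, rfl⟩ g
    obtain ⟨f, -, hf⟩ := conj b hB g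
    exact ⟨x ≫ f, hf x⟩⟩
  haveI hPA₀ : PA₀.Normal := ⟨by
    rintro _ ⟨x, hx, rfl⟩ g
    obtain ⟨f, hf1, hf⟩ := conj a hA g
    exact ⟨x ≫ f, hAmap f hf1 x hx, hf x⟩⟩
  haveI hPB₀ : PB₀.Normal := ⟨by
    rintro _ ⟨x, hx, rfl⟩ g
    obtain ⟨f, hf1, hf⟩ := conj b hB g
    exact ⟨x ≫ f, hBmap f hf1 x hx, hf x⟩⟩
  let cm : Pt G → Pt G → Pt G := fun x y => ⁅x, y⁆
  let S : ULift.{u} ((Pt B ⧸ NB) ⊕ (Pt A ⧸ NA)) → Set (Pt G) := fun q => match q.down with
    | .inl q => Set.image2 cm ((fun y => y ≫ a) '' ((fun x => (1 : Pt A) * x) '' (NA : Set (Pt A))))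
        ((fun y => y ≫ b) '' ((fun x => q.out * x) '' (NB : Set (Pt B))))
    | .inr q => Set.image2 cm ((fun y => y ≫ a) '' ((fun x => q.out * x) '' (NA : Set (Pt A))))
        ((fun y => y ≫ b) '' ((fun x => (1 : Pt B) * x) '' (NB : Set (Pt B))))
  obtain ⟨L, hL, -⟩ := bounded_of_pieces (C := commSet a b) S
    (fun ⟨q⟩ => by cases q <;> exact ((hAg _).range_hom a).comm ((hBg _).range_hom b))
    (fun ⟨q⟩ => by
      cases q <;> exact preirreducible_comm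
        ((hAi.image _ (sepCont.left _).continuousOn).image _ (continuous_pt_comp a).continuousOn)
        ((hBi.image _ (sepCont.left _).continuousOn).image _ (continuous_pt_comp b).continuousOn))
    (fun ⟨q⟩ => by
      cases q with
      | inl q =>
        refine ⟨1, ⟨1, ⟨1, NA.one_mem, _root_.one_mul 1⟩, MonObj.one_comp a⟩, _, ⟨_, ⟨1, NB.one_mem, rfl⟩, rfl⟩, ?_⟩
        exact commutatorElement_one_left _
      | inr q =>
        refine ⟨_, ⟨_, ⟨1, NA.one_mem, rfl⟩, rfl⟩, 1, ⟨1, ⟨1, NB.one_mem, _root_.one_mul 1⟩, MonObj.one_comp b⟩, ?_⟩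
        exact commutatorElement_one_right _)
    (fun ⟨q⟩ => by
      cases q <;>
      · rintro _ ⟨_, ⟨x, -, rfl⟩, _, ⟨y, -, rfl⟩, rfl⟩
        exact ⟨_, ⟨x, rfl⟩, _, ⟨y, rfl⟩, rfl⟩)
  set H₁ := Subgroup.closure (⋃ q, S q) with hH₁
  -- commutators with one neutral argument
  have h10 : ∀ x ∈ PA₀, ∀ y ∈ PB, ⁅x, y⁆ ∈ H₁ := by
    rintro _ ⟨x, hx, rfl⟩ _ ⟨y, rfl⟩
    exact Subgroup.subset_closure (Set.mem_iUnion.mpr ⟨⟨.inl (y : Pt B ⧸ NB)⟩, _, ⟨x, ⟨x, hx, _root_.one_mul x⟩, rfl⟩,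
      _, ⟨y, ⟨(y : Pt B ⧸ NB).out⁻¹ * y, QuotientGroup.eq.mp (QuotientGroup.out_eq' _), mul_inv_cancel_left _ y⟩, rfl⟩,
      rfl⟩)
  have h01 : ∀ x ∈ PA, ∀ y ∈ PB₀, ⁅x, y⁆ ∈ H₁ := by
    rintro _ ⟨x, rfl⟩ _ ⟨y, hy, rfl⟩
    exact Subgroup.subset_closure (Set.mem_iUnion.mpr ⟨⟨.inr (x : Pt A ⧸ NA)⟩,
      _, ⟨x, ⟨(x : Pt A ⧸ NA).out⁻¹ * x, QuotientGroup.eq.mp (QuotientGroup.out_eq' _), mul_inv_cancel_left _ x⟩, rfl⟩,
      _, ⟨y, ⟨y, hy, _root_.one_mul y⟩, rfl⟩, rfl⟩)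
  have hEq : H₁ = ⁅PA₀, PB⁆ ⊔ ⁅PA, PB₀⁆ := by
    refine le_antisymm ((Subgroup.closure_le _).mpr (Set.iUnion_subset fun ⟨q⟩ => ?_))
      (sup_le (Subgroup.commutator_le.mpr h10) (Subgroup.commutator_le.mpr h01))
    cases q with
    | inl q =>
      rintro _ ⟨_, ⟨_, ⟨x, hx, rfl⟩, rfl⟩, _, ⟨y, -, rfl⟩, rfl⟩
      exact Subgroup.mem_sup_left (Subgroup.commutator_mem_commutator
        ⟨(1 : Pt A) * x, by rwa [_root_.one_mul], rfl⟩ ⟨y, rfl⟩)
    | inr q =>
      rintro _ ⟨_, ⟨x, -, rfl⟩, _, ⟨_, ⟨y, hy, rfl⟩, rfl⟩, rfl⟩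
      exact Subgroup.mem_sup_right (Subgroup.commutator_mem_commutator
        ⟨x, rfl⟩ ⟨(1 : Pt B) * y, by rwa [_root_.one_mul], rfl⟩)
  haveI hH₁n : H₁.Normal := hEq ▸ inferInstance
  let π := QuotientGroup.mk' H₁
  have hπ := QuotientGroup.mk'_surjective H₁
  haveI : (PA.map π).Normal := Subgroup.Normal.map hPA π hπ
  haveI : (PB.map π).Normal := Subgroup.Normal.map hPB π hπ
  have hcomm : ∀ x y : Pt G, ⁅x, y⁆ ∈ H₁ → π x * π y = π y * π x := fun x y h => by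
    rw [← commutatorElement_eq_one_iff_mul_comm, ← map_commutatorElement]
    exact (QuotientGroup.eq_one_iff _).mpr h
  have hfin : (Set.image2 (fun x y : Pt G ⧸ H₁ => (⁅x, y⁆ : Pt G ⧸ H₁)) (PA.map π) (PB.map π)).Finite := by
    refine (Set.finite_range fun p : (Pt A ⧸ NA) × (Pt B ⧸ NB) => π ⁅α p.1.out, β p.2.out⁆).subset ?_
    rintro _ ⟨_, ⟨_, ⟨x, rfl⟩, rfl⟩, _, ⟨_, ⟨y, rfl⟩, rfl⟩, rfl⟩
    refine ⟨((x : Pt A ⧸ NA), (y : Pt B ⧸ NB)), ?_⟩
    obtain ⟨⟨n, hn⟩, e⟩ := QuotientGroup.mk_out_eq_mul NA x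
    obtain ⟨⟨m, hm⟩, e'⟩ := QuotientGroup.mk_out_eq_mul NB y
    show π ⁅α (x : Pt A ⧸ NA).out, β (y : Pt B ⧸ NB).out⁆ = _
    rw [e, e', map_commutatorElement, map_mul α, map_mul β, map_mul π, map_mul π]
    have c1 : π (α n) * (π (β y) * π (β m)) = π (β y) * π (β m) * π (α n) := by
      rw [← map_mul π, ← map_mul β]
      exact hcomm _ _ (h10 _ ⟨n, hn, rfl⟩ _ ⟨y * m, rfl⟩)
    have c2 : π (α x) * π (β m) = π (β m) * π (α x) := hcomm _ _ (h01 _ ⟨x, rfl⟩ _ ⟨m, hm, rfl⟩)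
    simp only [commutatorElement_def, _root_.mul_inv_rev]
    generalize π (α x) = X, π (α n) = Nn, π (β y) = Y, π (β m) = M at c1 c2 ⊢
    calc X * Nn * (Y * M) * (Nn⁻¹ * X⁻¹) * (M⁻¹ * Y⁻¹)
        = X * (Nn * (Y * M)) * Nn⁻¹ * X⁻¹ * M⁻¹ * Y⁻¹ := by group
      _ = X * (Y * M * Nn) * Nn⁻¹ * X⁻¹ * M⁻¹ * Y⁻¹ := by rw [c1]
      _ = X * Y * (X⁻¹ * (X * M)) * X⁻¹ * M⁻¹ * Y⁻¹ := by group
      _ = X * Y * (X⁻¹ * (M * X)) * X⁻¹ * M⁻¹ * Y⁻¹ := by rw [c2]
      _ = X * Y * X⁻¹ * Y⁻¹ := by group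
  haveI := Baer.finite_commutator (PA.map π) (PB.map π) hfin
  refine bounded_of_finite_index H₁ L hL ?_
  have hH : Subgroup.closure (commSet a b) = ⁅PA, PB⁆ := by
    rw [Subgroup.commutator_def]
    congr 1
  have hex : ∀ z : (⁅PA.map π, PB.map π⁆ : Subgroup (Pt G ⧸ H₁)), ∃ r ∈ (⁅PA, PB⁆ : Subgroup (Pt G)), π r = z := by
    rintro ⟨z, hz⟩
    rw [← Subgroup.map_commutator] at hz
    exact hz
  choose r hr hrz using hex
  refine ⟨Set.range r, Set.finite_range r, by rintro _ ⟨z, rfl⟩; rw [hH]; exact hr z, fun h hh => ?_⟩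
  rw [hH] at hh
  let z : (⁅PA.map π, PB.map π⁆ : Subgroup (Pt G ⧸ H₁)) := ⟨π h, by rw [← Subgroup.map_commutator]; exact ⟨h, hh, rfl⟩⟩
  exact ⟨r z, ⟨z, rfl⟩, QuotientGroup.eq.mp (hrz z)⟩

end

end Groth.Agent.Deform.GenSub
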