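import Groth.Agent.Deform.GenSub.Img
import Groth.Agent.Deform.Luna.SolvLocus
import Groth.Agent.S4629
import Groth.Agent.S7795
import Groth.Agent.GrpSchLib.IsogenyFibre
import Groth.Agent.FBaseLib.Product
import Mathlib.AlgebraicGeometry.Morphisms.SchemeTheoreticallyDominant

/-!
# The subgroup generated by a geometrically reduced morphism, over an arbitrary field
-/

set_option autoImplicit false

universe u

open CategoryTheory CategoryTheory.Limits MonoidalCategory CartesianMonoidalCategory MonObj GrpObj AlgebraicGeometry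

attribute [local instance] CategoryTheory.Hom.monoid CategoryTheory.Hom.group
set_option linter.style.haveILetI false
set_option linter.unusedSectionVars false

namespace Groth.Agent.Deform.GenSub

noncomputable section

open Chev Luna.SolvLocus

section Words

/-- `S` or its inverse. -/
def sgnSet {P : Type*} [Group P] (S : Set P) : Bool → Set P
  | true => S
  | false => (fun g => g⁻¹) '' S

/-- Products along a word. -/
def wVal {P : Type*} [Group P] (S : Set P) : List Bool → Set P
  | [] => {1}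
  | b :: l => Set.image2 (· * ·) (sgnSet S b) (wVal S l)

theorem wVal_subset {P : Type*} [Group P] (S : Set P) : ∀ l, wVal S l ⊆ Subgroup.closure S
  | [] => fun _ hx => hx ▸ one_mem _
  | b :: l => by
    rintro _ ⟨a, ha, c, hc, rfl⟩
    refine mul_mem ?_ (wVal_subset S l hc)
    cases b with
    | true => exact Subgroup.subset_closure ha
    | false => obtain ⟨z, hz, rfl⟩ := ha; exact inv_mem (Subgroup.subset_closure hz)

/-- The generated subgroup is reached by words of bounded length. -/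
def Bounded {P : Type*} [Group P] (S : Set P) : Prop :=
  ∃ N : ℕ, ∀ h ∈ Subgroup.closure S, ∃ l : List Bool, l.length ≤ N ∧ h ∈ wVal S l

variable {S₀ : Scheme.{u}} {G X : Over S₀} [GrpObj G] (f : X ⟶ G)

/-- The source of a word. -/
def wObj (X : Over S₀) : List Bool → Over S₀
  | [] => 𝟙_ _
  | _ :: l => X ⊗ wObj X l

/-- The morphism of a word. -/
def wMor : ∀ l, wObj X l ⟶ G
  | [] => (1 : 𝟙_ _ ⟶ G)
  | true :: l => ((fst X (wObj X l) ≫ f) * (snd X (wObj X l) ≫ wMor l) : X ⊗ wObj X l ⟶ G)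
  | false :: l => ((fst X (wObj X l) ≫ f)⁻¹ * (snd X (wObj X l) ≫ wMor l) : X ⊗ wObj X l ⟶ G)

theorem range_wMor (T : Over S₀) : ∀ l, Set.range (fun x : T ⟶ wObj X l => x ≫ wMor f l) =
    wVal (Set.range fun x : T ⟶ X => x ≫ f) l
  | [] => by
    ext g
    constructor
    · rintro ⟨x, rfl⟩; exact MonObj.comp_one x
    · rintro rfl; exact ⟨toUnit T, MonObj.comp_one _⟩
  | true :: l => by
    ext g
    constructor
    · rintro ⟨x, rfl⟩
      refine ⟨_, ⟨x ≫ fst X (wObj X l), rfl⟩, x ≫ snd X (wObj X l) ≫ wMor f l, ?_,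
        ((MonObj.comp_mul x _ _).trans (congrArg₂ (· * ·) (Category.assoc x _ _).symm rfl)).symm⟩
      rw [← range_wMor T l]
      exact ⟨x ≫ snd X (wObj X l), Category.assoc _ _ _⟩
    · rintro ⟨_, ⟨a, rfl⟩, _, hb, rfl⟩
      rw [← range_wMor T l] at hb
      obtain ⟨b, rfl⟩ := hb
      exact ⟨lift a b, (MonObj.comp_mul (lift a b) _ _).trans (by simp only [lift_fst_assoc, lift_snd_assoc])⟩
  | false :: l => by
    ext g
    constructor
    · rintro ⟨x, rfl⟩
      refine ⟨_, ⟨_, ⟨x ≫ fst X (wObj X l), rfl⟩, rfl⟩, x ≫ snd X (wObj X l) ≫ wMor f l, ?_,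
        ((MonObj.comp_mul x _ _).trans (congrArg₂ (· * ·)
          ((GrpObj.comp_inv x _).trans (congrArg (fun z : T ⟶ G => z⁻¹) (Category.assoc x _ _).symm)) rfl)).symm⟩
      rw [← range_wMor T l]
      exact ⟨x ≫ snd X (wObj X l), Category.assoc _ _ _⟩
    · rintro ⟨_, ⟨_, ⟨a, rfl⟩, rfl⟩, _, hb, rfl⟩
      rw [← range_wMor T l] at hb
      obtain ⟨b, rfl⟩ := hb
      exact ⟨lift a b,
        (MonObj.comp_mul (lift a b) _ _).trans (by simp only [GrpObj.comp_inv, lift_fst_assoc, lift_snd_assoc])⟩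

theorem wMor_comp {H : Over S₀} [GrpObj H] (i : H ⟶ G) [IsMonHom i] (f' : X ⟶ H) :
    ∀ l, wMor f' l ≫ i = wMor (f' ≫ i) l
  | [] => MonObj.one_comp i
  | true :: l => (MonObj.mul_comp (fst X (wObj X l) ≫ f') (snd X (wObj X l) ≫ wMor f' l) i).trans (by
      rw [Category.assoc, Category.assoc, wMor_comp i f' l]
      rfl)
  | false :: l => (MonObj.mul_comp (fst X (wObj X l) ≫ f')⁻¹ (snd X (wObj X l) ≫ wMor f' l) i).trans (by
      rw [GrpObj.inv_comp, Category.assoc, Category.assoc, wMor_comp i f' l]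
      rfl)

end Words

variable {k : Type u} [Field k] {G X : Over (Spec (CommRingCat.of k))}

theorem geometricallyReduced_tensor (A B : Over (Spec (CommRingCat.of k))) [GeometricallyReduced A.hom]
    [GeometricallyReduced B.hom] : GeometricallyReduced (A ⊗ B).hom := by
  rw [Over.tensorObj_hom]
  exact S4629.result A.hom B.hom

theorem props_wObj [LocallyOfFiniteType X.hom] [QuasiCompact X.hom] [GeometricallyReduced X.hom] :
    ∀ l, LocallyOfFiniteType (wObj X l).hom ∧ QuasiCompact (wObj X l).hom ∧ GeometricallyReduced (wObj X l).hom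
  | [] => ⟨inferInstanceAs (LocallyOfFiniteType (𝟙 (Spec (CommRingCat.of k)))),
      inferInstanceAs (QuasiCompact (𝟙 (Spec (CommRingCat.of k)))),
      GrpSchLib.IsogenyFibre.geometricallyReduced_of_smooth' (𝟙 (Spec (CommRingCat.of k)))⟩
  | b :: l => by
    obtain ⟨_, _, _⟩ := props_wObj l
    refine ⟨?_, ?_, geometricallyReduced_tensor X (wObj X l)⟩
    · show LocallyOfFiniteType (X ⊗ wObj X l).hom
      rw [Over.tensorObj_hom]; infer_instance
    · show QuasiCompact (X ⊗ wObj X l).hom
      rw [Over.tensorObj_hom]; infer_instance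

variable {K : Type u} [Field K] (σ : Spec (CommRingCat.of K) ⟶ Spec (CommRingCat.of k))

/-- The scheme of `K`-points. -/
abbrev geomT : Over (Spec (CommRingCat.of k)) := (Over.map σ).obj (𝟙_ (Over (Spec (CommRingCat.of K))))

theorem fst_pimg {A : Over (Spec (CommRingCat.of k))} (h : geomT σ ⟶ A) :
    pullback.fst A.hom σ (pimg (G := Red.bc σ A) ((Over.mapPullbackAdj σ).homEquiv _ A h)) =
      h.left (IsLocalRing.closedPoint K) := by
  have e : ((Over.mapPullbackAdj σ).homEquiv _ A h).left ≫ pullback.fst A.hom σ = h.left := by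
    simp [Adjunction.homEquiv_unit]
    rw [pullback.lift_fst, ← Category.assoc, pullback.lift_fst, Category.id_comp]
  exact congrArg (fun φ : Spec (CommRingCat.of K) ⟶ A.left => φ (IsLocalRing.closedPoint K)) e

theorem range_bc {A B : Over (Spec (CommRingCat.of k))} (w : A ⟶ B) :
    Set.range ((Over.pullback σ).map w).left = pullback.fst B.hom σ ⁻¹' Set.range w.left := by
  have e : ((Over.pullback σ).map w).left = pullback.map A.hom σ B.hom σ w.left (𝟙 _) (𝟙 _)
      (by rw [Category.comp_id, Over.w]) (by simp) := by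
    refine pullback.hom_ext ?_ ?_
    · exact (pullback.lift_fst _ _ _).trans (pullback.lift_fst _ _ _).symm
    · exact (pullback.lift_snd _ _ _).trans ((Category.comp_id _).symm.trans (pullback.lift_snd _ _ _).symm)
  rw [e, Scheme.Pullback.range_map]
  simp only [Scheme.Hom.id_base, TopCat.hom_id, ContinuousMap.coe_id, Set.range_id, Set.preimage_univ, Set.inter_univ]

/-- Geometric points are dense. -/
theorem exists_geomPt [IsAlgClosed K] (J : Over (Spec (CommRingCat.of k))) [LocallyOfFiniteType J.hom]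
    {S : Set J.left} (hne : S.Nonempty) (hS : IsLocallyClosed S) :
    ∃ x : geomT σ ⟶ J, x.left (IsLocalRing.closedPoint K) ∈ S := by
  haveI : Surjective σ := ⟨fun z => ⟨IsLocalRing.closedPoint K, Subsingleton.elim _ _⟩⟩
  haveI : LocallyOfFiniteType (Red.bc σ J).hom := MorphismProperty.pullback_snd J.hom σ inferInstance
  haveI : Surjective (pullback.fst J.hom σ) := MorphismProperty.pullback_fst _ _ inferInstance
  obtain ⟨z, hz⟩ := hne
  obtain ⟨q, hq⟩ := (pullback.fst J.hom σ).surjective z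
  obtain ⟨g, hg⟩ := exists_pt (G := Red.bc σ J) (S := pullback.fst J.hom σ ⁻¹' S) ⟨q, by rwa [Set.mem_preimage, hq]⟩
    (hS.preimage (pullback.fst J.hom σ).continuous)
  obtain ⟨x, rfl⟩ := ((Over.mapPullbackAdj σ).homEquiv _ J).surjective g
  exact ⟨x, fst_pimg σ x ▸ hg⟩

/-- A reduced scheme covered by finitely many geometrically reduced schemes is geometrically reduced. -/
theorem geometricallyReduced_of_cover {K : Type u} [Field K] [IsAlgClosed K]
    (σ : Spec (CommRingCat.of K) ⟶ Spec (CommRingCat.of k)) (I : Over (Spec (CommRingCat.of k))) [IsReduced I.left]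
    [IsSeparated I.hom] {J : Type} [Finite J] (W : J → Over (Spec (CommRingCat.of k)))
    [∀ j, QuasiCompact (W j).hom] [∀ j, GeometricallyReduced (W j).hom] (u : ∀ j, W j ⟶ I)
    (hu : ⋃ j, Set.range (u j).left = Set.univ) : GeometricallyReduced I.hom := by
  haveI : Surjective σ := ⟨fun z => ⟨IsLocalRing.closedPoint K, Subsingleton.elim _ _⟩⟩
  haveI : ∀ j, CompactSpace (W j).left := fun j => QuasiCompact.compactSpace_of_compactSpace (W j).hom
  let π : (∐ fun j => (W j).left) ⟶ I.left := Sigma.desc fun j => (u j).left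
  haveI : Surjective π := ⟨fun z => by
    obtain ⟨j, y, hy⟩ := Set.mem_iUnion.mp (hu.ge (Set.mem_univ z))
    exact ⟨Sigma.ι (fun j => (W j).left) j y, by rw [← Scheme.Hom.comp_apply, Sigma.ι_desc]; exact hy⟩⟩
  haveI : CompactSpace ↥(∐ fun j => (W j).left) := by
    rw [← isCompact_univ_iff, ← (sigmaOpenCover fun j => (W j).left).iUnion_range]
    haveI : ∀ j, CompactSpace ((sigmaOpenCover fun j => (W j).left).X j) := fun j =>
      inferInstanceAs (CompactSpace (W j).left)
    haveI : Finite (sigmaOpenCover fun j => (W j).left).I₀ := inferInstanceAs (Finite J)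
    exact isCompact_iUnion fun j => isCompact_range ((sigmaOpenCover fun j => (W j).left).f j).continuous
  haveI : QuasiCompact (π ≫ I.hom) := (quasiCompact_iff_compactSpace _).mpr inferInstance
  haveI : QuasiCompact π := QuasiCompact.of_comp π I.hom
  haveI : IsSchemeTheoreticallyDominant π := .of_isDominant π
  haveI : Flat (pullback.fst I.hom σ) := MorphismProperty.pullback_fst _ _ inferInstance
  haveI : IsReduced (pullback (π ≫ I.hom) σ) := by
    refine @IsReduced.of_openCover _ (Scheme.Pullback.openCoverOfLeft (sigmaOpenCover fun j => (W j).left)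
      (π ≫ I.hom) σ) fun j => ?_
    have e : Sigma.ι (fun j => (W j).left) j ≫ π ≫ I.hom = (W j).hom := by
      rw [Sigma.ι_desc_assoc]; exact Over.w (u j)
    show IsReduced (pullback (Sigma.ι (fun j => (W j).left) j ≫ π ≫ I.hom) σ)
    rw [e]
    exact pullback_of_geometrically (GeometricallyReduced.geometrically_isReduced (f := (W j).hom)) K σ
  haveI : IsReduced (pullback π (pullback.fst I.hom σ)) :=
    isReduced_of_isOpenImmersion (pullbackRightPullbackFstIso I.hom σ π).hom
  haveI : IsReduced (pullback I.hom σ) :=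
    IsSchemeTheoreticallyDominant.isReduced (pullback.snd π (pullback.fst I.hom σ))
  refine ⟨FBaseLib.geometrically_of_surjective (fun q _ _ hz => @FBaseLib.isReduced_of_flat_surjective _ _ q _ _ hz)
    I.hom σ (geometrically_iff_of_isClosedUnderIsomorphisms.mpr fun L _ y => ?_)⟩
  exact GrpSchLib.isReduced_pullback_of_perfectField (pullback.snd I.hom σ) y

variable [GrpObj G] (f : X ⟶ G)

/-- **The subgroup generated by a bounded morphism.** -/
theorem exists_generated [IsAlgClosed K] [LocallyOfFiniteType G.hom] [LocallyOfFiniteType X.hom] [QuasiCompact X.hom]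
    [GeometricallyReduced X.hom] (hb : Bounded (Set.range fun x : geomT σ ⟶ X => x ≫ f)) :
    ∃ (I : Over (Spec (CommRingCat.of k))) (_ : GrpObj I) (i : I ⟶ G), IsMonHom i ∧ IsClosedImmersion i.left ∧
      Smooth I.hom ∧ QuasiCompact I.hom ∧ (∃ f', f' ≫ i = f) ∧
      (∃ N : ℕ, Set.range i.left = ⋃ l : {l : List Bool // l.length ≤ N}, Set.range (wMor f l.1).left) ∧
      (Set.range fun x : geomT σ ⟶ I => x ≫ i) = Subgroup.closure (Set.range fun x : geomT σ ⟶ X => x ≫ f) ∧
      ∀ (Γ : Over (Spec (CommRingCat.of k))) (_ : GrpObj Γ) (i' : Γ ⟶ G), IsMonHom i' → IsClosedImmersion i'.left →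
        (∃ f', f' ≫ i' = f) → ∃ j : I ⟶ Γ, j ≫ i' = i := by
  haveI := GrpSchLib.AntiAffine.isSeparated_grp G
  haveI : Surjective σ := ⟨fun z => ⟨IsLocalRing.closedPoint K, Subsingleton.elim _ _⟩⟩
  obtain ⟨N₀, hN₀⟩ := hb
  let N := N₀ + 1
  haveI : ∀ l, LocallyOfFiniteType (wObj X l).hom := fun l => (props_wObj l).1
  haveI : ∀ l, QuasiCompact (wObj X l).hom := fun l => (props_wObj l).2.1
  haveI : ∀ l, GeometricallyReduced (wObj X l).hom := fun l => (props_wObj l).2.2
  haveI : Finite {l : List Bool // l.length ≤ N} := (List.finite_length_le Bool N).to_subtype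
  set S : Set (geomT σ ⟶ G) := Set.range fun x : geomT σ ⟶ X => x ≫ f with hS
  set H := Subgroup.closure S with hH
  let Z : Set G.left := ⋃ l : {l : List Bool // l.length ≤ N}, Set.range (wMor f l.1).left
  have hHw : ∀ h, h ∈ H ↔ ∃ l : {l : List Bool // l.length ≤ N},
      h ∈ Set.range fun x : geomT σ ⟶ wObj X l.1 => x ≫ wMor f l.1 := by
    intro h
    simp only [range_wMor]
    exact ⟨fun hh => by obtain ⟨l, hl, h'⟩ := hN₀ h hh; exact ⟨⟨l, hl.trans (Nat.le_succ _)⟩, h'⟩,
      fun ⟨l, hl⟩ => wVal_subset S l.1 hl⟩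
  have hHZ : ∀ h ∈ H, h.left (IsLocalRing.closedPoint K) ∈ Z := fun h hh => by
    obtain ⟨l, x, rfl⟩ := (hHw h).mp hh
    exact Set.mem_iUnion.mpr ⟨l, x.left (IsLocalRing.closedPoint K), rfl⟩
  haveI : LocallyOfFiniteType (Red.bc σ G).hom := MorphismProperty.pullback_snd G.hom σ inferInstance
  -- over `K` the image is a closed subgroup
  let W' : ULift.{u} {l : List Bool // l.length ≤ N} → Over (Spec (CommRingCat.of K)) :=
    fun l => Red.bc σ (wObj X l.down.1)
  haveI : ∀ l, LocallyOfFiniteType (W' l).hom := fun l => MorphismProperty.pullback_snd _ σ inferInstance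
  haveI : ∀ l, QuasiCompact (W' l).hom := fun l => MorphismProperty.pullback_snd _ σ inferInstance
  let e := ptsEquiv (G := G) σ (𝟙_ (Over (Spec (CommRingCat.of K))))
  have hpts : ∀ l, (Set.range fun y : Pt (W' l) => y ≫ (Over.pullback σ).map (wMor f l.down.1)) =
      e '' Set.range fun x : geomT σ ⟶ wObj X l.down.1 => x ≫ wMor f l.down.1 := by
    intro l
    rw [← Set.range_comp]
    ext g
    constructor
    · rintro ⟨y, rfl⟩
      obtain ⟨x, rfl⟩ := ((Over.mapPullbackAdj σ).homEquiv _ (wObj X l.down.1)).surjective y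
      exact ⟨x, (Over.mapPullbackAdj σ).homEquiv_naturality_right x (wMor f l.down.1)⟩
    · rintro ⟨x, rfl⟩
      exact ⟨_, ((Over.mapPullbackAdj σ).homEquiv_naturality_right x (wMor f l.down.1)).symm⟩
  have hH' : ((H.map e.toMonoidHom : Subgroup (Pt (Red.bc σ G))) : Set (Pt (Red.bc σ G))) =
      ⋃ l, Set.range fun y : Pt (W' l) => y ≫ (Over.pullback σ).map (wMor f l.down.1) := by
    simp only [hpts, ← Set.image_iUnion, Subgroup.coe_map, MulEquiv.coe_toMonoidHom]
    congr 1
    ext h
    rw [SetLike.mem_coe, hHw, Set.mem_iUnion]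
    exact ⟨fun ⟨l, hl⟩ => ⟨⟨l⟩, hl⟩, fun ⟨l, hl⟩ => ⟨l.down, hl⟩⟩
  obtain ⟨Y, iY, j, hj, hjc, hjs, -, hjr, hjH⟩ :=
    exists_subgroup_of_img (H.map e.toMonoidHom) W' (fun l => (Over.pullback σ).map (wMor f l.down.1)) hH'
  haveI := hjc; haveI := hjs
  have hjr' : Set.range j.left = pullback.fst G.hom σ ⁻¹' Z := by
    rw [hjr]
    simp only [Z, Set.preimage_iUnion]
    ext z
    simp only [Set.mem_iUnion]
    exact ⟨fun ⟨l, hl⟩ => ⟨l.down, (range_bc σ (wMor f l.down.1)).le hl⟩,
      fun ⟨l, hl⟩ => ⟨⟨l⟩, (range_bc σ (wMor f l.1)).ge hl⟩⟩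
  have hmem : ∀ h : geomT σ ⟶ G, h.left (IsLocalRing.closedPoint K) ∈ Z → h ∈ H := fun h hh => by
    have h1 : pimg (e h) ∈ Set.range j.left := by
      rw [hjr', Set.mem_preimage]
      exact (fst_pimg σ h).symm ▸ hh
    rw [← Set.mem_preimage, ← range_pt_eq, hjH, Subgroup.coe_map] at h1
    obtain ⟨h', hh', he⟩ := h1
    exact e.injective he ▸ hh'
  haveI : Surjective (pullback.fst G.hom σ) := MorphismProperty.pullback_fst _ _ inferInstance
  haveI : UniversallyOpen σ := VarGeom.universallyOpen_of_field _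
  have hclosed : IsClosed Z := by
    have hq : Topology.IsQuotientMap (pullback.fst G.hom σ) :=
      (pullback.fst G.hom σ).isOpenMap.isQuotientMap (pullback.fst G.hom σ).continuous
        (pullback.fst G.hom σ).surjective
    rw [← hq.isClosed_preimage, ← hjr']
    exact j.left.isClosedEmbedding.isClosed_range
  -- the reduced subscheme
  let 𝒥 := Scheme.IdealSheafData.vanishingIdeal (⟨Z, hclosed⟩ : TopologicalSpace.Closeds G.left)
  let I : Over (Spec (CommRingCat.of k)) := Over.mk (𝒥.subschemeι ≫ G.hom)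
  let i : I ⟶ G := Over.homMk 𝒥.subschemeι rfl
  haveI : IsReduced I.left := H23.RedSub.isReduced_vanishingIdeal ⟨Z, hclosed⟩
  haveI : IsClosedImmersion i.left := inferInstanceAs (IsClosedImmersion 𝒥.subschemeι)
  haveI : LocallyOfFiniteType I.hom := inferInstanceAs (LocallyOfFiniteType (𝒥.subschemeι ≫ G.hom))
  haveI : IsSeparated I.hom := inferInstanceAs (IsSeparated (𝒥.subschemeι ≫ G.hom))
  haveI : Mono i := (Over.forget _).mono_of_mono_map (inferInstanceAs (Mono i.left))
  have hr : Set.range i.left = Z := H23.RedSub.range_vanishingIdeal ⟨Z, hclosed⟩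
  haveI : ∀ l, IsReduced (wObj X l).left := fun l => by
    haveI := FBaseLib.isReduced_pullback (wObj X l).hom (𝟙 (Spec (CommRingCat.of k)))
    exact isReduced_of_isOpenImmersion (inv (pullback.fst (wObj X l).hom (𝟙 (Spec (CommRingCat.of k)))))
  choose u hu using fun l : {l : List Bool // l.length ≤ N} =>
    exists_lift_range i (wMor f l.1) (hr ▸ Set.subset_iUnion (fun l : {l : List Bool // l.length ≤ N} => Set.range (wMor f l.1).left) l)
  have hcov : ⋃ l : {l : List Bool // l.length ≤ N}, Set.range (u l).left = Set.univ := Set.eq_univ_of_forall fun z => by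
    obtain ⟨l, y, hy⟩ := Set.mem_iUnion.mp (show i.left z ∈ Z from hr.le ⟨z, rfl⟩)
    refine Set.mem_iUnion.mpr ⟨l, y, i.left.injective ?_⟩
    rw [← hy, ← Scheme.Hom.comp_apply, ← Over.comp_left, hu l]
  haveI : GeometricallyReduced I.hom := geometricallyReduced_of_cover σ I _ u hcov
  have hcpt : CompactSpace I.left := by
    rw [← isCompact_univ_iff, ← hcov]
    exact isCompact_iUnion fun l =>
      haveI : CompactSpace (wObj X l.1).left := QuasiCompact.compactSpace_of_compactSpace (wObj X l.1).hom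
      isCompact_range (u l).left.continuous
  haveI : QuasiCompact I.hom := (quasiCompact_iff_compactSpace I.hom).mpr hcpt
  have hlift : ∀ {T : Over (Spec (CommRingCat.of k))} [LocallyOfFiniteType T.hom] [IsReduced T.left] (φ : T ⟶ G),
      (∀ x : geomT σ ⟶ T, x ≫ φ ∈ H) → ∃ φ' : T ⟶ I, φ' ≫ i = φ := by
    intro T _ _ φ hφ
    refine exists_lift_range i φ (hr ▸ ?_)
    rintro _ ⟨z, rfl⟩
    by_contra hz
    obtain ⟨x, hx⟩ := exists_geomPt σ T (S := φ.left ⁻¹' Zᶜ) ⟨z, hz⟩
      (hclosed.isOpen_compl.preimage φ.left.continuous).isLocallyClosed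
    exact hx (hHZ _ (hφ x))
  have hI : ∀ x : geomT σ ⟶ I, x ≫ i ∈ H := fun x => hmem _ (hr.le ⟨x.left (IsLocalRing.closedPoint K), rfl⟩)
  haveI : IsReduced (I ⊗ I).left := FBaseLib.isReduced_pullback I.hom I.hom
  haveI : LocallyOfFiniteType (I ⊗ I).hom := by rw [Over.tensorObj_hom]; infer_instance
  haveI : IsReduced (𝟙_ (Over (Spec (CommRingCat.of k)))).left := inferInstanceAs (IsReduced (Spec (CommRingCat.of k)))
  haveI : LocallyOfFiniteType (𝟙_ (Over (Spec (CommRingCat.of k)))).hom :=
    inferInstanceAs (LocallyOfFiniteType (𝟙 (Spec (CommRingCat.of k))))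
  obtain ⟨e₁, he₁⟩ := hlift (T := 𝟙_ _) η[G] fun x => by
    rw [MonObj.one_eq_one, MonObj.comp_one]; exact H.one_mem
  obtain ⟨m, hm⟩ := hlift ((fst I I ≫ i) * (snd I I ≫ i)) fun x => by
    rw [MonObj.comp_mul, ← Category.assoc, ← Category.assoc]
    exact H.mul_mem (hI _) (hI _)
  obtain ⟨v, hv⟩ := hlift i⁻¹ fun x => by
    rw [GrpObj.comp_inv]
    exact H.inv_mem (hI _)
  obtain ⟨str, hi⟩ := GrpSchLib.exists_grpObj_of_mono i e₁ he₁ m hm v hv
  haveI : IsReduced X.left := by
    haveI := FBaseLib.isReduced_pullback X.hom (𝟙 (Spec (CommRingCat.of k)))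
    exact isReduced_of_isOpenImmersion (inv (pullback.fst X.hom (𝟙 (Spec (CommRingCat.of k)))))
  refine ⟨I, str, i, hi, inferInstance, S7795.result I, inferInstance,
    hlift f fun x => Subgroup.subset_closure ⟨x, rfl⟩, ⟨N, hr⟩, ?_, ?_⟩
  · refine Set.Subset.antisymm (fun g ⟨x, hx⟩ => hx ▸ hI x) fun h hh => ?_
    obtain ⟨l, x, rfl⟩ := (hHw h).mp hh
    exact ⟨x ≫ u l, (Category.assoc _ _ _).trans (congrArg (x ≫ ·) (hu l))⟩
  · intro Γ _ i' hi' hc' ⟨f', hf'⟩
    haveI := hi'; haveI := hc'
    refine exists_lift_range i' i (hr ▸ Set.iUnion_subset fun l => ?_)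
    rw [← hf', ← wMor_comp i' f' l.1]
    rintro _ ⟨y, rfl⟩
    exact ⟨(wMor f' l.1).left y, rfl⟩

end

end Groth.Agent.Deform.GenSub
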