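import Groth.Agent.Deform.GenSub.SpreadComm

/-!
# Spreading the derived series from the generic point
-/

set_option autoImplicit false

universe u

open CategoryTheory CategoryTheory.Limits MonoidalCategory CartesianMonoidalCategory MonObj GrpObj AlgebraicGeometry

attribute [local instance] CategoryTheory.Hom.monoid CategoryTheory.Hom.group
set_option linter.style.haveILetI false
set_option linter.unusedSectionVars false

namespace Groth.Agent.Deform.GenSub.Spread

noncomputable section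

open Chev Luna.SolvLocus
open scoped commutatorElement

variable {S : Scheme.{u}}

/-- An isomorphism is a normal subgroup. -/
theorem isNormalHom_of_isIso {G N : Over S} [GrpObj G] [GrpObj N] (i : N ⟶ G) [IsIso i] : AlgGrp.IsNormalHom i :=
  fun T g n => ⟨(g * (n ≫ i) * g⁻¹) ≫ inv i, by rw [Category.assoc, IsIso.inv_hom_id, Category.comp_id]⟩

/-- A monomorphism isomorphic to a subgroup is a subgroup. -/
theorem exists_grpObj_of_iso {G I J : Over S} [GrpObj G] [GrpObj I] (i : I ⟶ G) [IsMonHom i] (j : J ⟶ G) [Mono j]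
    (φ : J ≅ I) (h : φ.hom ≫ i = j) : ∃ _ : GrpObj J, IsMonHom j := by
  have h' : φ.inv ≫ j = i := by rw [← h, Iso.inv_hom_id_assoc]
  exact GrpSchLib.exists_grpObj_of_mono j (η[I] ≫ φ.inv) (by rw [Category.assoc, h', IsMonHom.one_hom])
    (((fst J J ≫ φ.hom) * (snd J J ≫ φ.hom)) ≫ φ.inv)
    (by rw [Category.assoc, h', MonObj.mul_comp, Category.assoc, Category.assoc, h])
    (φ.hom⁻¹ ≫ φ.inv) (by rw [Category.assoc, h', GrpObj.inv_comp, h])

variable [IsIntegral S] {G : Over S} [GrpObj G]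
  [LocallyOfFinitePresentation G.hom] [QuasiCompact G.hom] [QuasiSeparated G.hom]
  {K : Type u} [Field K] [IsAlgClosed K]
  (σ : Spec (CommRingCat.of K) ⟶ Spec (CommRingCat.of ↑(S.residueField (genericPoint S))))

/-- One step of the derived series at the generic point. -/
theorem exists_step {A : Over S} (a : A ⟶ G) [IsClosedImmersion a.left] [LocallyOfFiniteType A.hom]
    [QuasiCompact A.hom] [GrpObj (Red.bc (gι (genericPoint S)) A)]
    [IsMonHom ((Over.pullback (gι (genericPoint S))).map a)] [Smooth (Red.bc (gι (genericPoint S)) A).hom]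
    (hn : AlgGrp.IsNormalHom ((Over.pullback (gι (genericPoint S))).map a)) :
    ∃ (N : ℕ) (D₀ : Over S) (d₀ : D₀ ⟶ G), IsClosedImmersion d₀.left ∧ LocallyOfFiniteType D₀.hom ∧
      QuasiCompact D₀.hom ∧
      (Set.range fun x : geomS σ ⟶ D₀ => x ≫ d₀) =
        Subgroup.closure (Set.image2 (fun g g' : geomS σ ⟶ G => (⁅g, g'⁆ : geomS σ ⟶ G))
          (Set.range fun x : geomS σ ⟶ A => x ≫ a) (Set.range fun y : geomS σ ⟶ A => y ≫ a)) ∧
      (∃ _ : GrpObj (Red.bc (gι (genericPoint S)) D₀), IsMonHom ((Over.pullback (gι (genericPoint S))).map d₀) ∧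
        Smooth (Red.bc (gι (genericPoint S)) D₀).hom ∧
        AlgGrp.IsNormalHom ((Over.pullback (gι (genericPoint S))).map d₀)) ∧
      ∃ U : S.Opens, genericPoint S ∈ U ∧ Smooth (pullback.snd D₀.hom U.ι) ∧
        ∀ p : D₀.left, D₀.hom p ∈ U → d₀.left p ∈ Set.range (wMor (cm a a) (alt N)).left := by
  let ξ := genericPoint S
  let F := Over.pullback (gι ξ)
  haveI : IsClosedImmersion (F.map a).left :=
    MorphismProperty.overPullbackMap (P := @IsClosedImmersion) (gι ξ) a inferInstance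
  obtain ⟨N, D₀, d₀, hd, hft, hqc, hD, ⟨I, iI, i, hi, hic, his, ⟨c, hc⟩, φ, hφ⟩, U, hU, hsm, hsurj⟩ :=
    exists_data σ a a (.inl ⟨hn, hn⟩)
  haveI := hd; haveI := hi; haveI := his
  haveI : IsClosedImmersion (F.map d₀).left :=
    MorphismProperty.overPullbackMap (P := @IsClosedImmersion) (gι ξ) d₀ inferInstance
  haveI : Mono (F.map d₀) := (Over.forget _).mono_of_mono_map (inferInstanceAs (Mono (F.map d₀).left))
  obtain ⟨str, hmon⟩ := exists_grpObj_of_iso i (F.map d₀) φ hφ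
  haveI := hmon
  haveI : IsIso φ.hom.left := ((Over.forget _).mapIso φ).isIso_hom
  haveI hs : Smooth (Red.bc (gι ξ) D₀).hom := by rw [← Over.w φ.hom]; infer_instance
  haveI : LocallyOfFiniteType (Red.bc (gι ξ) G).hom := MorphismProperty.pullback_snd G.hom (gι ξ) inferInstance
  haveI : QuasiSeparated (Red.bc (gι ξ) G).hom := MorphismProperty.pullback_snd G.hom (gι ξ) inferInstance
  haveI : QuasiSeparated (Red.bc (gι ξ) D₀).hom := by rw [← Over.w (F.map d₀)]; infer_instance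
  haveI : QuasiCompact (Red.bc (gι ξ) A).hom := MorphismProperty.pullback_snd A.hom (gι ξ) inferInstance
  have hnorm : AlgGrp.IsNormalHom (F.map d₀) :=
    isNormalHom_of_words (F.map a) (F.map a) (F.map d₀) hn hn N
      ⟨c ≫ φ.inv, by rw [Category.assoc, ← hφ, Iso.inv_hom_id_assoc, hc]⟩
      (range_sub_words (gι ξ) a a d₀ _ fun q ⟨z, hz⟩ => hsurj q (by
        rw [← hz, show gι ξ z = ξ from Scheme.fromSpecResidueField_apply _ z]
        exact hU))
  exact ⟨N, D₀, d₀, hd, hft, hqc, hD, ⟨str, hmon, hs, hnorm⟩, U, hU, hsm, hsurj⟩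

/-- **The derived series at the generic point, with its spreadings.** -/
theorem exists_chain (hG : Smooth (Red.bc (gι (genericPoint S)) G).hom) : ∀ n : ℕ,
    ∃ (U : S.Opens) (E : ℕ → Σ D : Over S, D ⟶ G), genericPoint S ∈ U ∧ IsIso (E 0).2 ∧
      (∀ p ≤ n, IsClosedImmersion (E p).2.left ∧ LocallyOfFiniteType (E p).1.hom ∧ QuasiCompact (E p).1.hom ∧
        Smooth (pullback.snd (E p).1.hom U.ι)) ∧
      (∀ p < n, ∃ N : ℕ, (Set.range fun x : geomS σ ⟶ (E (p + 1)).1 => x ≫ (E (p + 1)).2) =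
          Subgroup.closure (Set.image2 (fun g g' : geomS σ ⟶ G => (⁅g, g'⁆ : geomS σ ⟶ G))
            (Set.range fun x : geomS σ ⟶ (E p).1 => x ≫ (E p).2) (Set.range fun y : geomS σ ⟶ (E p).1 => y ≫ (E p).2)) ∧
        ∀ q : (E (p + 1)).1.left, (E (p + 1)).1.hom q ∈ U →
          (E (p + 1)).2.left q ∈ Set.range (wMor (cm (E p).2 (E p).2) (alt N)).left) ∧
      (∃ _ : GrpObj (Red.bc (gι (genericPoint S)) (E n).1),
        IsMonHom ((Over.pullback (gι (genericPoint S))).map (E n).2) ∧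
        Smooth (Red.bc (gι (genericPoint S)) (E n).1).hom ∧
        AlgGrp.IsNormalHom ((Over.pullback (gι (genericPoint S))).map (E n).2))
  | 0 => by
    obtain ⟨U, hU, hs⟩ := exists_smooth G.hom hG
    refine ⟨U, fun _ => ⟨G, 𝟙 G⟩, hU, inferInstanceAs (IsIso (𝟙 G)), fun p _ =>
      ⟨inferInstanceAs (IsClosedImmersion (𝟙 G.left)), inferInstanceAs (LocallyOfFiniteType G.hom), inferInstanceAs (QuasiCompact G.hom), hs⟩,
      fun p hp => absurd hp (Nat.not_lt_zero p), inferInstance, ?_, hG, isNormalHom_of_isIso _⟩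
    rw [CategoryTheory.Functor.map_id]
    infer_instance
  | n + 1 => by
    obtain ⟨U, E, hU, h0, hE, hlink, str, hmon, hsA, hn⟩ := exists_chain hG n
    obtain ⟨hc, hft, hqc, -⟩ := hE n le_rfl
    haveI := hc; haveI := hft; haveI := hqc; haveI := hmon; haveI := hsA
    obtain ⟨N, D₀, d₀, hd, hft', hqc', hD, hgrp, V, hV, hsV, hsurj⟩ := exists_step σ (E n).2 hn
    let E' : ℕ → Σ D : Over S, D ⟶ G := fun p => if p ≤ n then E p else ⟨D₀, d₀⟩
    have e₁ : ∀ p ≤ n, E' p = E p := fun p hp => if_pos hp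
    have e₂ : E' (n + 1) = ⟨D₀, d₀⟩ := if_neg (Nat.not_succ_le_self n)
    refine ⟨U ⊓ V, E', ⟨hU, hV⟩, ?_, fun p hp => ?_, fun p hp => ?_, ?_⟩
    · rw [e₁ 0 (Nat.zero_le n)]; exact h0
    · rcases hp.lt_or_eq with hp | rfl
      · rw [e₁ p (Nat.le_of_lt_succ hp)]
        obtain ⟨h₁, h₂, h₃, h₄⟩ := hE p (Nat.le_of_lt_succ hp)
        exact ⟨h₁, h₂, h₃, pr_mono @Smooth _ inf_le_left h₄⟩
      · rw [e₂]
        exact ⟨hd, hft', hqc', pr_mono @Smooth _ inf_le_right hsV⟩
    · rcases (Nat.le_of_lt_succ hp).lt_or_eq with hp | rfl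
      · rw [e₁ p hp.le, e₁ (p + 1) hp]
        obtain ⟨M, h₁, h₂⟩ := hlink p hp
        exact ⟨M, h₁, fun q hq => h₂ q hq.1⟩
      · rw [e₁ p le_rfl, e₂]
        exact ⟨N, hD, fun q hq => hsurj q hq.2⟩
    · rw [e₂]
      exact hgrp

include σ in
/-- **The derived series over an open subset.** -/
theorem exists_derived (hG : Smooth (Red.bc (gι (genericPoint S)) G).hom) (n : ℕ) :
    ∃ U : S.Opens, genericPoint S ∈ U ∧
      ∃ (D : ℕ → Over (U : Scheme.{u})) (_ : ∀ p : Fin (n + 1), GrpObj (D p)) (d : ∀ p, D p ⟶ Red.bc U.ι G),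
        IsIso (d 0) ∧ (∀ p : Fin (n + 1), IsMonHom (d p) ∧ IsClosedImmersion (d p).left ∧ Smooth (D p).hom ∧
          QuasiCompact (D p).hom ∧ AlgGrp.IsNormalHom (d p)) ∧
        ∀ p < n, (∃ c, c ≫ d (p + 1) = cm (d p) (d p)) ∧
          ∃ N, Set.range (d (p + 1)).left ⊆ Set.range (wMor (cm (d p) (d p)) (alt N)).left := by
  obtain ⟨U, E, hU, h0, hE, hlink, -⟩ := exists_chain σ hG n
  haveI := h0
  have hsub : ∀ p ≤ n, ∃ H : Subgroup (geomS σ ⟶ G), (Set.range fun x : geomS σ ⟶ (E p).1 => x ≫ (E p).2) = H := by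
    intro p hp
    cases p with
    | zero =>
      refine ⟨⊤, ?_⟩
      rw [Subgroup.coe_top, Set.range_eq_univ]
      exact fun h => ⟨h ≫ inv (E 0).2, by simp only [Category.assoc, IsIso.inv_hom_id, Category.comp_id]⟩
    | succ p =>
      obtain ⟨N, hN, -⟩ := hlink p hp
      exact ⟨_, hN⟩
  have hgrp : ∀ p : Fin (n + 1), ∃ _ : GrpObj (Red.bc U.ι (E p).1),
      IsMonHom ((Over.pullback U.ι).map (E p).2) ∧ IsClosedImmersion ((Over.pullback U.ι).map (E p).2).left := by
    intro p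
    obtain ⟨hc, -, -, hs⟩ := hE p (Nat.le_of_lt_succ p.2)
    haveI := hc
    obtain ⟨H, hH⟩ := hsub p (Nat.le_of_lt_succ p.2)
    exact exists_group σ (E p).2 hs H hH
  choose str hmon hcl using hgrp
  have hlink' : ∀ p < n, (∃ c, c ≫ (Over.pullback U.ι).map (E (p + 1)).2 =
      cm ((Over.pullback U.ι).map (E p).2) ((Over.pullback U.ι).map (E p).2)) ∧
      ∃ N, Set.range ((Over.pullback U.ι).map (E (p + 1)).2).left ⊆
        Set.range (wMor (cm ((Over.pullback U.ι).map (E p).2) ((Over.pullback U.ι).map (E p).2)) (alt N)).left := by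
    intro p hp
    obtain ⟨hc, -, -, hs⟩ := hE (p + 1) hp
    obtain ⟨-, hft, hqc, hs'⟩ := hE p hp.le
    haveI := hc; haveI := hft; haveI := hqc
    haveI : Smooth (Red.bc U.ι (E p).1).hom := hs'
    obtain ⟨N, hD, hsurj⟩ := hlink p hp
    obtain ⟨-, -, -, -, hcf, hr⟩ := exists_open_data σ (E p).2 (E p).2 (E (p + 1)).2 N hD hsurj hs
    exact ⟨hcf, N, hr⟩
  have hnorm : ∀ (p : ℕ) (hp : p < n + 1),
      @AlgGrp.IsNormalHom _ _ _ (str ⟨p, hp⟩) _ ((Over.pullback U.ι).map (E p).2) := by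
    intro p
    induction p with
    | zero =>
      intro hp
      letI : GrpObj (Red.bc U.ι (E 0).1) := str ⟨0, hp⟩
      exact isNormalHom_of_isIso _
    | succ p ih =>
      intro hp
      have hp' : p < n := Nat.lt_of_succ_lt_succ hp
      obtain ⟨-, -, hqc, hs⟩ := hE p hp'.le
      obtain ⟨-, -, -, hs'⟩ := hE (p + 1) hp'
      haveI := hqc
      letI : GrpObj (Red.bc U.ι (E p).1) := str ⟨p, hp'.trans (Nat.lt_succ_self n)⟩
      letI : GrpObj (Red.bc U.ι (E (p + 1)).1) := str ⟨p + 1, hp⟩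
      haveI : IsMonHom ((Over.pullback U.ι).map (E p).2) := hmon ⟨p, hp'.trans (Nat.lt_succ_self n)⟩
      haveI : IsMonHom ((Over.pullback U.ι).map (E (p + 1)).2) := hmon ⟨p + 1, hp⟩
      haveI : IsClosedImmersion ((Over.pullback U.ι).map (E (p + 1)).2).left := hcl ⟨p + 1, hp⟩
      haveI : Smooth (Red.bc U.ι (E p).1).hom := hs
      haveI : Smooth (Red.bc U.ι (E (p + 1)).1).hom := hs'
      haveI : QuasiCompact (Red.bc U.ι (E p).1).hom := MorphismProperty.pullback_snd _ U.ι inferInstance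
      haveI : LocallyOfFiniteType (Red.bc U.ι G).hom := MorphismProperty.pullback_snd G.hom U.ι inferInstance
      haveI : QuasiSeparated (Red.bc U.ι G).hom := MorphismProperty.pullback_snd G.hom U.ι inferInstance
      haveI : QuasiSeparated (Red.bc U.ι (E (p + 1)).1).hom := by
        rw [← Over.w ((Over.pullback U.ι).map (E (p + 1)).2)]; infer_instance
      obtain ⟨hc, N, hr⟩ := hlink' p hp'
      exact isNormalHom_of_words _ _ _ (ih _) (ih _) N hc hr
  refine ⟨U, hU, fun p => Red.bc U.ι (E p).1, str, fun p => (Over.pullback U.ι).map (E p).2, inferInstance,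
    fun p => ⟨hmon p, hcl p, ?_, ?_, hnorm p p.2⟩, hlink'⟩
  · exact (hE p (Nat.le_of_lt_succ p.2)).2.2.2
  · haveI := (hE p (Nat.le_of_lt_succ p.2)).2.2.1
    exact MorphismProperty.pullback_snd _ U.ι inferInstance

end

end Groth.Agent.Deform.GenSub.Spread
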