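import Groth.Agent.Deform.GenSub.DimSemi
import Groth.Agent.Deform.GenSub.CommField
import Groth.Agent.Deform.GenSub.SpreadDerived

/-!
# The derived group of a group over an algebraically closed field, covered by words
-/

set_option autoImplicit false

universe u

open CategoryTheory CategoryTheory.Limits MonoidalCategory CartesianMonoidalCategory MonObj GrpObj AlgebraicGeometry
open scoped commutatorElement

attribute [local instance] CategoryTheory.Hom.monoid CategoryTheory.Hom.group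
set_option linter.style.haveILetI false
set_option linter.unusedSectionVars false

namespace Groth.Agent.Deform.GenSub.DimSemi

noncomputable section

theorem exists_derived_field {K : Type u} [Field K] [IsAlgClosed K] (H : Over (Spec (CommRingCat.of K))) [GrpObj H]
    [Smooth H.hom] (hq : QuasiCompact H.hom ∨ ConnectedSpace H.left) :
    ∃ (N : Over (Spec (CommRingCat.of K))) (_ : GrpObj N) (i : N ⟶ H), IsMonHom i ∧ IsClosedImmersion i.left ∧
      AlgGrp.IsNormalHom i ∧
      (∀ (T : Over (Spec (CommRingCat.of K))) (g h : T ⟶ H), ∃ m : T ⟶ N, g * h * g⁻¹ * h⁻¹ = m ≫ i) ∧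
      ∀ z, ∃ l, i.left z ∈ Set.range (wMor (Spread.cm (𝟙 H) (𝟙 H)) l).left := by
  haveI : QuasiCompact H.hom := hq.elim id fun _ => quasiCompact_of_connected H
  haveI := GrpSchLib.IsogenyFibre.geometricallyReduced_of_smooth' H.hom
  haveI : IsMonHom (𝟙 H) := inferInstance
  haveI : IsClosedImmersion (𝟙 H : H ⟶ H).left := inferInstanceAs (IsClosedImmersion (𝟙 H.left))
  haveI : LocallyOfFiniteType (H ⊗ H).hom := by rw [Over.tensorObj_hom]; infer_instance
  haveI : QuasiCompact (H ⊗ H).hom := by rw [Over.tensorObj_hom]; infer_instance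
  haveI := geometricallyReduced_tensor H H
  have hn := Spread.isNormalHom_of_isIso (𝟙 H)
  obtain ⟨I, iI, i, hi, hic, -, -, hf, ⟨M, hM⟩, -, -⟩ := exists_generated (𝟙 (Spec (CommRingCat.of K)))
    (commMor (𝟙 H) (𝟙 H)) (bounded_commMor (𝟙 (Spec (CommRingCat.of K))) (𝟙 H) (𝟙 H) (Or.inl ⟨hn, hn, inferInstance⟩)).1
  haveI := hi
  obtain ⟨f', hf'⟩ := hf
  have hc : ∀ (T : Over (Spec (CommRingCat.of K))) (g h : T ⟶ H), ∃ m : T ⟶ I, g * h * g⁻¹ * h⁻¹ = m ≫ i :=
    fun T g h => ⟨lift g h ≫ f', by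
      rw [Category.assoc, hf']
      simp [MonObj.comp_mul, GrpObj.comp_inv]⟩
  refine ⟨I, iI, i, hi, hic, fun T g x => ?_, hc, fun z => ?_⟩
  · obtain ⟨m, hm⟩ := hc T g (x ≫ i)
    exact ⟨m * x, by rw [MonObj.mul_comp, ← hm, inv_mul_cancel_right]⟩
  · obtain ⟨l, hl⟩ := Set.mem_iUnion.mp (hM.le ⟨z, rfl⟩)
    exact ⟨l.1, hl⟩

theorem exists_lift_open {S : Scheme.{u}} {A B T : Over S} (j : A ⟶ B) [IsOpenImmersion j.left] (f : T ⟶ B)
    (h : Set.range f.left ⊆ Set.range j.left) : ∃ g : T ⟶ A, g ≫ j = f :=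
  ⟨Over.homMk (IsOpenImmersion.lift j.left f.left h) (by rw [← Over.w j, IsOpenImmersion.lift_fac_assoc, Over.w]),
    Over.OverMorphism.ext (IsOpenImmersion.lift_fac _ _ _)⟩

theorem map_cm_self {S : Scheme.{u}} {G : Over S} [GrpObj G] {K : Type u} [Field K]
    (σ : Spec (CommRingCat.of K) ⟶ S) {N : Over (Spec (CommRingCat.of K))} {U : Over S} (j : U ⟶ G)
    {H : Over (Spec (CommRingCat.of K))} [GrpObj H] (c : H ⟶ Red.bc σ G) [IsMonHom c] (i : N ⟶ H)
    (u : (Over.pullback σ).obj U ⟶ H) (hu : u ≫ c = (Over.pullback σ).map j)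
    (hc : ∀ (T : Over (Spec (CommRingCat.of K))) (g h : T ⟶ H), ∃ m : T ⟶ N, g * h * g⁻¹ * h⁻¹ = m ≫ i) :
    ∃ m, m ≫ i ≫ c = (Over.pullback σ).map (Spread.cm j j) := by
  obtain ⟨m, hm⟩ := hc _ ((Over.pullback σ).map (fst U U) ≫ u) ((Over.pullback σ).map (snd U U) ≫ u)
  refine ⟨m, ?_⟩
  rw [← reassoc_of% hm, Spread.map_cm, Spread.comp_cm, lift_fst, lift_snd, commutatorElement_def, ← hu,
    MonObj.mul_comp, MonObj.mul_comp, MonObj.mul_comp, GrpObj.inv_comp, GrpObj.inv_comp]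
  simp only [Category.assoc]

end

end Groth.Agent.Deform.GenSub.DimSemi
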