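import Groth.Agent.Deform.GenSub.SpreadWord
import Groth.Agent.FibDim.Minimal
import Groth.Agent.FibDim.BaseField
import Groth.Agent.FibDim.BaseChange
import Groth.Agent.FibDim.AffineSpaceFibre
import Groth.Agent.AlgSpDec.SmoothLocDim
import Groth.Agent.GrpSchLib.Neutral
import Groth.Agent.GrpSchLib.IdentityComp
import Groth.Agent.S15351
import Groth.Agent.S5322
import Mathlib.AlgebraicGeometry.Morphisms.FlatMono

/-!
# Dimensions of images of words in the fibres
-/

set_option autoImplicit false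

universe u

open CategoryTheory CategoryTheory.Limits MonoidalCategory CartesianMonoidalCategory MonObj GrpObj AlgebraicGeometry

attribute [local instance] CategoryTheory.Hom.monoid CategoryTheory.Hom.group
set_option linter.style.haveILetI false
set_option linter.unusedSectionVars false

namespace Groth.Agent.Deform.GenSub.DimSemi

noncomputable section

open FibDim

/-- A relative dimension near a point of a smooth morphism. -/
theorem exists_open_rd {P S : Scheme.{u}} (p : P ⟶ S) [Smooth p] (x : P) :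
    ∃ (V : P.Opens) (m : ℕ), x ∈ V ∧ ∀ z ∈ V, FibMax p z → rd p z = m := by
  obtain ⟨V, j, v, m, hj, hv, hm⟩ := AlgSpDec.SmoothLocDim.exists_smoothOfRelativeDimension_nhd p x
  refine ⟨j.opensRange, m, ⟨v, hv⟩, ?_⟩
  rintro _ ⟨w, rfl⟩ hmax
  haveI : LocallyQuasiFinite j := inferInstance
  have hmax' : FibMax (j ≫ p) w := fun w' h h' =>
    j.isOpenEmbedding.injective (hmax _ (h.map j.continuous) h')
  have h := Groth.Agent.S2768.result m (j ≫ p) w
  rw [fibreDimAt_eq_rd (j ≫ p) hmax'] at h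
  have h' : rd (j ≫ p) w = m := by exact_mod_cast h
  rwa [rd_comp, rd_eq_zero_of_quasiFinite j w, Nat.add_zero] at h'

/-- Large dimension of the image spreads to generalizations. -/
theorem exists_of_specializes {P Y S : Scheme.{u}} (w : P ⟶ Y) (g : Y ⟶ S) [LocallyOfFiniteType g]
    [Smooth (w ≫ g)] (n : ℕ) {s s' : S} (hs : s ⤳ s') (x : P) (hx : (w ≫ g) x = s') (hn : n < rd g (w x)) :
    ∃ x' : P, (w ≫ g) x' = s ∧ n < rd g (w x') := by
  haveI : LocallyOfFiniteType w := locallyOfFiniteType_of_comp w g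
  obtain ⟨ν, hνx, hνs, hmax, -⟩ := exists_fibMax_generization (w ≫ g) x
  have hgν : g (w ν) = g (w x) := hνs
  have hn' : n < rd g (w ν) := hn.trans_le (rd_le_of_specializes g (hνx.map w.continuous) hgν)
  obtain ⟨V, m, hνV, hV⟩ := exists_open_rd (w ≫ g) ν
  have hm := hV ν hνV hmax
  rw [rd_comp] at hm
  have hmaxw : FibMax w ν := fun z h h' => hmax z h (congrArg g h')
  let U : Set P := (V : Set P) ∩ {z | FlatMor.fibreDimAt w z ≤ rd w ν}
  have hU : IsOpen U := V.isOpen.inter (isOpen_fibreDimAt_le w (rd w ν))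
  have hνU : ν ∈ U := ⟨hνV, (fibreDimAt_eq_rd w hmaxw).le⟩
  have hsU : s ∈ (w ≫ g) '' U := hs.mem_open ((w ≫ g).isOpenMap U hU) ⟨ν, hνU, hνs.trans hx⟩
  obtain ⟨x', hx'U, hx's⟩ := hsU
  obtain ⟨θ, hθx, hθs, hθmax, -⟩ := exists_fibMax_generization (w ≫ g) x'
  obtain ⟨hθV, hθd⟩ : θ ∈ U := hθx.mem_open hU hx'U
  have hm' := hV θ hθV hθmax
  rw [rd_comp] at hm'
  have hle : rd w θ ≤ rd w ν := by
    have h := (fibreDimAt_eq_rd w (fun z h h' => hθmax z h (congrArg g h'))).ge.trans hθd
    exact_mod_cast h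
  exact ⟨θ, hθs.trans hx's, by omega⟩

variable {S : Scheme.{u}} {G X : Over S} [GrpObj G]

/-- Some word has an image of dimension larger than `n` in the fibre at `s`. -/
def Big (f : X ⟶ G) (n : ℕ) [LocallyOfFiniteType G.hom] (s : S) : Prop :=
  ∃ (l : List Bool) (x : (wObj X l).left), (wObj X l).hom x = s ∧ n < rd G.hom ((wMor f l).left x)

variable [LocallyOfFiniteType G.hom] (f : X ⟶ G) (n : ℕ)

theorem big_of_specializes [Smooth X.hom] {s s' : S} (hs : s ⤳ s') (h : Big f n s') : Big f n s := by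
  obtain ⟨l, x, hx, hn⟩ := h
  haveI : Smooth ((wMor f l).left ≫ G.hom) := by rw [Over.w]; exact Spread.smooth_wObj X l
  obtain ⟨x', hx', hn'⟩ := exists_of_specializes (wMor f l).left G.hom n hs x (by rw [Over.w]; exact hx) hn
  exact ⟨l, x', by rw [← Over.w (wMor f l)]; exact hx', hn'⟩

variable {K : Type u} [Field K] (σ : Spec (CommRingCat.of K) ⟶ S) {N : Over (Spec (CommRingCat.of K))}

theorem rd_le_dim {P Y : Scheme.{u}} (j : P ⟶ Y) (π : Y ⟶ Spec (CommRingCat.of K)) [LocallyOfFiniteType π]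
    [LocallyOfFiniteType j] (hd : topologicalKrullDim P ≤ (n : WithBot ℕ∞)) (z : P) : rd π (j z) ≤ n := by
  rw [topologicalKrullDim_eq_iSup_rd (j ≫ π)] at hd
  have h : ((rd (j ≫ π) z : ℕ∞) : WithBot ℕ∞) ≤ (n : WithBot ℕ∞) :=
    le_trans (le_iSup (fun z => ((rd (j ≫ π) z : ℕ∞) : WithBot ℕ∞)) z) hd
  have h' : rd (j ≫ π) z ≤ n := by exact_mod_cast h
  rw [rd_comp] at h'
  omega

theorem dim_le {P Y : Scheme.{u}} (j : P ⟶ Y) (π : Y ⟶ Spec (CommRingCat.of K)) [LocallyOfFiniteType π]
    [LocallyOfFiniteType j] [LocallyQuasiFinite j] (h : ∀ z, rd π (j z) ≤ n) :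
    topologicalKrullDim P ≤ (n : WithBot ℕ∞) := by
  rw [topologicalKrullDim_eq_iSup_rd (j ≫ π)]
  refine iSup_le fun z => ?_
  rw [rd_comp, rd_eq_zero_of_quasiFinite j z, Nat.add_zero]
  exact_mod_cast h z

/-- If a subgroup of small dimension over a point contains the generator, no word is large at the point. -/
theorem not_big [GrpObj N] (j : N ⟶ Red.bc σ G) [IsMonHom j] [LocallyOfFiniteType j.left]
    (m : (Over.pullback σ).obj X ⟶ N) (hm : m ≫ j = (Over.pullback σ).map f)
    (hd : topologicalKrullDim N.left ≤ (n : WithBot ℕ∞)) (s : S) (hσ : ∀ p, σ p = s) : ¬ Big f n s := by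
  rintro ⟨l, x, hx, hn⟩
  haveI : LocallyOfFiniteType (Red.bc σ G).hom := MorphismProperty.pullback_snd G.hom σ inferInstance
  obtain ⟨p⟩ : Nonempty (Spec (CommRingCat.of K)) := inferInstance
  obtain ⟨y, hy, -, hrd⟩ := exists_rd_baseChange_eq (IsPullback.of_hasPullback G.hom σ) ((wMor f l).left x) p
    (by rw [hσ, ← hx, ← Scheme.Hom.comp_apply, Over.w])
  obtain ⟨θ, hθ⟩ := Spread.exists_map_wMor σ f ((Over.pullback σ).map f) (𝟙 _) (Category.id_comp _) l
  obtain ⟨b, hb⟩ := (Spread.range_map σ (wMor f l)).ge (show y ∈ pullback.fst G.hom σ ⁻¹' Set.range (wMor f l).left from ⟨x, hy.symm⟩)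
  have hj : y = j.left ((θ ≫ wMor m l).left b) := by
    rw [← hb, ← hθ, ← hm, ← wMor_comp]
    rfl
  have hle := rd_le_dim n j.left (Red.bc σ G).hom hd ((θ ≫ wMor m l).left b)
  rw [← hj] at hle
  exact absurd hle (not_le.mpr (hn.trans_eq hrd.symm))

omit [LocallyOfFiniteType G.hom] in
/-- Words of a base change factor through the base change of the words. -/
theorem exists_wMor_map {X' : Over (Spec (CommRingCat.of K))} (f' : X' ⟶ Red.bc σ G)
    (v : X' ⟶ (Over.pullback σ).obj X) (hv : v ≫ (Over.pullback σ).map f = f') :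
    ∀ l, ∃ θ : wObj X' l ⟶ (Over.pullback σ).obj (wObj X l), θ ≫ (Over.pullback σ).map (wMor f l) = wMor f' l
  | [] => ⟨Functor.LaxMonoidal.ε (Over.pullback σ), by
      show Functor.LaxMonoidal.ε (Over.pullback σ) ≫ (Over.pullback σ).map (1 : 𝟙_ (Over S) ⟶ G) =
        (1 : 𝟙_ (Over (Spec (CommRingCat.of K))) ⟶ Red.bc σ G)
      rw [Functor.map_one, MonObj.comp_one]⟩
  | β :: l => by
    obtain ⟨θ, hθ⟩ := exists_wMor_map f' v hv l
    let L : X' ⊗ wObj X' l ⟶ (Over.pullback σ).obj (X ⊗ wObj X l) :=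
      lift (fst X' (wObj X' l) ≫ v) (snd X' (wObj X' l) ≫ θ) ≫ Functor.LaxMonoidal.μ (Over.pullback σ) X (wObj X l)
    have h1 : L ≫ (Over.pullback σ).map (fst X (wObj X l)) = fst X' (wObj X' l) ≫ v := by
      simp only [L, Category.assoc, Functor.Monoidal.μ_fst, lift_fst]
    have h2 : L ≫ (Over.pullback σ).map (snd X (wObj X l)) = snd X' (wObj X' l) ≫ θ := by
      simp only [L, Category.assoc, Functor.Monoidal.μ_snd, lift_snd]
    refine ⟨L, ?_⟩
    cases β with
    | true =>
      show L ≫ (Over.pullback σ).map ((fst X (wObj X l) ≫ f) * (snd X (wObj X l) ≫ wMor f l) : X ⊗ wObj X l ⟶ G) =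
        ((fst X' (wObj X' l) ≫ f') * (snd X' (wObj X' l) ≫ wMor f' l) : X' ⊗ wObj X' l ⟶ Red.bc σ G)
      rw [Functor.map_mul, MonObj.comp_mul, Functor.map_comp, Functor.map_comp, reassoc_of% h1, reassoc_of% h2, hv, hθ]
    | false =>
      show L ≫ (Over.pullback σ).map ((fst X (wObj X l) ≫ f)⁻¹ * (snd X (wObj X l) ≫ wMor f l) : X ⊗ wObj X l ⟶ G) =
        ((fst X' (wObj X' l) ≫ f')⁻¹ * (snd X' (wObj X' l) ≫ wMor f' l) : X' ⊗ wObj X' l ⟶ Red.bc σ G)
      rw [Functor.map_mul, Spread.map_inv, MonObj.comp_mul, GrpObj.comp_inv, Functor.map_comp, Functor.map_comp,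
        reassoc_of% h1, reassoc_of% h2, hv, hθ]

/-- A subgroup covered by words has small dimension at a point where no word is large. -/
theorem dim_le_of_not_big (j : N ⟶ Red.bc σ G) [LocallyOfFiniteType j.left] [LocallyQuasiFinite j.left]
    {X' : Over (Spec (CommRingCat.of K))} (f' : X' ⟶ Red.bc σ G)
    (v : X' ⟶ (Over.pullback σ).obj X) (hv : v ≫ (Over.pullback σ).map f = f') (s : S) (hσ : ∀ p, σ p = s)
    (hcov : ∀ z, ∃ l, j.left z ∈ Set.range (wMor f' l).left) (hbig : ¬ Big f n s) :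
    topologicalKrullDim N.left ≤ (n : WithBot ℕ∞) := by
  haveI : LocallyOfFiniteType (Red.bc σ G).hom := MorphismProperty.pullback_snd G.hom σ inferInstance
  refine dim_le n j.left (Red.bc σ G).hom fun z => ?_
  obtain ⟨l, w, hw⟩ := hcov z
  obtain ⟨θ, hθ⟩ := exists_wMor_map f σ f' v hv l
  obtain ⟨x, hx⟩ := (Spread.range_map σ (wMor f l)).le (show j.left z ∈ Set.range ((Over.pullback σ).map (wMor f l)).left from ⟨θ.left w, by rw [← hw, ← hθ]; rfl⟩)
  refine le_trans (rd_baseChange_le (IsPullback.of_hasPullback G.hom σ) (j.left z)) (not_lt.mp fun h => hbig ?_)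
  refine ⟨l, x, ?_, hx ▸ h⟩
  rw [← Over.w (wMor f l), Scheme.Hom.comp_apply, hx, ← Scheme.Hom.comp_apply, pullback.condition,
    Scheme.Hom.comp_apply, hσ]

/-- Openness of the neutral components of a smooth group. -/
theorem isOpen_neutralSet [Smooth G.hom] [QuasiSeparated G.hom] : IsOpen (SGA3x.neutralSet G) := by
  refine isOpen_iff_forall_mem_open.mpr fun x hx => ?_
  obtain ⟨V, hV, hsV, -⟩ := exists_isAffineOpen_mem_and_subset (x := G.hom x) (U := ⊤) trivial
  haveI : IsAffine (V : Scheme.{u}) := hV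
  haveI : Smooth (Red.bc V.ι G).hom := MorphismProperty.pullback_snd G.hom V.ι inferInstance
  haveI : QuasiSeparated (Red.bc V.ι G).hom := MorphismProperty.pullback_snd G.hom V.ι inferInstance
  haveI : QuasiSeparatedSpace (Red.bc V.ι G).left := quasiSeparatedSpace_of_quasiSeparated (Red.bc V.ι G).hom
  have hop : IsOpen (SGA3x.neutralSet (Red.bc V.ι G)) := by
    have h := Groth.Agent.S15351.result (Red.bc V.ι G).hom (GrpSchLib.Neutral.unit (Red.bc V.ι G))
      (Over.w η[Red.bc V.ι G])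
    rwa [show MoreMor.sectionComponents (Red.bc V.ι G).hom (GrpSchLib.Neutral.unit (Red.bc V.ι G)) =
      SGA3x.neutralSet (Red.bc V.ι G) from Set.ext fun y => (GrpSchLib.Neutral.mem_neutralSet_iff _).symm] at h
  rw [Groth.Agent.S5322.result] at hop
  refine ⟨pullback.fst G.hom V.ι '' (pullback.fst G.hom V.ι ⁻¹' SGA3x.neutralSet G),
    Set.image_preimage_subset _ _, (pullback.fst G.hom V.ι).isOpenEmbedding.isOpenMap _ hop, ?_⟩
  obtain ⟨y, hy, -⟩ := Scheme.Pullback.exists_preimage_pullback (f := G.hom) (g := V.ι) x ⟨G.hom x, hsV⟩ rfl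
  exact ⟨y, by rwa [Set.mem_preimage, hy], hy⟩

omit [LocallyOfFiniteType G.hom] in
/-- The neutral set over a field. -/
theorem neutralSet_field (H : Over (Spec (CommRingCat.of K))) [GrpObj H] :
    SGA3x.neutralSet H = connectedComponent (η[H].left (IsLocalRing.closedPoint K)) := by
  ext z
  rw [GrpSchLib.Neutral.mem_neutralSet_iff,
    show H.hom ⁻¹' {H.hom z} = Set.univ from Set.eq_univ_of_forall fun w => Subsingleton.elim _ _,
    connectedComponentIn_univ, show GrpSchLib.Neutral.unit H (H.hom z) = η[H].left (IsLocalRing.closedPoint K) from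
      congrArg _ (Subsingleton.elim _ _)]

omit [LocallyOfFiniteType G.hom] in
/-- The identity component as an open subgroup. -/
theorem exists_open_identity (H : Over (Spec (CommRingCat.of K))) [GrpObj H] [LocallyOfFiniteType H.hom] :
    ∃ (C : Over (Spec (CommRingCat.of K))) (_ : GrpObj C) (c : C ⟶ H), IsMonHom c ∧ IsOpenImmersion c.left ∧
      IsClosedImmersion c.left ∧ ConnectedSpace C.left ∧ Set.range c.left = SGA3x.neutralSet H := by
  obtain ⟨C, hC, c, hc, hcl, hfl, hr, hirr, -⟩ := GrpSchLib.exists_identityComponent (G := H)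
  haveI := hcl; haveI := hfl
  haveI : IsLocallyNoetherian H.left := LocallyOfFiniteType.isLocallyNoetherian H.hom
  haveI : LocallyOfFinitePresentation c.left := LocallyOfFinitePresentation.iff_locallyOfFiniteType.2 inferInstance
  haveI : IsOpenImmersion c.left := IsOpenImmersion.of_flat_of_mono c.left
  refine ⟨C, hC, c, hc, inferInstance, hcl, ?_, by rw [neutralSet_field]; exact hr⟩
  rw [connectedSpace_iff_univ]
  refine ⟨⟨η[C].left (IsLocalRing.closedPoint K), trivial⟩, ?_⟩
  rw [← c.left.isEmbedding.isInducing.isPreconnected_image, Set.image_univ, hr]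
  exact isPreconnected_connectedComponent

omit [LocallyOfFiniteType G.hom] in
/-- A connected open and closed subgroup is the identity component. -/
theorem range_eq_neutralSet {C H : Over (Spec (CommRingCat.of K))} [GrpObj C] [GrpObj H] (c : C ⟶ H) [IsMonHom c]
    [IsOpenImmersion c.left] [IsClosedImmersion c.left] [ConnectedSpace C.left] :
    Set.range c.left = SGA3x.neutralSet H := by
  rw [neutralSet_field]
  have h : η[H].left (IsLocalRing.closedPoint K) ∈ Set.range c.left :=
    ⟨η[C].left (IsLocalRing.closedPoint K), by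
      rw [← Scheme.Hom.comp_apply, ← Over.comp_left, IsMonHom.one_hom]⟩
  refine subset_antisymm ((isPreconnected_range c.left.continuous).subset_connectedComponent h) ?_
  exact (IsClopen.connectedComponent_subset
    ⟨c.left.isClosedEmbedding.isClosed_range, c.left.isOpenEmbedding.isOpen_range⟩ h)

end

end Groth.Agent.Deform.GenSub.DimSemi
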