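import Groth.Agent.Deform.GenSub.Descend
import Groth.Agent.TransLib.Universal
import Groth.Agent.S5356
import Groth.Agent.GrpSchLib.MonoSubgroup
import Groth.Agent.FBaseLib.Product

/-!
# The closed subgroup generated by a geometrically reduced scheme, over an arbitrary group over a field
-/

set_option autoImplicit false

universe u

open CategoryTheory CategoryTheory.Limits MonoidalCategory CartesianMonoidalCategory MonObj GrpObj AlgebraicGeometry
open TopologicalSpace

attribute [local instance] CategoryTheory.Hom.monoid CategoryTheory.Hom.group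
set_option linter.style.haveILetI false
set_option linter.unusedSectionVars false

namespace Groth.Agent.Deform.GenSub

noncomputable section

open scoped TensorProduct

/-- Reducedness after a field extension passes along jointly injective maps. -/
theorem isReduced_tensor_of_jointly_injective {k L A : Type u} [Field k] [Field L] [Algebra k L] [CommRing A]
    [Algebra k A] {J : Type u} (B : J → Type u) [∀ j, CommRing (B j)] [∀ j, Algebra k (B j)]
    (ψ : ∀ j, A →ₐ[k] B j) (hψ : ∀ a, (∀ j, ψ j a = 0) → a = 0) (hB : ∀ j, _root_.IsReduced (L ⊗[k] B j)) :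
    _root_.IsReduced (L ⊗[k] A) := by
  classical
  let b := Module.Basis.ofVectorSpace k L
  refine ⟨fun x hx => ?_⟩
  have hc : ∀ (j) (x : L ⊗[k] A) (i), TensorProduct.equivFinsuppOfBasisLeft b
      (Algebra.TensorProduct.map (AlgHom.id k L) (ψ j) x) i =
        ψ j (TensorProduct.equivFinsuppOfBasisLeft b x i) := by
    intro j x i
    induction x using TensorProduct.induction_on with
    | zero => simp
    | tmul l a => simp [Algebra.TensorProduct.map_tmul, TensorProduct.equivFinsuppOfBasisLeft_apply_tmul]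
    | add x y hx hy => simp [map_add, hx, hy]
  refine (TensorProduct.equivFinsuppOfBasisLeft b).injective (Finsupp.ext fun i => ?_)
  rw [map_zero]
  refine hψ _ fun j => ?_
  haveI := hB j
  rw [← hc, IsNilpotent.eq_zero (hx.map (Algebra.TensorProduct.map (AlgHom.id k L) (ψ j))), map_zero]
  rfl

/-- Reducedness of a base change of an affine scheme. -/
theorem isReduced_bc_iff {k L A : Type u} [Field k] [Field L] [Algebra k L] [CommRing A] [Algebra k A] :
    IsReduced (pullback (Spec.map (CommRingCat.ofHom (algebraMap k A))) (Spec.map (CommRingCat.ofHom (algebraMap k L)))) ↔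
      _root_.IsReduced (L ⊗[k] A) := by
  let e : pullback (Spec.map (CommRingCat.ofHom (algebraMap k A))) (Spec.map (CommRingCat.ofHom (algebraMap k L))) ≅
      Spec (CommRingCat.of (L ⊗[k] A)) := pullbackSymmetry _ _ ≪≫ pullbackSpecIso k L A
  refine ⟨fun h => ?_, fun h => ?_⟩
  · exact (affine_isReduced_iff (CommRingCat.of (L ⊗[k] A))).mp (isReduced_of_isOpenImmersion e.inv)
  · haveI : IsReduced (Spec (CommRingCat.of (L ⊗[k] A))) :=
      (affine_isReduced_iff (CommRingCat.of (L ⊗[k] A))).mpr h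
    exact isReduced_of_isOpenImmersion e.hom

variable {k : Type u} [Field k]

/-- A reduced scheme with a dense family of geometrically reduced schemes mapping to it is geometrically reduced. -/
theorem geometricallyReduced_of_dense {C : Over (Spec (CommRingCat.of k))} [IsReduced C.left] {J : Type}
    (W : J → Over (Spec (CommRingCat.of k))) [∀ j, GeometricallyReduced (W j).hom] (u : ∀ j, W j ⟶ C)
    (hd : Dense (⋃ j, Set.range (u j).left)) : GeometricallyReduced C.hom := by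
  refine ⟨geometrically_iff_of_commRing_of_isClosedUnderIsomorphisms.mpr fun L _ _ => ?_⟩
  let 𝒰 : C.left.AffineOpenCover := C.left.affineOpenCover
  refine @IsReduced.of_openCover _ (Scheme.Pullback.openCoverOfLeft 𝒰.openCover C.hom _) fun i => ?_
  let e : Spec (𝒰.X i) ⟶ C.left := 𝒰.f i
  show IsReduced (pullback (e ≫ C.hom) _)
  obtain ⟨φ, hφ⟩ := Spec.map_surjective (e ≫ C.hom)
  rw [← hφ]
  letI : Algebra k (𝒰.X i) := φ.hom.toAlgebra
  show IsReduced (pullback (Spec.map (CommRingCat.ofHom (algebraMap k (𝒰.X i)))) _)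
  rw [isReduced_bc_iff]
  let O : ∀ j, (W j).left.Opens := fun j => (u j).left ⁻¹ᵁ e.opensRange
  let ι' := Σ j : J, (O j).toScheme.affineOpenCover.I₀
  let R : ULift.{u} ι' → CommRingCat.{u} := fun p => (O p.down.1).toScheme.affineOpenCover.X p.down.2
  let g : ∀ p, Spec (R p) ⟶ (W p.down.1).left := fun p =>
    (O p.down.1).toScheme.affineOpenCover.f p.down.2 ≫ (O p.down.1).ι
  have hrange : ∀ p, Set.range (g p ≫ (u p.down.1).left) ⊆ Set.range e := by
    rintro p _ ⟨z, rfl⟩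
    exact ((O p.down.1).toScheme.affineOpenCover.f p.down.2 z).2
  let t : ∀ p, Spec (R p) ⟶ Spec (𝒰.X i) := fun p => IsOpenImmersion.lift e _ (hrange p)
  choose ψ hψ using fun p => Spec.map_surjective (t p)
  letI : ∀ p, Algebra k (R p) := fun p => (φ ≫ ψ p).hom.toAlgebra
  refine isReduced_tensor_of_jointly_injective (fun p => R p) (fun p => AlgHom.mk (ψ p).hom fun _ => rfl) ?_ ?_
  · intro a ha
    haveI : _root_.IsReduced (𝒰.X i) :=
      (affine_isReduced_iff _).mp (isReduced_of_isOpenImmersion e)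
    have hz : PrimeSpectrum.zeroLocus ({a} : Set (𝒰.X i)) = Set.univ := by
      refine Set.eq_univ_of_forall fun z => (PrimeSpectrum.isClosed_zeroLocus _).closure_subset_iff.mpr subset_rfl
        (mem_closure_iff.mpr fun U hU hzU => ?_)
      obtain ⟨_, ⟨y, hyU, rfl⟩, hyd⟩ := hd.inter_open_nonempty _ (e.isOpenEmbedding.isOpenMap U hU) ⟨e z, z, hzU, rfl⟩
      obtain ⟨j, w, hw⟩ := Set.mem_iUnion.mp hyd
      obtain ⟨q, b, hb⟩ := (O j).toScheme.affineOpenCover.openCover.exists_eq ⟨w, show (u j).left w ∈ e.opensRange from hw ▸ ⟨y, rfl⟩⟩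
      let p : ULift.{u} ι' := ⟨⟨j, q⟩⟩
      have hy : t p b = y := e.isOpenEmbedding.injective (by
        rw [← Scheme.Hom.comp_apply, IsOpenImmersion.lift_fac]
        show (u j).left ((O j).ι ((O j).toScheme.affineOpenCover.f q b)) = e y
        exact (congrArg (fun v => (u j).left ((O j).ι v)) hb).trans hw)
      refine ⟨y, hyU, ?_⟩
      rw [← hy, ← hψ p]
      intro x hx
      rw [Set.mem_singleton_iff.mp hx]
      show ψ p a ∈ (PrimeSpectrum.asIdeal b)
      rw [show (ψ p) a = 0 from ha p]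
      exact Submodule.zero_mem _
    rw [PrimeSpectrum.zeroLocus_eq_univ_iff, Set.singleton_subset_iff] at hz
    exact IsNilpotent.eq_zero hz
  · intro p
    rw [← isReduced_bc_iff (A := R p)]
    have hg : Spec.map (CommRingCat.ofHom (algebraMap k (R p))) = g p ≫ (W p.down.1).hom := by
      show Spec.map (φ ≫ ψ p) = _
      rw [Spec.map_comp, hφ, hψ, ← Category.assoc, IsOpenImmersion.lift_fac, Category.assoc, Over.w]
    rw [hg]
    haveI := FBaseLib.geometricallyReduced_comp_openImmersion (g p) (W p.down.1).hom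
    exact pullback_of_geometrically (GeometricallyReduced.geometrically_isReduced) L _

variable {G X : Over (Spec (CommRingCat.of k))}

theorem isReduced_left [GeometricallyReduced X.hom] : IsReduced X.left := by
  haveI : IsReduced (pullback X.hom (𝟙 (Spec (CommRingCat.of k)))) :=
    pullback_of_geometrically (GeometricallyReduced.geometrically_isReduced) k _
  exact isReduced_of_isOpenImmersion (inv (pullback.fst X.hom (𝟙 (Spec (CommRingCat.of k)))))

theorem geometricallyReduced_wObj [GeometricallyReduced X.hom] : ∀ l, GeometricallyReduced (wObj X l).hom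
  | [] => GrpSchLib.IsogenyFibre.geometricallyReduced_of_smooth' (𝟙 (Spec (CommRingCat.of k)))
  | _ :: l => by
    haveI := geometricallyReduced_wObj l
    exact geometricallyReduced_tensor X (wObj X l)

variable [GrpObj G] (f : X ⟶ G)

/-- **The smallest closed subgroup through a geometrically reduced morphism.** -/
theorem exists_generated_closed [GeometricallyReduced X.hom] :
    ∃ (Γ : Over (Spec (CommRingCat.of k))) (_ : GrpObj Γ) (i : Γ ⟶ G), IsMonHom i ∧ IsClosedImmersion i.left ∧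
      (∃ f' : X ⟶ Γ, f' ≫ i = f) ∧ GeometricallyReduced Γ.hom ∧
      Set.range i.left = closure (⋃ l, Set.range (wMor f l).left) ∧
      ∀ (Γ' : Over (Spec (CommRingCat.of k))) (_ : GrpObj Γ') (i' : Γ' ⟶ G), IsMonHom i' → IsClosedImmersion i'.left →
        (∃ f'' : X ⟶ Γ', f'' ≫ i' = f) → ∃ j : Γ ⟶ Γ', j ≫ i' = i := by
  haveI : ∀ l, GeometricallyReduced (wObj X l).hom := geometricallyReduced_wObj
  haveI : ∀ l, IsReduced (wObj X l).left := fun l => isReduced_left
  let Z : TopologicalSpace.Closeds G.left := ⟨closure (⋃ l, Set.range (wMor f l).left), isClosed_closure⟩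
  let 𝒥 := Scheme.IdealSheafData.vanishingIdeal Z
  let C : Over (Spec (CommRingCat.of k)) := Over.mk (𝒥.subschemeι ≫ G.hom)
  let c : C ⟶ G := Over.homMk 𝒥.subschemeι rfl
  haveI : IsReduced C.left := H23.RedSub.isReduced_vanishingIdeal Z
  haveI : IsClosedImmersion c.left := inferInstanceAs (IsClosedImmersion 𝒥.subschemeι)
  haveI : Mono c := (Over.forget _).mono_of_mono_map (inferInstanceAs (Mono c.left))
  have hr : Set.range c.left = closure (⋃ l, Set.range (wMor f l).left) := H23.RedSub.range_vanishingIdeal Z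
  choose w hw using fun l => Chev.exists_lift_range c (wMor f l)
    (hr ▸ (Set.subset_iUnion (fun l => Set.range (wMor f l).left) l).trans subset_closure)
  have hdense : Dense (⋃ l, Set.range (w l).left) := by
    intro z
    rw [c.left.isClosedEmbedding.isInducing.closure_eq_preimage_closure_image]
    show c.left z ∈ closure _
    refine closure_mono ?_ (hr.le ⟨z, rfl⟩)
    rw [Set.image_iUnion]
    refine Set.iUnion_mono fun l => ?_
    rintro _ ⟨x, rfl⟩
    exact ⟨(w l).left x, ⟨x, rfl⟩, by rw [← Scheme.Hom.comp_apply, ← Over.comp_left, hw]⟩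
  -- left translation by the generator preserves the closure
  have hstab : ∀ (p : X ⟶ G), (∀ l, ∃ l', ∃ q : X ⊗ wObj X l ⟶ wObj X l',
      q ≫ wMor f l' = (fst X (wObj X l) ≫ p) * (snd X (wObj X l) ≫ wMor f l)) →
      ∃ m : X ⊗ C ⟶ C, m ≫ c = (fst X C ≫ p) * (snd X C ≫ c) := by
    intro p hp
    obtain ⟨Y, y, hy, -, hY⟩ := TransLib.exists_closed_universal_essFree
      (Groth.Agent.S5356.result.2.2.1 k X.left X.hom) ((fst X C ≫ p) * (snd X C ≫ c)) c
    haveI := hy
    have hfac : ∀ l, ∃ z, z ≫ y = w l := fun l => by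
      rw [hY (w l)]
      obtain ⟨l', q, hq⟩ := hp l
      refine ⟨q ≫ w l', ?_⟩
      rw [Category.assoc, hw, hq, MonObj.comp_mul, whiskerLeft_fst_assoc, whiskerLeft_snd_assoc, hw]
    haveI : Surjective y.left := by
      refine ⟨fun z => ?_⟩
      have hsub : (⋃ l, Set.range (w l).left) ⊆ Set.range y.left := Set.iUnion_subset fun l => by
        obtain ⟨q, hq⟩ := hfac l
        rw [← hq]
        rintro _ ⟨x, rfl⟩
        exact ⟨q.left x, rfl⟩
      exact closure_minimal hsub y.left.isClosedEmbedding.isClosed_range (hdense z)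
    haveI := isIso_of_isClosedImmersion_of_surjective y.left
    haveI : IsIso ((Over.forget _).map y) := inferInstanceAs (IsIso y.left)
    haveI : IsIso y := isIso_of_reflects_iso y (Over.forget _)
    obtain ⟨m, hm⟩ := (hY (𝟙 C)).mp ⟨inv y, IsIso.inv_hom_id y⟩
    exact ⟨m, by rw [hm, whiskerLeft_id, Category.id_comp]⟩
  obtain ⟨m₁, hm₁⟩ := hstab f fun l => ⟨true :: l, 𝟙 _, Category.id_comp _⟩
  obtain ⟨m₂, hm₂⟩ := hstab f⁻¹ fun l => ⟨false :: l, 𝟙 _, (Category.id_comp _).trans (by rw [GrpObj.comp_inv]; rfl)⟩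
  -- the stabiliser of the closure
  have hfree : SGA3x.IsEssentiallyFree C.hom := Groth.Agent.S5356.result.2.2.1 k C.left C.hom
  obtain ⟨Z₁, z₁, hz₁, -, hZ₁⟩ := TransLib.exists_closed_universal_essFree hfree ((snd C G) * (fst C G ≫ c)) c
  haveI := hz₁
  obtain ⟨Z₂, z₂, hz₂, -, hZ₂⟩ := TransLib.exists_closed_universal_essFree hfree
    ((snd C Z₁ ≫ z₁)⁻¹ * (fst C Z₁ ≫ c)) c
  haveI := hz₂
  let j : Z₂ ⟶ G := z₂ ≫ z₁
  haveI : IsClosedImmersion j.left := by rw [Over.comp_left]; infer_instance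
  haveI : Mono j := (Over.forget _).mono_of_mono_map (inferInstanceAs (Mono j.left))
  let Q : ∀ P : Over (Spec (CommRingCat.of k)), (P ⟶ G) → Prop := fun P g =>
    (∃ l : C ⊗ P ⟶ C, l ≫ c = (snd C P ≫ g) * (fst C P ≫ c)) ∧
      ∃ l : C ⊗ P ⟶ C, l ≫ c = (snd C P ≫ g)⁻¹ * (fst C P ≫ c)
  have hQ : ∀ {P : Over (Spec (CommRingCat.of k))} (g : P ⟶ G), (∃ t, t ≫ j = g) ↔ Q P g := by
    intro P g
    have e₁ : ∀ g : P ⟶ G, (C ◁ g) ≫ ((snd C G) * (fst C G ≫ c)) = (snd C P ≫ g) * (fst C P ≫ c) := fun g => by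
      simp [MonObj.comp_mul]
    have e₂ : ∀ g' : P ⟶ Z₁, (C ◁ g') ≫ ((snd C Z₁ ≫ z₁)⁻¹ * (fst C Z₁ ≫ c)) =
        (snd C P ≫ g' ≫ z₁)⁻¹ * (fst C P ≫ c) := fun g' => by
      simp [MonObj.comp_mul, GrpObj.comp_inv]
    constructor
    · rintro ⟨t, rfl⟩
      refine ⟨?_, ?_⟩
      · rw [← e₁, ← hZ₁]; exact ⟨t ≫ z₂, Category.assoc _ _ _⟩
      · have h := (hZ₂ (t ≫ z₂)).mp ⟨t, rfl⟩
        rwa [e₂, Category.assoc] at h
    · rintro ⟨h₁, h₂⟩
      obtain ⟨g', rfl⟩ := (hZ₁ g).mpr (by rw [e₁]; exact h₁)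
      obtain ⟨g'', rfl⟩ := (hZ₂ g').mpr (by rw [e₂]; exact h₂)
      exact ⟨g'', (Category.assoc _ _ _).symm⟩
  have happ : ∀ {P : Over (Spec (CommRingCat.of k))} {g : P ⟶ G}, Q P g → ∀ (T : Over (Spec (CommRingCat.of k)))
      (q : T ⟶ P) (y : T ⟶ C), (∃ y', y' ≫ c = (q ≫ g) * (y ≫ c)) ∧ ∃ y', y' ≫ c = (q ≫ g)⁻¹ * (y ≫ c) := by
    rintro P g ⟨⟨l₁, h₁⟩, ⟨l₂, h₂⟩⟩ T q y
    exact ⟨⟨lift y q ≫ l₁, by rw [Category.assoc, h₁, MonObj.comp_mul, lift_fst_assoc, lift_snd_assoc]⟩,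
      ⟨lift y q ≫ l₂, by rw [Category.assoc, h₂, MonObj.comp_mul, GrpObj.comp_inv, lift_fst_assoc, lift_snd_assoc]⟩⟩
  obtain ⟨e₁, he₁⟩ := (hQ η[G]).mpr ⟨⟨fst C _, by
    rw [MonObj.one_eq_one, MonObj.comp_one, _root_.one_mul]⟩, ⟨fst C _, by
    rw [MonObj.one_eq_one, MonObj.comp_one, inv_one, _root_.one_mul]⟩⟩
  obtain ⟨μ', hμ'⟩ := (hQ ((fst Z₂ Z₂ ≫ j) * (snd Z₂ Z₂ ≫ j))).mpr (by
    have h₁ := (hQ (fst Z₂ Z₂ ≫ j)).mp ⟨_, rfl⟩
    have h₂ := (hQ (snd Z₂ Z₂ ≫ j)).mp ⟨_, rfl⟩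
    obtain ⟨⟨y₂, hy₂⟩, -⟩ := happ h₂ _ (snd C (Z₂ ⊗ Z₂)) (fst C _)
    obtain ⟨⟨y₁, hy₁⟩, -⟩ := happ h₁ _ (snd C (Z₂ ⊗ Z₂)) y₂
    obtain ⟨-, ⟨v₁, hv₁⟩⟩ := happ h₁ _ (snd C (Z₂ ⊗ Z₂)) (fst C _)
    obtain ⟨-, ⟨v₂, hv₂⟩⟩ := happ h₂ _ (snd C (Z₂ ⊗ Z₂)) v₁
    refine ⟨⟨y₁, ?_⟩, ⟨v₂, ?_⟩⟩
    · rw [hy₁, hy₂, MonObj.comp_mul, _root_.mul_assoc]
    · rw [hv₂, hv₁, MonObj.comp_mul, _root_.mul_inv_rev, _root_.mul_assoc])
  obtain ⟨v, hv⟩ := (hQ j⁻¹).mpr (by
    obtain ⟨h₁, h₂⟩ := (hQ j).mp ⟨𝟙 _, Category.id_comp _⟩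
    exact ⟨by rw [GrpObj.comp_inv]; exact h₂, by rw [GrpObj.comp_inv, _root_.inv_inv]; exact h₁⟩)
  obtain ⟨str, hjm⟩ := GrpSchLib.exists_grpObj_of_mono j e₁ he₁ μ' hμ' v hv
  -- the generator lies in the stabiliser
  obtain ⟨f₂, hf₂⟩ := (hQ f).mpr
    ⟨⟨lift (snd C X) (fst C X) ≫ m₁, by rw [Category.assoc, hm₁, MonObj.comp_mul, lift_fst_assoc, lift_snd_assoc]⟩,
      ⟨lift (snd C X) (fst C X) ≫ m₂, by
        rw [Category.assoc, hm₂, MonObj.comp_mul, lift_fst_assoc, lift_snd_assoc, GrpObj.comp_inv]⟩⟩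
  -- the stabiliser is the closure
  obtain ⟨⟨t, ht⟩, -⟩ := happ ((hQ j).mp ⟨𝟙 _, Category.id_comp _⟩) Z₂ (𝟙 _) (toUnit Z₂ ≫ w [])
  have hunit : toUnit Z₂ ≫ w [] ≫ c = 1 := by
    exact (congrArg (toUnit Z₂ ≫ ·) (hw [])).trans (MonObj.comp_one _)
  rw [Category.assoc, hunit, _root_.mul_one, Category.id_comp] at ht
  have hwords : ∀ l, Set.range (wMor f l).left ⊆ Set.range j.left := fun l => by
    rw [← hf₂, ← wMor_comp j f₂ l]
    rintro _ ⟨x, rfl⟩
    exact ⟨(wMor f₂ l).left x, rfl⟩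
  obtain ⟨s, hs⟩ := Chev.exists_lift_range j c (hr ▸ closure_minimal (Set.iUnion_subset hwords)
    j.left.isClosedEmbedding.isClosed_range)
  let φ : Z₂ ≅ C := ⟨t, s, by rw [← cancel_mono j, Category.assoc, hs, ht, Category.id_comp],
    by rw [← cancel_mono c, Category.assoc, ht, hs, Category.id_comp]⟩
  have hsc : φ.inv ≫ j = c := hs
  obtain ⟨strC, hc⟩ := GrpSchLib.exists_grpObj_of_mono c (η[Z₂] ≫ φ.hom)
    (by rw [Category.assoc, show φ.hom ≫ c = j from ht, IsMonHom.one_hom])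
    (((fst C C ≫ φ.inv) * (snd C C ≫ φ.inv)) ≫ φ.hom)
    (by rw [Category.assoc, show φ.hom ≫ c = j from ht, MonObj.mul_comp, Category.assoc, Category.assoc, hsc])
    (φ.inv⁻¹ ≫ φ.hom) (by rw [Category.assoc, show φ.hom ≫ c = j from ht, GrpObj.inv_comp, hsc])
  refine ⟨C, strC, c, hc, inferInstance, ⟨f₂ ≫ φ.hom, by rw [Category.assoc, show φ.hom ≫ c = j from ht, hf₂]⟩,
    geometricallyReduced_of_dense (fun l => wObj X l) w hdense, hr, ?_⟩
  intro Γ' _ i' hi' hc' ⟨f'', hf''⟩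
  haveI := hi'; haveI := hc'
  refine Chev.exists_lift_range i' c (hr ▸ closure_minimal (Set.iUnion_subset fun l => ?_)
    i'.left.isClosedEmbedding.isClosed_range)
  rw [← hf'', ← wMor_comp i' f'' l]
  rintro _ ⟨y, rfl⟩
  exact ⟨(wMor f'' l).left y, rfl⟩

end

end Groth.Agent.Deform.GenSub
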