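import Groth.Agent.Deform.GenSub.Comm

/-!
# A morphism from a connected scheme through the unit generates in boundedly many steps
-/

set_option autoImplicit false

universe u

open CategoryTheory CategoryTheory.Limits MonoidalCategory CartesianMonoidalCategory MonObj GrpObj AlgebraicGeometry

attribute [local instance] CategoryTheory.Hom.monoid CategoryTheory.Hom.group
set_option linter.style.haveILetI false
set_option linter.unusedSectionVars false

namespace Groth.Agent.Deform.GenSub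

noncomputable section

open Chev Luna.SolvBound Luna.SolvPts

theorem wVal_append {P : Type*} [Group P] (S : Set P) {a b : P} {l l' : List Bool} (ha : a ∈ wVal S l)
    (hb : b ∈ wVal S l') : a * b ∈ wVal S (l ++ l') := mem_wVal_append ha hb

/-- Alternating words. -/
def alt : ℕ → List Bool
  | 0 => []
  | n + 1 => true :: false :: alt n

theorem wVal_div {P : Type*} [Group P] {S C : Set P} (hC : C ⊆ Set.image2 (fun x y => x * y⁻¹) S S) :
    ∀ L : List Bool, wVal C L ⊆ wVal S (alt L.length)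
  | [] => subset_rfl
  | β :: L => by
    rintro _ ⟨c, hc, w, hw, rfl⟩
    have hc' : c ∈ Set.image2 (fun x y => x * y⁻¹) S S := by
      cases β with
      | true => exact hC hc
      | false =>
        obtain ⟨c₀, hc₀, rfl⟩ := hc
        obtain ⟨x, hx, y, hy, rfl⟩ := hC hc₀
        exact ⟨y, hy, x, hx, by show y * x⁻¹ = (x * y⁻¹)⁻¹; rw [_root_.mul_inv_rev, _root_.inv_inv]⟩
    obtain ⟨x, hx, y, hy, rfl⟩ := hc'
    exact ⟨x, hx, y⁻¹ * w, ⟨y⁻¹, ⟨y, hy, rfl⟩, w, wVal_div hC L hw, rfl⟩, (_root_.mul_assoc x y⁻¹ w).symm⟩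

variable {k : Type u} [Field k] [IsAlgClosed k] {G X : Over (Spec (CommRingCat.of k))} [GrpObj G]
  [LocallyOfFiniteType G.hom] [LocallyOfFiniteType X.hom] [QuasiCompact X.hom]

/-- The points of an irreducible closed subset form an irreducible image. -/
theorem exists_closed_pts {Z : Set X.left} (hZ : IsClosed Z) (hi : IsIrreducible Z) :
    IsImg (pimg (G := X) ⁻¹' Z) ∧ @IsPreirreducible _ (ptTop X) (pimg (G := X) ⁻¹' Z) := by
  let I := Scheme.IdealSheafData.vanishingIdeal (⟨Z, hZ⟩ : TopologicalSpace.Closeds X.left)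
  let Y : Over (Spec (CommRingCat.of k)) := Over.mk (I.subschemeι ≫ X.hom)
  let i : Y ⟶ X := Over.homMk I.subschemeι rfl
  haveI : IsClosedImmersion i.left := inferInstanceAs (IsClosedImmersion I.subschemeι)
  haveI : LocallyOfFiniteType Y.hom := inferInstanceAs (LocallyOfFiniteType (I.subschemeι ≫ X.hom))
  haveI : QuasiCompact Y.hom := inferInstanceAs (QuasiCompact (I.subschemeι ≫ X.hom))
  have hr : Set.range i.left = Z := H23.RedSub.range_vanishingIdeal ⟨Z, hZ⟩
  refine ⟨⟨Y, inferInstance, inferInstance, i, ?_⟩, ?_⟩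
  · ext g
    constructor
    · intro hg
      obtain ⟨y, hy⟩ := exists_pt (G := Y) (S := i.left ⁻¹' {pimg g})
        (by obtain ⟨z, hz⟩ := hr.ge hg; exact ⟨z, hz⟩)
        ((((pointEquivClosedPoint X.hom) ⟨g.left, Over.w g⟩).2).preimage i.left.continuous).isLocallyClosed
      exact ⟨y, pimg_injective hy⟩
    · rintro ⟨y, rfl⟩
      exact hr.le ⟨pimg y, rfl⟩
  · letI := ptTop X
    rintro U V hU hV ⟨a, haZ, haU⟩ ⟨b, hbZ, hbV⟩
    obtain ⟨U', hU', rfl⟩ := isInducing_pimg.isOpen_iff.mp hU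
    obtain ⟨V', hV', rfl⟩ := isInducing_pimg.isOpen_iff.mp hV
    obtain ⟨x, hx, hxU, hxV⟩ := hi.2 U' V' hU' hV' ⟨pimg a, haZ, haU⟩ ⟨pimg b, hbZ, hbV⟩
    obtain ⟨g, hgC, hgU, hgV⟩ := exists_pt (G := X) (S := Z ∩ (U' ∩ V')) ⟨x, hx, hxU, hxV⟩
      (hZ.isLocallyClosed.inter (hU'.inter hV').isLocallyClosed)
    exact ⟨g, hgC, hgU, hgV⟩

/-- **Connected source through the unit.** -/
theorem bounded_of_connected [ConnectedSpace X.left] (f : X ⟶ G) (x₀ : Pt X) (hx₀ : x₀ ≫ f = 1) :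
    ∃ n : ℕ, ((Subgroup.closure (Set.range fun y : Pt X => y ≫ f) : Subgroup (Pt G)) : Set (Pt G)) ⊆
      wVal (Set.range fun y : Pt X => y ≫ f) (alt n) := by
  letI := ptTop G; letI := ptTop X
  haveI : IsLocallyNoetherian X.left := LocallyOfFiniteType.isLocallyNoetherian X.hom
  haveI : CompactSpace X.left := QuasiCompact.compactSpace_of_compactSpace X.hom
  haveI : AlgebraicGeometry.IsNoetherian X.left := { }
  have hcompfin : (irreducibleComponents X.left).Finite := TopologicalSpace.NoetherianSpace.finite_irreducibleComponents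
  let P : Set (Set X.left) := irreducibleComponents X.left
  let F : Set X.left → Set (Pt G) := fun Z => (fun y : Pt X => y ≫ f) '' (pimg (G := X) ⁻¹' Z)
  let C : Set (Pt G) := Set.image2 (fun x y => x * y⁻¹) (Set.range fun y : Pt X => y ≫ f) (Set.range fun y : Pt X => y ≫ f)
  let S : P → Set (Pt G) := fun Z => Set.image2 (fun x y => x * y⁻¹) (F Z) (F Z)
  have hne : ∀ Z : P, ∃ y : Pt X, pimg y ∈ (Z : Set X.left) := fun Z =>
    exists_pt Z.2.1.nonempty (isClosed_of_mem_irreducibleComponents _ Z.2).isLocallyClosed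
  obtain ⟨L, hL, -⟩ := bounded_of_pieces (C := C) S
    (fun Z => ((exists_closed_pts (isClosed_of_mem_irreducibleComponents _ Z.2) Z.2.1).1.range_hom f).image2
      ((exists_closed_pts (isClosed_of_mem_irreducibleComponents _ Z.2) Z.2.1).1.range_hom f)
      (fun _ a b => a * b⁻¹) fun _ _ φ a b => by rw [MonObj.comp_mul, GrpObj.comp_inv])
    (fun Z => by
      have h := (exists_closed_pts (isClosed_of_mem_irreducibleComponents _ Z.2) Z.2.1).2.image _
        (continuous_pt_comp f).continuousOn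
      exact isPreirreducible_image2 (fun x y : Pt G => x * y⁻¹) (fun a => (sepCont.left a).comp sepCont.inv)
        (fun b => sepCont.right b⁻¹) h h)
    (fun Z => by
      obtain ⟨y, hy⟩ := hne Z
      exact ⟨_, ⟨y, hy, rfl⟩, _, ⟨y, hy, rfl⟩, mul_inv_cancel _⟩)
    (fun Z => by
      rintro _ ⟨_, ⟨y, -, rfl⟩, _, ⟨z, -, rfl⟩, rfl⟩
      exact ⟨_, ⟨y, rfl⟩, _, ⟨z, rfl⟩, rfl⟩)
  set H₁ := Subgroup.closure (⋃ Z, S Z) with hH₁
  refine ⟨L.length, fun g hg => wVal_div subset_rfl L (hL ?_)⟩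
  -- the components linked to the base point exhaust the space
  let good : Set (Set X.left) := {Z | Z ∈ P ∧ ∀ y : Pt X, pimg y ∈ Z → y ≫ f ∈ H₁}
  let U : Set X.left := ⋃₀ good
  let U' : Set X.left := ⋃₀ (P \ good)
  have hU : IsClosed U := by
    show IsClosed (⋃₀ good)
    rw [Set.sUnion_eq_biUnion]
    exact (hcompfin.subset fun Z hZ => hZ.1).isClosed_biUnion fun Z hZ => isClosed_of_mem_irreducibleComponents _ hZ.1
  have hU' : IsClosed U' := by
    show IsClosed (⋃₀ (P \ good))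
    rw [Set.sUnion_eq_biUnion]
    exact (hcompfin.subset Set.sdiff_subset).isClosed_biUnion fun Z hZ => isClosed_of_mem_irreducibleComponents _ hZ.1
  have hlink : ∀ (Z : Set X.left) (hZ : Z ∈ P) (z : Pt X), pimg z ∈ Z → z ≫ f ∈ H₁ →
      ∀ y : Pt X, pimg y ∈ Z → y ≫ f ∈ H₁ := fun Z hZ z hz hzH y hy => by
    have h : (y ≫ f) * (z ≫ f)⁻¹ ∈ H₁ := Subgroup.subset_closure
      (Set.mem_iUnion.mpr ⟨⟨Z, hZ⟩, _, ⟨y, hy, rfl⟩, _, ⟨z, hz, rfl⟩, rfl⟩)
    simpa using H₁.mul_mem h hzH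
  have hcov : U ∪ U' = Set.univ := Set.eq_univ_of_forall fun x => by
    by_cases h : irreducibleComponent x ∈ good
    · exact Or.inl ⟨_, h, mem_irreducibleComponent⟩
    · exact Or.inr ⟨_, ⟨irreducibleComponent_mem_irreducibleComponents x, h⟩, mem_irreducibleComponent⟩
  have hdisj : Disjoint U U' := Set.disjoint_left.mpr fun x ⟨Z, hZ, hxZ⟩ ⟨Z', hZ', hxZ'⟩ => by
    obtain ⟨z, hz, hz'⟩ := exists_pt (G := X) (S := Z ∩ Z') ⟨x, hxZ, hxZ'⟩
      ((isClosed_of_mem_irreducibleComponents _ hZ.1).inter (isClosed_of_mem_irreducibleComponents _ hZ'.1)).isLocallyClosed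
    exact hZ'.2 ⟨hZ'.1, hlink Z' hZ'.1 z hz' (hZ.2 z hz)⟩
  have hcl : IsClopen U := ⟨hU, by
    rw [show U = U'ᶜ from (eq_compl_iff_isCompl.mpr ⟨hdisj, codisjoint_iff.mpr hcov⟩)]
    exact hU'.isOpen_compl⟩
  have hx₀U : pimg x₀ ∈ U :=
    ⟨_, ⟨irreducibleComponent_mem_irreducibleComponents (pimg x₀),
      hlink _ (irreducibleComponent_mem_irreducibleComponents (pimg x₀)) x₀ mem_irreducibleComponent
        (hx₀ ▸ H₁.one_mem)⟩, mem_irreducibleComponent⟩
  have huniv : U = Set.univ := hcl.eq_univ ⟨_, hx₀U⟩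
  refine (Subgroup.closure_le _).mpr ?_ hg
  rintro _ ⟨y, rfl⟩
  obtain ⟨Z, hZ, hyZ⟩ : pimg y ∈ U := huniv ▸ trivial
  exact hZ.2 y hyZ

end

end Groth.Agent.Deform.GenSub
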