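import Groth.Agent.Deform.GenSub.Descend
import Groth.Agent.FlatMisc.GenFlat
import Groth.Agent.S16763
import Groth.Agent.AlgSpDec.ConstrDescent
import Groth.Agent.AlgSpDec.SchImageChart
import Groth.Agent.AlgSpLib.ClosedImmDesc

/-!
# Spreading from the generic point of an integral scheme
-/

set_option autoImplicit false

universe u

open CategoryTheory CategoryTheory.Limits MonoidalCategory CartesianMonoidalCategory MonObj GrpObj AlgebraicGeometry

attribute [local instance] CategoryTheory.Hom.monoid CategoryTheory.Hom.group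
set_option linter.style.haveILetI false
set_option linter.unusedSectionVars false

namespace Groth.Agent.Deform.GenSub.Spread

noncomputable section

open Topology

/-- A locally constructible set missing a point generalising all points has that point outside its closure. -/
theorem notMem_closure_of_lc {T : Scheme.{u}} {C : Set T} (hC : IsLocallyConstructible C) {ξ : T}
    (hξ : ∀ x : T, ξ ⤳ x) (hξC : ξ ∉ C) : ξ ∉ closure C := by
  intro h
  obtain ⟨V, hV, hξV, -⟩ := exists_isAffineOpen_mem_and_subset (U := (⊤ : T.Opens)) (x := ξ) trivial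
  haveI : IsAffine (V : Scheme.{u}) := hV
  have hemb := V.ι.isOpenEmbedding
  obtain ⟨ξ', rfl⟩ : ξ ∈ Set.range V.ι := by rw [Scheme.Opens.range_ι]; exact hξV
  obtain ⟨𝒮, hfin, hl, he⟩ := (finLC_of_isConstructible
    (hC.preimage_of_isOpenEmbedding hemb).isConstructible).1
  have h' : ξ' ∈ closure (V.ι ⁻¹' C) := by
    rwa [← hemb.isOpenMap.preimage_closure_eq_closure_preimage V.ι.continuous, Set.mem_preimage]
  rw [he, hfin.closure_sUnion] at h'
  obtain ⟨L, hL, hξL⟩ := Set.mem_iUnion₂.mp h'
  obtain ⟨U', Z', hU', hZ', rfl⟩ := hl L hL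
  obtain ⟨w, hw⟩ : (U' ∩ Z').Nonempty := by
    by_contra hne
    rw [Set.not_nonempty_iff_eq_empty.mp hne, closure_empty] at hξL
    exact hξL
  have hgen : ξ' ⤳ w := hemb.isInducing.specializes_iff.mp (hξ _)
  exact hξC (show ξ' ∈ V.ι ⁻¹' C from
    he ▸ ⟨_, hL, hgen.mem_open hU' hw.1, closure_minimal Set.inter_subset_right hZ' hξL⟩)

/-- A property of the restriction to an open subset passes to smaller open subsets. -/
theorem pr_mono (P : MorphismProperty Scheme.{u}) [P.IsStableUnderBaseChange] {X S : Scheme.{u}} (f : X ⟶ S)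
    {U U' : S.Opens} (h : U' ≤ U) (hP : P (pullback.snd f U.ι)) : P (pullback.snd f U'.ι) := by
  have hq : P (pullback.snd (pullback.snd f U.ι) (S.homOfLE h)) := MorphismProperty.pullback_snd _ _ hP
  have hsq := (IsPullback.of_hasPullback (pullback.snd f U.ι) (S.homOfLE h)).paste_horiz
    (IsPullback.of_hasPullback f U.ι)
  rw [Scheme.homOfLE_ι] at hsq
  rw [← hsq.isoPullback_inv_snd]
  exact (MorphismProperty.cancel_left_of_respectsIso P _ _).mpr hq

/-- Fibres over points of an open subset. -/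
theorem fibre_of_open (P : MorphismProperty Scheme.{u}) [P.IsStableUnderBaseChange] {X S : Scheme.{u}} (f : X ⟶ S)
    (U : S.Opens) (v : (U : Scheme.{u})) (hP : P (f.fiberToSpecResidueField (U.ι v))) :
    P ((pullback.snd f U.ι).fiberToSpecResidueField v) := by
  have hsq := (IsPullback.of_hasPullback (pullback.snd f U.ι) ((U : Scheme.{u}).fromSpecResidueField v)).paste_horiz
    (IsPullback.of_hasPullback f U.ι)
  rw [← Scheme.Hom.SpecMap_residueFieldMap_fromSpecResidueField U.ι v] at hsq
  let h₁₁ : pullback (pullback.snd f U.ι) ((U : Scheme.{u}).fromSpecResidueField v) ⟶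
      pullback f (S.fromSpecResidueField (U.ι v)) :=
    pullback.lift (pullback.fst _ _ ≫ pullback.fst f U.ι)
      (pullback.snd _ _ ≫ Spec.map (U.ι.residueFieldMap v)) (by rw [hsq.w, Category.assoc])
  have h' : IsPullback h₁₁ (pullback.snd (pullback.snd f U.ι) ((U : Scheme.{u}).fromSpecResidueField v))
      (pullback.snd f (S.fromSpecResidueField (U.ι v))) (Spec.map (U.ι.residueFieldMap v)) :=
    IsPullback.of_right (by rw [pullback.lift_fst]; exact hsq) (pullback.lift_snd _ _ _)
      (IsPullback.of_hasPullback f (S.fromSpecResidueField (U.ι v)))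
  exact MorphismProperty.of_isPullback h' hP

set_option backward.isDefEq.respectTransparency false in
/-- smoothness at a point of a flat morphism is checked on the fibre -/
theorem exists_smooth_nhd_of_fibre {X S : Scheme.{u}} (g : X ⟶ S) [Flat g] [LocallyOfFinitePresentation g]
    (s : S) (w : g.fiber s) (hw : haveI : LocallyOfFinitePresentation (g.fiberToSpecResidueField s) :=
        MorphismProperty.pullback_snd g (S.fromSpecResidueField s) inferInstance
      w ∈ (g.fiberToSpecResidueField s).smoothLocus) :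
    ∃ W : X.Opens, g.fiberι s w ∈ W ∧ Smooth (W.ι ≫ g) := by
  haveI : LocallyOfFinitePresentation (g.fiberToSpecResidueField s) :=
    MorphismProperty.pullback_snd g (S.fromSpecResidueField s) inferInstance
  have hs : g (g.fiberι s w) = s := by
    have : g.fiberι s w ∈ Set.range (g.fiberι s) := ⟨w, rfl⟩
    rw [Scheme.Hom.range_fiberι] at this
    exact this
  have key : ∀ (t : S) (e : t = s), ∃ x' : g.fiber t, g.fiberι t x' = g.fiberι s w ∧
      ∃ V : (g.fiber t).Opens, x' ∈ V ∧ Smooth (V.ι ≫ g.fiberToSpecResidueField t) := by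
    rintro t rfl
    refine ⟨w, rfl, (g.fiberToSpecResidueField t).smoothLocus, hw, ?_⟩
    rw [← Scheme.Hom.smoothLocus_eq_top_iff, ← Scheme.Hom.preimage_smoothLocus_eq]
    exact Scheme.Opens.ι_preimage_self _
  obtain ⟨x', hx', V, hV, hsm⟩ := key _ hs
  refine (S16763.result (𝟙 S) g g (Category.comp_id g) (g.fiberι s w) (Flat.stalkMap g _) x' hx').2 ⟨V, hV, ?_⟩
  have e : CohIII.fiberMapOver g g (𝟙 S) (Category.comp_id g) (g (g.fiberι s w)) =
      g.fiberToSpecResidueField (g (g.fiberι s w)) ≫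
        inv (pullback.snd (𝟙 S) (S.fromSpecResidueField (g (g.fiberι s w)))) := by
    rw [IsIso.eq_comp_inv]
    exact (pullback.lift_snd _ _ _).trans (Category.comp_id _)
  rw [e, ← Category.assoc]
  infer_instance

variable {S : Scheme.{u}} [IsIntegral S]

theorem genericPoint_mem {O : S.Opens} (hO : (O : Set S).Nonempty) : genericPoint S ∈ O :=
  ((genericPoint_spec S).mem_open_set_iff O.2).mpr (by rwa [Set.univ_inter])

theorem generic_specializes (x : S) : genericPoint S ⤳ x :=
  (genericPoint_spec S).specializes (by trivial)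

theorem opens_specializes {O : S.Opens} {ξ : (O : Scheme.{u})} (hξ : O.ι ξ = genericPoint S) (x : (O : Scheme.{u})) :
    ξ ⤳ x :=
  O.ι.isOpenEmbedding.isInducing.specializes_iff.mp (hξ ▸ generic_specializes _)

/-- A set with no point over the generic point, locally constructible over a nonempty open, misses a nonempty open
of the base. -/
theorem exists_disjoint {X : Scheme.{u}} (f : X ⟶ S) [LocallyOfFiniteType f] [QuasiCompact f] {C : Set X}
    (W₀ : S.Opens) (hW₀ : genericPoint S ∈ W₀) (hC : IsLocallyConstructible (pullback.fst f W₀.ι ⁻¹' C))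
    (h : ∀ x ∈ C, f x ≠ genericPoint S) :
    ∃ U : S.Opens, genericPoint S ∈ U ∧ Disjoint (f ⁻¹' (U : Set S)) C := by
  obtain ⟨W, hWne, hWle, hfl, hfp⟩ := FlatMisc.exists_flat_open f W₀ ⟨genericPoint S, hW₀⟩
  let g := pullback.snd f W.ι
  haveI : LocallyOfFinitePresentation g :=
    (MorphismProperty.cancel_left_of_respectsIso @LocallyOfFinitePresentation (pullbackRestrictIsoRestrict f W).hom
      (f ∣_ W)).mpr hfp |> fun h => by rwa [pullbackRestrictIsoRestrict_hom_morphismRestrict] at h
  obtain ⟨ξ, hξ⟩ : genericPoint S ∈ Set.range W.ι := by rw [Scheme.Opens.range_ι]; exact genericPoint_mem hWne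
  have hlc : IsLocallyConstructible (g '' (pullback.fst f W.ι ⁻¹' C)) :=
    g.isLocallyConstructible_image (by
      have h' := AlgSpDec.isLocallyConstructible_preimage_hom (pullback.map f W.ι f W₀.ι (𝟙 _) (S.homOfLE hWle) (𝟙 _)
        (by simp) (by simp)) hC
      rwa [← Set.preimage_comp, show (pullback.fst f W₀.ι : _ → X) ∘ (pullback.map f W.ι f W₀.ι (𝟙 _) (S.homOfLE hWle) (𝟙 _)
        (by simp) (by simp)) = (pullback.fst f W.ι : _ → X) from funext fun z => by
          rw [Function.comp_apply, ← Scheme.Hom.comp_apply, pullback.lift_fst, Category.comp_id]] at h')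
  have hξ' : ξ ∉ closure (g '' (pullback.fst f W.ι ⁻¹' C)) := by
    refine notMem_closure_of_lc hlc (opens_specializes hξ) ?_
    rintro ⟨x, hx, rfl⟩
    refine h _ hx ?_
    rw [← Scheme.Hom.comp_apply, pullback.condition, Scheme.Hom.comp_apply]
    exact hξ
  let V : (W : Scheme.{u}).Opens := ⟨_, (isClosed_closure (s := g '' (pullback.fst f W.ι ⁻¹' C))).isOpen_compl⟩
  refine ⟨W.ι ''ᵁ V, ⟨ξ, hξ', hξ⟩, Set.disjoint_left.mpr ?_⟩
  rintro x ⟨v, hv, hvx⟩ hxC
  obtain ⟨z, hz₁, hz₂⟩ := Scheme.Pullback.exists_preimage_pullback (f := f) (g := W.ι) x v hvx.symm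
  exact hv (subset_closure ⟨z, show pullback.fst f W.ι z ∈ C by rwa [hz₁], hz₂⟩)

/-- A scheme of finite type with smooth generic fibre is smooth over a nonempty open. -/
theorem exists_smooth {X : Scheme.{u}} (f : X ⟶ S) [LocallyOfFiniteType f] [QuasiCompact f]
    (hsm : Smooth (f.fiberToSpecResidueField (genericPoint S))) :
    ∃ U : S.Opens, genericPoint S ∈ U ∧ Smooth (pullback.snd f U.ι) := by
  obtain ⟨W, hWne, -, hfl, hfp⟩ := FlatMisc.exists_flat_open f ⊤ ⟨genericPoint S, trivial⟩
  let g := pullback.snd f W.ι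
  haveI : LocallyOfFinitePresentation g :=
    (MorphismProperty.cancel_left_of_respectsIso @LocallyOfFinitePresentation (pullbackRestrictIsoRestrict f W).hom
      (f ∣_ W)).mpr hfp |> fun h => by rwa [pullbackRestrictIsoRestrict_hom_morphismRestrict] at h
  haveI : Flat g :=
    (MorphismProperty.cancel_left_of_respectsIso @Flat (pullbackRestrictIsoRestrict f W).hom
      (f ∣_ W)).mpr hfl |> fun h => by rwa [pullbackRestrictIsoRestrict_hom_morphismRestrict] at h
  haveI : QuasiCompact g := MorphismProperty.pullback_snd _ _ ‹_›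
  obtain ⟨ξ, hξ⟩ : genericPoint S ∈ Set.range W.ι := by rw [Scheme.Opens.range_ι]; exact genericPoint_mem hWne
  haveI : Smooth (g.fiberToSpecResidueField ξ) := fibre_of_open @Smooth f W ξ (by rw [hξ]; exact hsm)
  let Z : TopologicalSpace.Closeds (pullback f W.ι :) :=
    ⟨(g.smoothLocus : Set ↑(pullback f W.ι))ᶜ, g.smoothLocus.2.isClosed_compl⟩
  let I := Scheme.IdealSheafData.vanishingIdeal Z
  let h := I.subschemeι ≫ g
  haveI : IsReduced (W : Scheme.{u}) := isReduced_of_isOpenImmersion W.ι
  have hno : ∀ y, h y ≠ ξ := by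
    intro y hy
    have hyZ : I.subschemeι y ∈ (Z : Set ↑(pullback f W.ι)) := (H23.RedSub.range_vanishingIdeal Z).le ⟨y, rfl⟩
    obtain ⟨w, hw⟩ : I.subschemeι y ∈ Set.range (g.fiberι ξ) := by
      rw [Scheme.Hom.range_fiberι]; exact hy
    obtain ⟨U, hxU, hUs⟩ := exists_smooth_nhd_of_fibre g ξ w
      (by rw [Scheme.Hom.smoothLocus_eq_top]; trivial)
    rw [hw] at hxU
    refine hyZ ?_
    show (⟨I.subschemeι y, hxU⟩ : U.toScheme) ∈ U.ι ⁻¹ᵁ g.smoothLocus
    rw [Scheme.Hom.preimage_smoothLocus_eq, Scheme.Hom.smoothLocus_eq_top]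
    trivial
  obtain ⟨V, hVne, -, hfl', hfp'⟩ := FlatMisc.exists_flat_open h ⊤ ⟨ξ, trivial⟩
  haveI := hfl'; haveI := hfp'
  have hξV : ξ ∈ V := by
    obtain ⟨v, hv⟩ := hVne
    exact (opens_specializes hξ v).mem_open V.2 hv
  have hempty : ∀ y, h y ∉ V := by
    intro y hy
    have hopen : IsOpen (Set.range (V.ι ∘ (h ∣_ V))) := by
      rw [Set.range_comp]
      exact V.ι.isOpenEmbedding.isOpenMap _ (h ∣_ V).isOpenMap.isOpen_range
    obtain ⟨y', hy'⟩ := (opens_specializes hξ (h y)).mem_open hopen ⟨⟨y, hy⟩, by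
      show (V.ι ((h ∣_ V) ⟨y, hy⟩)) = h y
      rw [← Scheme.Hom.comp_apply, morphismRestrict_ι]
      rfl⟩
    refine hno ((h ⁻¹ᵁ V).ι y') ?_
    rw [← hy', ← Scheme.Hom.comp_apply, ← morphismRestrict_ι]
    rfl
  have hle : W.ι ''ᵁ V ≤ W := by
    rintro _ ⟨v, -, rfl⟩
    exact v.2
  refine ⟨W.ι ''ᵁ V, ⟨ξ, hξV, hξ⟩, ?_⟩
  haveI : LocallyOfFinitePresentation (pullback.snd f (W.ι ''ᵁ V).ι) :=
    pr_mono @LocallyOfFinitePresentation f hle inferInstance
  have hfac : (pullback.lift (pullback.fst f (W.ι ''ᵁ V).ι) (pullback.snd _ _ ≫ S.homOfLE hle)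
      (by rw [Category.assoc, Scheme.homOfLE_ι]; exact pullback.condition)) ≫ g =
        pullback.snd f (W.ι ''ᵁ V).ι ≫ S.homOfLE hle := pullback.lift_snd _ _ _
  let m := pullback.lift (f := f) (g := W.ι) (pullback.fst f (W.ι ''ᵁ V).ι) (pullback.snd _ _ ≫ S.homOfLE hle)
      (by rw [Category.assoc, Scheme.homOfLE_ι]; exact pullback.condition)
  have hm : IsPullback m (pullback.snd f (W.ι ''ᵁ V).ι) g (S.homOfLE hle) :=
    IsPullback.of_right (by rw [pullback.lift_fst, Scheme.homOfLE_ι]; exact IsPullback.of_hasPullback _ _) hfac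
      (IsPullback.of_hasPullback f W.ι)
  haveI : IsOpenImmersion m := MorphismProperty.of_isPullback (P := @IsOpenImmersion) hm.flip inferInstance
  have hmem : ∀ x, m x ∈ g.smoothLocus := by
    intro x
    by_contra hx
    obtain ⟨y, hy⟩ : m x ∈ Set.range I.subschemeι := (H23.RedSub.range_vanishingIdeal Z).ge hx
    refine hempty y ?_
    show g (I.subschemeι y) ∈ V
    rw [hy, ← Scheme.Hom.comp_apply, hfac, Scheme.Hom.comp_apply]
    obtain ⟨v, hv, hv'⟩ := (pullback.snd f (W.ι ''ᵁ V).ι x).2
    rwa [show S.homOfLE hle (pullback.snd f (W.ι ''ᵁ V).ι x) = v from W.ι.isOpenEmbedding.injective (by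
      refine Eq.trans ?_ hv'.symm
      rw [← Scheme.Hom.comp_apply, Scheme.homOfLE_ι]
      rfl)]
  haveI : Smooth (m ≫ g) := by
    rw [← Scheme.Hom.smoothLocus_eq_top_iff, ← Scheme.Hom.preimage_smoothLocus_eq, eq_top_iff]
    exact fun x _ => hmem x
  refine MorphismProperty.of_postcomp @Smooth _ (S.homOfLE hle) (inferInstance : IsOpenImmersion _) ?_
  rw [← hfac]
  infer_instance

variable {K : Type u} [Field K]

/-- The morphism of the residue field, with its source written as the spectrum of a field. -/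
abbrev gι {S : Scheme.{u}} (s : S) : Spec (CommRingCat.of ↑(S.residueField s)) ⟶ S := S.fromSpecResidueField s

/-- Geometric points over a point of the base. -/
abbrev geomS {s : S} (σ : Spec (CommRingCat.of K) ⟶ Spec (CommRingCat.of ↑(S.residueField s))) : Over S :=
  (Over.map (gι s)).obj (geomT σ)

/-- Geometric points over a point of the base are dense in the fibre. -/
theorem exists_geomPtAt [IsAlgClosed K] {s : S} (σ : Spec (CommRingCat.of K) ⟶ Spec (CommRingCat.of ↑(S.residueField s)))
    (T : Over S) [LocallyOfFiniteType T.hom] {L : Set T.left} (hL : IsLocallyClosed L) {z : T.left} (hz : z ∈ L)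
    (hzs : T.hom z = s) : ∃ x : geomS σ ⟶ T, x.left (IsLocalRing.closedPoint K) ∈ L := by
  let J : Over (Spec (CommRingCat.of ↑(S.residueField s))) := Red.bc (gι s) T
  haveI : LocallyOfFiniteType J.hom := MorphismProperty.pullback_snd T.hom _ inferInstance
  let q : J.left ⟶ T.left := pullback.fst T.hom (gι s)
  obtain ⟨w, hw⟩ : z ∈ Set.range q := by
    show z ∈ Set.range (T.hom.fiberι s)
    rw [Scheme.Hom.range_fiberι]
    exact hzs
  obtain ⟨x, hx⟩ := exists_geomPt (k := S.residueField s) σ J (S := q ⁻¹' L) ⟨w, by rwa [Set.mem_preimage, hw]⟩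
    (hL.preimage q.continuous)
  exact ⟨((Over.mapPullbackAdj (gι s)).homEquiv _ T).symm x, by
    rw [Adjunction.homEquiv_counit]
    exact hx⟩

/-- The range of a morphism to a closed subset is detected on geometric generic points. -/
theorem range_subset_of_generic [IsAlgClosed K] (σ : Spec (CommRingCat.of K) ⟶ Spec (CommRingCat.of ↑(S.residueField (genericPoint S))))
    {G : Over S} (T : Over S) [LocallyOfFiniteType T.hom] (hT : IsOpenMap T.hom) (φ : T ⟶ G) {C : Set G.left}
    (hC : IsClosed C) (h : ∀ x : geomS σ ⟶ T, (x ≫ φ).left (IsLocalRing.closedPoint K) ∈ C) :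
    Set.range φ.left ⊆ C := by
  rintro _ ⟨z, rfl⟩
  by_contra hz
  have hopen : IsOpen (φ.left ⁻¹' Cᶜ) := hC.isOpen_compl.preimage φ.left.continuous
  obtain ⟨z', hz', hz's⟩ := (generic_specializes (T.hom z)).mem_open (hT _ hopen) ⟨z, hz, rfl⟩
  obtain ⟨x, hx⟩ := exists_geomPtAt σ T hopen.isLocallyClosed hz' hz's
  exact hx (h x)

omit [IsIntegral S] in
/-- Factorisation through a closed immersion descends along a faithfully flat morphism. -/
theorem exists_fac_of_cover {T T' Y Z : Scheme.{u}} (q : T' ⟶ T) [Flat q] [Surjective q] (j : Z ⟶ Y)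
    [IsClosedImmersion j] (φ : T ⟶ Y) (l : T' ⟶ Z) (h : l ≫ j = q ≫ φ) : ∃ ψ : T ⟶ Z, ψ ≫ j = φ := by
  let Q := pullback.fst φ j
  have hker : Q.ker = ⊥ := by
    rw [eq_bot_iff, ← AlgSpDec.ker_eq_bot_of_flat_surjective q, ← pullback.lift_fst q l h.symm]
    exact Scheme.Hom.le_ker_comp _ _
  haveI := AlgSpLib.isIso_of_closedImmersion_of_ker_eq_bot Q hker
  exact ⟨inv Q ≫ pullback.snd φ j, by rw [Category.assoc, ← pullback.condition]; exact IsIso.inv_hom_id_assoc Q φ⟩

end

end Groth.Agent.Deform.GenSub.Spread
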