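import Groth.Agent.Deform.GenSub.SpreadLocal

/-!
# Spreading commutator subgroups from the generic point
-/

set_option autoImplicit false

universe u

open CategoryTheory CategoryTheory.Limits MonoidalCategory CartesianMonoidalCategory MonObj GrpObj AlgebraicGeometry

attribute [local instance] CategoryTheory.Hom.monoid CategoryTheory.Hom.group
set_option linter.style.haveILetI false
set_option linter.unusedSectionVars false

namespace Groth.Agent.Deform.GenSub.Spread

noncomputable section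

open Chev Luna.SolvLocus
open scoped commutatorElement

/-- Normality is stable under base change. -/
theorem normal_map {S S' : Scheme.{u}} (t : S' ⟶ S) {G N : Over S} [GrpObj G] [GrpObj N] (i : N ⟶ G)
    (hi : AlgGrp.IsNormalHom i) : AlgGrp.IsNormalHom ((Over.pullback t).map i) := by
  intro T g n
  obtain ⟨g', rfl⟩ := (ptsEquiv (G := G) t T).surjective g
  obtain ⟨n', rfl⟩ := (ptsEquiv (G := N) t T).surjective n
  obtain ⟨m, hm⟩ := hi _ g' n'
  refine ⟨ptsEquiv (G := N) t T m, ?_⟩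
  have h : ∀ z, ptsEquiv (G := N) t T z ≫ (Over.pullback t).map i = ptsEquiv (G := G) t T (z ≫ i) := fun z =>
    ((Over.mapPullbackAdj t).homEquiv_naturality_right z i).symm
  rw [h, h, ← hm, map_mul, map_mul, _root_.map_inv]

variable {S : Scheme.{u}} [IsIntegral S] {G A B : Over S} [GrpObj G]
  [LocallyOfFinitePresentation G.hom] [QuasiCompact G.hom] [QuasiSeparated G.hom]
  [LocallyOfFiniteType A.hom] [QuasiCompact A.hom] [LocallyOfFiniteType B.hom] [QuasiCompact B.hom]
  {K : Type u} [Field K] [IsAlgClosed K]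
  (σ : Spec (CommRingCat.of K) ⟶ Spec (CommRingCat.of ↑(S.residueField (genericPoint S))))
  (a : A ⟶ G) (b : B ⟶ G)
  [GrpObj (Red.bc (gι (genericPoint S)) A)] [GrpObj (Red.bc (gι (genericPoint S)) B)]
  [IsMonHom ((Over.pullback (gι (genericPoint S))).map a)] [IsMonHom ((Over.pullback (gι (genericPoint S))).map b)]
  [IsClosedImmersion ((Over.pullback (gι (genericPoint S))).map a).left]
  [IsClosedImmersion ((Over.pullback (gι (genericPoint S))).map b).left]
  [Smooth (Red.bc (gι (genericPoint S)) A).hom] [Smooth (Red.bc (gι (genericPoint S)) B).hom]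

/-- **Spreading the commutator subgroup of the generic fibre.** -/
theorem exists_data
    (hcase : (AlgGrp.IsNormalHom ((Over.pullback (gι (genericPoint S))).map a) ∧
      AlgGrp.IsNormalHom ((Over.pullback (gι (genericPoint S))).map b)) ∨
      ConnectedSpace (Red.bc (gι (genericPoint S)) A).left) :
    ∃ (N : ℕ) (D₀ : Over S) (d₀ : D₀ ⟶ G), IsClosedImmersion d₀.left ∧ LocallyOfFiniteType D₀.hom ∧
      QuasiCompact D₀.hom ∧
      (Set.range fun x : geomS σ ⟶ D₀ => x ≫ d₀) =
        Subgroup.closure (Set.image2 (fun g g' : geomS σ ⟶ G => (⁅g, g'⁆ : geomS σ ⟶ G))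
          (Set.range fun x : geomS σ ⟶ A => x ≫ a) (Set.range fun y : geomS σ ⟶ B => y ≫ b)) ∧
      (∃ (I : Over (Spec (CommRingCat.of ↑(S.residueField (genericPoint S))))) (_ : GrpObj I)
        (i : I ⟶ Red.bc (gι (genericPoint S)) G), IsMonHom i ∧ IsClosedImmersion i.left ∧ Smooth I.hom ∧
        (∃ c, c ≫ i = cm ((Over.pullback (gι (genericPoint S))).map a) ((Over.pullback (gι (genericPoint S))).map b)) ∧
        ∃ φ : Red.bc (gι (genericPoint S)) D₀ ≅ I, φ.hom ≫ i = (Over.pullback (gι (genericPoint S))).map d₀) ∧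
      ∃ U : S.Opens, genericPoint S ∈ U ∧ Smooth (pullback.snd D₀.hom U.ι) ∧
        ∀ p : D₀.left, D₀.hom p ∈ U → d₀.left p ∈ Set.range (wMor (cm a b) (alt N)).left := by
  let ξ := genericPoint S
  let F := Over.pullback (gι ξ)
  haveI : LocallyOfFiniteType (Red.bc (gι ξ) G).hom := MorphismProperty.pullback_snd G.hom (gι ξ) inferInstance
  haveI : QuasiCompact (Red.bc (gι ξ) A).hom := MorphismProperty.pullback_snd A.hom (gι ξ) inferInstance
  haveI : QuasiCompact (Red.bc (gι ξ) B).hom := MorphismProperty.pullback_snd B.hom (gι ξ) inferInstance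
  haveI := GrpSchLib.IsogenyFibre.geometricallyReduced_of_smooth' (Red.bc (gι ξ) A).hom
  haveI := GrpSchLib.IsogenyFibre.geometricallyReduced_of_smooth' (Red.bc (gι ξ) B).hom
  have hcase' : (AlgGrp.IsNormalHom (F.map a) ∧ AlgGrp.IsNormalHom (F.map b) ∧
      QuasiCompact (Red.bc (gι ξ) A).hom) ∨ ConnectedSpace (Red.bc (gι ξ) A).left :=
    hcase.imp (fun h => ⟨h.1, h.2, inferInstance⟩) id
  obtain ⟨hb, -⟩ := bounded_commMor σ (F.map a) (F.map b) hcase'
  obtain ⟨I, iI, i, hi, hic, his, -, hf, -, -, hI⟩ := exists_commutator σ (F.map a) (F.map b) hcase'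
  haveI := hi; haveI := hic; haveI := his
  have hpts : (Set.range fun y : geomT σ ⟶ Red.bc (gι ξ) (A ⊗ B) => y ≫ F.map (cm a b)) =
      Set.range fun z : geomT σ ⟶ Red.bc (gι ξ) A ⊗ Red.bc (gι ξ) B => z ≫ commMor (F.map a) (F.map b) := by
    ext g
    constructor
    · rintro ⟨y, rfl⟩
      exact ⟨y ≫ lift (F.map (fst A B)) (F.map (snd A B)),
        (Category.assoc _ _ _).trans (congrArg (y ≫ ·) (map_cm (gι ξ) a b).symm)⟩
    · rintro ⟨z, rfl⟩
      exact ⟨z ≫ Functor.LaxMonoidal.μ F A B, (Category.assoc _ _ _).trans (congrArg (z ≫ ·) (μ_map_cm (gι ξ) a b))⟩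
  haveI : LocallyOfFiniteType (A ⊗ B).hom := by rw [Over.tensorObj_hom]; infer_instance
  haveI : QuasiCompact (A ⊗ B).hom := by rw [Over.tensorObj_hom]; infer_instance
  have hX : Smooth ((A ⊗ B).hom.fiberToSpecResidueField ξ) := by
    show Smooth (Red.bc (gι ξ) (A ⊗ B)).hom
    exact smooth_bc_tensor (gι ξ) A B
  have h1 : (1 : geomS σ ⟶ G) ∈ Set.range fun x : geomS σ ⟶ A ⊗ B => x ≫ cm a b := by
    have hone : ∀ {C : Over S} (c : C ⟶ G) [GrpObj (Red.bc (gι ξ) C)] [IsMonHom (F.map c)],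
        (1 : geomS σ ⟶ G) ∈ Set.range fun x : geomS σ ⟶ C => x ≫ c := by
      intro C c _ _
      obtain ⟨x, hx, he⟩ := (pts_image (G := G) σ c).ge ⟨1, MonObj.one_comp _⟩
      exact ⟨hx.choose, hx.choose_spec.trans ((ptsEquiv (G := G) (gι ξ) (geomT σ)).injective (he.trans (map_one _).symm))⟩
    rw [range_cm]
    exact ⟨1, hone a, 1, hone b, commutatorElement_one_left _⟩
  rw [range_commMor] at hpts
  obtain ⟨N, D₀, d₀, hd, hft, hqc, hD, hφ, U, hU, hsm, -, hsurj⟩ :=
    exists_spread σ (cm a b) hX I i (by rw [hI, hpts]) (by rw [hpts, ← range_commMor]; exact hb) h1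
  exact ⟨N, D₀, d₀, hd, hft, hqc, by rw [hD, range_cm], ⟨I, iI, i, hi, hic, his, hf, hφ⟩, U, hU, hsm, hsurj⟩

omit [LocallyOfFiniteType A.hom] [QuasiCompact A.hom] [LocallyOfFiniteType B.hom] [QuasiCompact B.hom]
  [GrpObj (Red.bc (gι (genericPoint S)) A)] [GrpObj (Red.bc (gι (genericPoint S)) B)]
  [IsMonHom ((Over.pullback (gι (genericPoint S))).map a)] [IsMonHom ((Over.pullback (gι (genericPoint S))).map b)]
  [IsClosedImmersion ((Over.pullback (gι (genericPoint S))).map a).left]
  [IsClosedImmersion ((Over.pullback (gι (genericPoint S))).map b).left]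
  [Smooth (Red.bc (gι (genericPoint S)) A).hom] [Smooth (Red.bc (gι (genericPoint S)) B).hom] in
/-- The spread subgroup over an open subset where it is smooth. -/
theorem exists_open_data {D₀ : Over S} (d₀ : D₀ ⟶ G) [IsClosedImmersion d₀.left] (N : ℕ)
    (hD : (Set.range fun x : geomS σ ⟶ D₀ => x ≫ d₀) =
      Subgroup.closure (Set.image2 (fun g g' : geomS σ ⟶ G => (⁅g, g'⁆ : geomS σ ⟶ G))
        (Set.range fun x : geomS σ ⟶ A => x ≫ a) (Set.range fun y : geomS σ ⟶ B => y ≫ b)))
    {U : S.Opens} (hsurj : ∀ p : D₀.left, D₀.hom p ∈ U → d₀.left p ∈ Set.range (wMor (cm a b) (alt N)).left)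
    (hsm : Smooth (pullback.snd D₀.hom U.ι)) [Smooth (Red.bc U.ι A).hom] [Smooth (Red.bc U.ι B).hom] :
    ∃ _ : GrpObj (Red.bc U.ι D₀), IsMonHom ((Over.pullback U.ι).map d₀) ∧
      IsClosedImmersion ((Over.pullback U.ι).map d₀).left ∧ Smooth (Red.bc U.ι D₀).hom ∧
      (∃ c, c ≫ (Over.pullback U.ι).map d₀ = cm ((Over.pullback U.ι).map a) ((Over.pullback U.ι).map b)) ∧
      Set.range ((Over.pullback U.ι).map d₀).left ⊆
        Set.range (wMor (cm ((Over.pullback U.ι).map a) ((Over.pullback U.ι).map b)) (alt N)).left := by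
  obtain ⟨str, hmon, hcl⟩ := exists_group σ d₀ hsm _ hD
  refine ⟨str, hmon, hcl, hsm, exists_cm_lift σ d₀ a b (hD.ge.trans' Subgroup.subset_closure), ?_⟩
  exact range_sub_words U.ι a b d₀ _ fun q hq => hsurj q (U.range_ι.le hq)

end

end Groth.Agent.Deform.GenSub.Spread
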