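import Groth.Agent.Deform.GenSub.SpreadBasic
import Groth.Agent.Deform.GenSub.SpreadWord
import Groth.Agent.FlatMisc.GenericFibreRed
import Groth.Agent.DescLib.Reduced
import Groth.Agent.S12442

/-!
# Spreading a generated subgroup from the generic point
-/

set_option autoImplicit false

universe u

open CategoryTheory CategoryTheory.Limits MonoidalCategory CartesianMonoidalCategory MonObj GrpObj AlgebraicGeometry

attribute [local instance] CategoryTheory.Hom.monoid CategoryTheory.Hom.group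
set_option linter.style.haveILetI false
set_option linter.unusedSectionVars false

namespace Groth.Agent.Deform.GenSub.Spread

noncomputable section

open Chev Luna.SolvLocus
open scoped commutatorElement

/-- A point in the closure of the image of a quasi-compact morphism is a specialisation of a point of the image. -/
theorem exists_specializes_of_closure_range {W Y : Scheme.{u}} (w : W ⟶ Y) [QuasiCompact w] {p : Y}
    (hp : p ∈ closure (Set.range w)) : ∃ z, w z ⤳ p := by
  obtain ⟨V, hV, hpV, -⟩ := exists_isAffineOpen_mem_and_subset (U := (⊤ : Y.Opens)) (x := p) trivial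
  haveI : IsAffine (V : Scheme.{u}) := hV
  haveI : QuasiCompact (w ∣_ V) := IsZariskiLocalAtTarget.restrict ‹_› V
  haveI : CompactSpace ↥(w ⁻¹ᵁ V).toScheme := QuasiCompact.compactSpace_of_compactSpace (w ∣_ V)
  obtain ⟨p', rfl⟩ : p ∈ Set.range V.ι := by rw [Scheme.Opens.range_ι]; exact hpV
  have hp' : p' ∈ closure (Set.range (w ∣_ V)) := by
    rw [← Set.mem_preimage, V.ι.isOpenEmbedding.isOpenMap.preimage_closure_eq_closure_preimage V.ι.continuous] at hp
    refine closure_mono ?_ hp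
    rintro v ⟨z, hz⟩
    refine ⟨⟨z, ?_⟩, V.ι.isOpenEmbedding.injective ?_⟩
    · show w z ∈ V
      rw [hz]; exact v.2
    · refine Eq.trans ?_ hz
      rw [← Scheme.Hom.comp_apply, morphismRestrict_ι]
      rfl
  obtain ⟨R, q, hq⟩ := compactSpace_iff_exists.mp (‹CompactSpace ↥(w ⁻¹ᵁ V).toScheme›)
  obtain ⟨φ, hφ⟩ : ∃ φ : Γ((V : Scheme.{u}), ⊤) ⟶ R, Spec.map φ = (q ≫ w ∣_ V) ≫ (V : Scheme.{u}).isoSpec.hom :=
    ⟨_, Spec.map_preimage _⟩
  have hr : ∀ r, (V : Scheme.{u}).isoSpec.hom ((w ∣_ V) (q r)) = Spec.map φ r := fun r => by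
    rw [hφ]; rfl
  have h2 : ((V : Scheme.{u}).isoSpec.hom p' : PrimeSpectrum Γ((V : Scheme.{u}), ⊤)) ∈
      closure (Set.range (PrimeSpectrum.comap φ.hom)) := by
    refine map_mem_closure (V : Scheme.{u}).isoSpec.hom.continuous hp' ?_
    rintro _ ⟨x, rfl⟩
    obtain ⟨r, rfl⟩ := hq x
    exact ⟨r, (hr r).symm⟩
  rw [PrimeSpectrum.closure_range_comap] at h2
  obtain ⟨P, hP, hPw⟩ := Ideal.exists_minimalPrimes_le (SetLike.coe_subset_coe.mp h2)
  obtain ⟨P₀, hP₀, -, hPP⟩ := Ideal.exists_comap_eq_of_mem_minimalPrimes φ.hom (I := ⊥) P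
    (by rwa [← RingHom.ker_eq_comap_bot])
  refine ⟨(w ⁻¹ᵁ V).ι (q (⟨P₀, hP₀⟩ : PrimeSpectrum R)), ?_⟩
  rw [← Scheme.Hom.comp_apply, ← morphismRestrict_ι, Scheme.Hom.comp_apply]
  refine ((V : Scheme.{u}).isoSpec.hom.isOpenEmbedding.isInducing.specializes_iff.mp ?_).map V.ι.continuous
  rw [hr]
  exact (PrimeSpectrum.le_iff_specializes (PrimeSpectrum.comap φ.hom ⟨P₀, hP₀⟩) _).1 (hPP.le.trans hPw)

theorem isLocallyConstructible_compl {T : Type u} [TopologicalSpace T] {C : Set T}
    (h : Topology.IsLocallyConstructible C) : Topology.IsLocallyConstructible Cᶜ := fun x => by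
  obtain ⟨U, hU, hUo, hc⟩ := h x
  exact ⟨U, hU, hUo, hc.compl⟩

variable {S : Scheme.{u}} {G X : Over S} [GrpObj G] {K : Type u} [Field K]

/-- Points of the generic fibre. -/
theorem pts_image {s : S} (σ : Spec (CommRingCat.of K) ⟶ Spec (CommRingCat.of ↑(S.residueField s))) {C : Over S} (c : C ⟶ G) :
    ptsEquiv (G := G) (gι s)
        (geomT σ) ''
      (Set.range fun x : geomS σ ⟶ C => x ≫ c) =
    Set.range fun y : geomT σ ⟶
      Red.bc (gι s) C => y ≫ (Over.pullback (gι s)).map c := by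
  rw [← Set.range_comp]
  ext g
  constructor
  · rintro ⟨x, rfl⟩
    exact ⟨_, ((Over.mapPullbackAdj (gι s)).homEquiv_naturality_right x c).symm⟩
  · rintro ⟨y, rfl⟩
    obtain ⟨x, rfl⟩ := ((Over.mapPullbackAdj (gι s)).homEquiv _ C).surjective y
    exact ⟨x, (Over.mapPullbackAdj (gι s)).homEquiv_naturality_right x c⟩

omit [GrpObj G] in
theorem pt_over {s : S} (σ : Spec (CommRingCat.of K) ⟶ Spec (CommRingCat.of ↑(S.residueField s))) (h : geomS σ ⟶ G) :
    G.hom (h.left (IsLocalRing.closedPoint K)) = s := by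
  rw [← Scheme.Hom.comp_apply, Over.w h]
  exact Scheme.fromSpecResidueField_apply s _

variable [IsIntegral S] [LocallyOfFinitePresentation G.hom] [QuasiCompact G.hom] [QuasiSeparated G.hom]
  [LocallyOfFiniteType X.hom] [QuasiCompact X.hom] [IsAlgClosed K]

/-- **Spreading a generated subgroup.** -/
theorem exists_spread (σ : Spec (CommRingCat.of K) ⟶ Spec (CommRingCat.of ↑(S.residueField (genericPoint S)))) (f : X ⟶ G)
    (hX : Smooth (X.hom.fiberToSpecResidueField (genericPoint S)))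
    (I : Over (Spec (CommRingCat.of ↑(S.residueField (genericPoint S))))) [Smooth I.hom]
    (i : I ⟶ Red.bc (gι (genericPoint S)) G) [IsClosedImmersion i.left]
    (hI : (Set.range fun x : geomT σ ⟶ I => x ≫ i) =
      Subgroup.closure (Set.range fun y : geomT σ ⟶
          Red.bc (gι (genericPoint S)) X => y ≫ (Over.pullback (gι (genericPoint S))).map f))
    (hb : Bounded (Set.range fun y : geomT σ ⟶
          Red.bc (gι (genericPoint S)) X => y ≫ (Over.pullback (gι (genericPoint S))).map f))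
    (h1 : (1 : geomS σ ⟶ G) ∈ Set.range fun x : geomS σ ⟶ X => x ≫ f) :
    ∃ (N : ℕ) (D₀ : Over S) (d₀ : D₀ ⟶ G), IsClosedImmersion d₀.left ∧ LocallyOfFiniteType D₀.hom ∧
      QuasiCompact D₀.hom ∧
      (Set.range fun x : geomS σ ⟶ D₀ => x ≫ d₀) = Subgroup.closure (Set.range fun x : geomS σ ⟶ X => x ≫ f) ∧
      (∃ φ : Red.bc (gι (genericPoint S)) D₀ ≅ I,
        φ.hom ≫ i = (Over.pullback (gι (genericPoint S))).map d₀) ∧
      ∃ U : S.Opens, genericPoint S ∈ U ∧ Smooth (pullback.snd D₀.hom U.ι) ∧ Smooth (pullback.snd X.hom U.ι) ∧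
        ∀ p : D₀.left, D₀.hom p ∈ U → d₀.left p ∈ Set.range (wMor f (alt N)).left := by
  let ξ := genericPoint S
  let ιξ := gι ξ
  let q : (Red.bc ιξ G).left ⟶ G.left := pullback.fst G.hom ιξ
  let e := ptsEquiv (G := G) ιξ (geomT σ)
  have hq : Topology.IsEmbedding q := (G.hom.fiberι ξ).isEmbedding
  have hpt : ∀ h : geomS σ ⟶ G, h.left (IsLocalRing.closedPoint K) = q ((e h).left (IsLocalRing.closedPoint K)) := by
    intro h
    obtain ⟨g, rfl⟩ := e.symm.surjective h
    rw [e.apply_symm_apply]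
    show (((Over.mapPullbackAdj ιξ).homEquiv _ G).symm g).left (IsLocalRing.closedPoint K) = _
    rw [Adjunction.homEquiv_counit]
    rfl
  set H := Subgroup.closure (Set.range fun x : geomS σ ⟶ X => x ≫ f) with hH
  have hHI : e '' (H : Set (geomS σ ⟶ G)) = Set.range fun x : geomT σ ⟶ I => x ≫ i := by
    rw [hI, ← pts_image σ f]
    show e.toMonoidHom '' _ = _
    rw [← Subgroup.coe_map, hH, MonoidHom.map_closure]
    rfl
  obtain ⟨N, hN⟩ : ∃ N, ∀ h ∈ H, h ∈ wVal (Set.range fun x : geomS σ ⟶ X => x ≫ f) (alt N) := by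
    obtain ⟨N, hN⟩ := bounded_of_mulEquiv e (S := Set.range fun x : geomS σ ⟶ X => x ≫ f) (by
      rw [show e '' _ = _ from pts_image σ f]; exact hb)
    exact ⟨N, fun h hh => by obtain ⟨l, hl, hl'⟩ := hN h hh; exact wVal_alt h1 N l hl hl'⟩
  let C : Set G.left := closure (q '' Set.range i.left)
  haveI : IsReduced (geomT σ).left := inferInstanceAs (IsReduced (Spec (CommRingCat.of K)))
  have hC : ∀ h : geomS σ ⟶ G, h ∈ H ↔ h.left (IsLocalRing.closedPoint K) ∈ C := by
    intro h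
    constructor
    · intro hh
      obtain ⟨x, hx⟩ := hHI.le ⟨h, hh, rfl⟩
      rw [hpt, ← hx]
      exact subset_closure ⟨_, ⟨x.left (IsLocalRing.closedPoint K), rfl⟩, rfl⟩
    · intro hh
      rw [hpt, ← Set.mem_preimage, ← hq.closure_eq_preimage_closure_image,
        i.left.isClosedEmbedding.isClosed_range.closure_eq] at hh
      obtain ⟨x, hx⟩ := exists_lift_range i (e h) (by
        rintro _ ⟨z, rfl⟩
        rwa [Subsingleton.elim (α := Spec (CommRingCat.of K)) z (IsLocalRing.closedPoint K)])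
      obtain ⟨h', hh', he⟩ := hHI.ge ⟨x, hx⟩
      exact e.injective he ▸ hh'
  obtain ⟨_, _⟩ := props_wObjT X (alt N)
  let w : wObj X (alt N) ⟶ G := wMor f (alt N)
  haveI : QuasiCompact (w.left ≫ G.hom) := by rw [Over.w w]; infer_instance
  haveI : QuasiCompact w.left := QuasiCompact.of_comp w.left G.hom
  have hwC : ∀ z, G.hom (w.left z) = ξ → w.left z ∈ C := by
    intro z hz
    by_contra hn
    obtain ⟨x, hx⟩ := exists_geomPtAt σ (wObj X (alt N)) (L := w.left ⁻¹' Cᶜ)
      ((isClosed_closure (s := q '' Set.range i.left)).isOpen_compl.preimage w.left.continuous).isLocallyClosed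
      (z := z) hn (by rw [← Over.w w, Scheme.Hom.comp_apply]; exact hz)
    refine hx ((hC (x ≫ w)).mp (wVal_subset _ (alt N) ?_))
    rw [← range_wMor]
    exact ⟨x, rfl⟩
  have hZC : ∀ p : G.left, p ∈ closure (Set.range w.left) → G.hom p = ξ → p ∈ C := by
    intro p hp hpξ
    obtain ⟨z, hz⟩ := exists_specializes_of_closure_range w.left hp
    refine hz.mem_closed isClosed_closure (hwC z ?_)
    exact ((hpξ ▸ hz.map G.hom.continuous : G.hom (w.left z) ⤳ ξ).antisymm (generic_specializes _)).eq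
  -- the reduced subscheme on the closure of the words
  let Z : TopologicalSpace.Closeds G.left := ⟨closure (Set.range w.left), isClosed_closure⟩
  let 𝒥 := Scheme.IdealSheafData.vanishingIdeal Z
  let D₀ : Over S := Over.mk (𝒥.subschemeι ≫ G.hom)
  let d₀ : D₀ ⟶ G := Over.homMk 𝒥.subschemeι rfl
  haveI : IsReduced D₀.left := H23.RedSub.isReduced_vanishingIdeal Z
  haveI : IsClosedImmersion d₀.left := inferInstanceAs (IsClosedImmersion 𝒥.subschemeι)
  haveI : LocallyOfFiniteType D₀.hom := inferInstanceAs (LocallyOfFiniteType (𝒥.subschemeι ≫ G.hom))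
  haveI : QuasiCompact D₀.hom := inferInstanceAs (QuasiCompact (𝒥.subschemeι ≫ G.hom))
  have hr : Set.range d₀.left = closure (Set.range w.left) := H23.RedSub.range_vanishingIdeal Z
  haveI : IsReduced (geomS σ).left := inferInstanceAs (IsReduced (Spec (CommRingCat.of K)))
  have hword : ∀ h ∈ H, h.left (IsLocalRing.closedPoint K) ∈ Set.range w.left := fun h hh => by
    obtain ⟨y, rfl⟩ := (range_wMor f (geomS σ) (alt N)).ge (hN h hh)
    exact ⟨y.left (IsLocalRing.closedPoint K), rfl⟩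
  have hpts : (Set.range fun x : geomS σ ⟶ D₀ => x ≫ d₀) = H := by
    refine Set.Subset.antisymm ?_ fun h hh => ?_
    · rintro _ ⟨x, rfl⟩
      exact (hC _).mpr (hZC _ (hr.le ⟨x.left (IsLocalRing.closedPoint K), rfl⟩) (pt_over σ (x ≫ d₀)))
    · obtain ⟨g, hg⟩ := H23.RedSub.exists_lift_closed h.left d₀.left (by
        rintro _ ⟨z, rfl⟩
        rw [Subsingleton.elim (α := Spec (CommRingCat.of K)) z (IsLocalRing.closedPoint K)]
        exact hr.ge (subset_closure (hword h hh)))
      exact ⟨Over.homMk g (by rw [← Over.w d₀, reassoc_of% hg, Over.w h]), Over.OverMorphism.ext hg⟩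
  -- its generic fibre
  let J := Red.bc ιξ D₀
  let j : J ⟶ Red.bc ιξ G := (Over.pullback ιξ).map d₀
  haveI : IsReduced J.left := FlatMisc.isReduced_fiber_of_generic D₀.hom ξ
    fun v hv => (hv.antisymm (generic_specializes v)).eq
  haveI : IsClosedImmersion j.left := MorphismProperty.baseChange_map (P := @IsClosedImmersion) ιξ d₀ inferInstance
  haveI : LocallyOfFiniteType J.hom := MorphismProperty.pullback_snd D₀.hom ιξ inferInstance
  haveI : IsReduced I.left := DescLib.isReduced_of_smooth_of_isReduced I.hom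
  have hjr : Set.range j.left = q ⁻¹' closure (Set.range w.left) := (range_map ιξ d₀).trans (congrArg (q ⁻¹' ·) hr)
  have hij : Set.range j.left = Set.range i.left := by
    rw [hjr]
    refine Set.Subset.antisymm (fun p hp => ?_) ?_
    · have h : p ∈ q ⁻¹' C := hZC _ hp (by
        have : q p ∈ Set.range (G.hom.fiberι ξ) := ⟨p, rfl⟩
        rwa [Scheme.Hom.range_fiberι] at this)
      rwa [← hq.closure_eq_preimage_closure_image, i.left.isClosedEmbedding.isClosed_range.closure_eq] at h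
    · rintro _ ⟨z, rfl⟩
      by_contra hz
      obtain ⟨x, hx⟩ := exists_geomPt σ I (S := (i.left ≫ q) ⁻¹' (closure (Set.range w.left))ᶜ) ⟨z, hz⟩
        (isClosed_closure.isOpen_compl.preimage (i.left ≫ q).continuous).isLocallyClosed
      obtain ⟨h, hh, he⟩ := hHI.ge ⟨x, rfl⟩
      simp only at he
      refine hx ?_
      show q ((x ≫ i).left (IsLocalRing.closedPoint K)) ∈ closure (Set.range w.left)
      rw [← he, ← hpt]
      exact subset_closure (hword h hh)
  obtain ⟨u, hu⟩ := exists_lift_range i j hij.le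
  obtain ⟨v, hv⟩ := exists_lift_range j i hij.ge
  haveI : Mono i := (Over.forget _).mono_of_mono_map (inferInstanceAs (Mono i.left))
  haveI : Mono j := (Over.forget _).mono_of_mono_map (inferInstanceAs (Mono j.left))
  let φ : J ≅ I := ⟨u, v, by rw [← cancel_mono j, Category.assoc, hv, hu, Category.id_comp],
    by rw [← cancel_mono i, Category.assoc, hu, hv, Category.id_comp]⟩
  -- the open subset
  have hsmD : Smooth (D₀.hom.fiberToSpecResidueField ξ) := by
    show Smooth J.hom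
    haveI : IsIso φ.hom.left := ((Over.forget _).mapIso φ).isIso_hom
    rw [← Over.w φ.hom]
    infer_instance
  obtain ⟨U₁, h₁, hU₁⟩ := exists_smooth D₀.hom hsmD
  obtain ⟨U₂, h₂, hU₂⟩ := exists_smooth X.hom hX
  let r₂ : pullback D₀.hom U₂.ι ⟶ D₀.left := pullback.fst D₀.hom U₂.ι
  have hlc : Topology.IsLocallyConstructible (r₂ ⁻¹' (d₀.left ⁻¹' (Set.range w.left)ᶜ)) := by
    let Gt := Red.bc U₂.ι G
    let w₂ : Red.bc U₂.ι (wObj X (alt N)) ⟶ Gt := (Over.pullback U₂.ι).map w
    haveI : Smooth (Red.bc U₂.ι X).hom := hU₂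
    haveI := smooth_bc_wObj U₂.ι X (alt N)
    haveI : LocallyOfFiniteType Gt.hom := MorphismProperty.pullback_snd G.hom U₂.ι inferInstance
    haveI : LocallyOfFinitePresentation (w₂.left ≫ Gt.hom) := by rw [Over.w w₂]; infer_instance
    haveI : LocallyOfFinitePresentation w₂.left := S12442.locallyOfFinitePresentation_of_comp w₂.left Gt.hom
    haveI : QuasiCompact w₂.left := MorphismProperty.overPullbackMap (P := @QuasiCompact) U₂.ι w inferInstance
    have h₁ : Topology.IsLocallyConstructible (Set.range w₂.left)ᶜ := by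
      refine isLocallyConstructible_compl ?_
      rw [← Set.image_univ]
      exact w₂.left.isLocallyConstructible_image Topology.IsConstructible.univ.isLocallyConstructible
    rw [range_map, ← Set.preimage_compl] at h₁
    have h₂ := AlgSpDec.isLocallyConstructible_preimage_hom ((Over.pullback U₂.ι).map d₀).left h₁
    have e : ∀ z, pullback.fst G.hom U₂.ι (((Over.pullback U₂.ι).map d₀).left z) = d₀.left (r₂ z) := fun z => by
      rw [← Scheme.Hom.comp_apply, ← Scheme.Hom.comp_apply]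
      refine congrArg (fun φ : _ ⟶ G.left => φ z) ?_
      exact pullback.lift_fst _ _ _
    have e' : r₂ ⁻¹' (d₀.left ⁻¹' (Set.range w.left)ᶜ) =
        ((Over.pullback U₂.ι).map d₀).left ⁻¹' (pullback.fst G.hom U₂.ι ⁻¹' (Set.range w.left)ᶜ) := by
      refine Set.ext fun z => ?_
      simp only [Set.mem_preimage]
      rw [e]
    rw [e']
    exact h₂
  obtain ⟨U₃, h₃, hU₃⟩ := exists_disjoint D₀.hom U₂ h₂ hlc (by
    intro p hp hpξ
    obtain ⟨p', hp'⟩ : p ∈ Set.range (D₀.hom.fiberι ξ) := by rw [Scheme.Hom.range_fiberι]; exact hpξ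
    let r : J.left ⟶ D₀.left := pullback.fst D₀.hom ιξ
    haveI : QuasiCompact J.hom := MorphismProperty.pullback_snd D₀.hom ιξ inferInstance
    haveI : CompactSpace J.left := QuasiCompact.compactSpace_of_compactSpace J.hom
    haveI : IsLocallyNoetherian J.left := LocallyOfFiniteType.isLocallyNoetherian J.hom
    let m : J.left ⟶ pullback D₀.hom U₂.ι := pullback.lift r (IsOpenImmersion.lift U₂.ι (r ≫ D₀.hom) (by
        rintro _ ⟨z, rfl⟩
        have hz : r z ∈ Set.range (D₀.hom.fiberι ξ) := ⟨z, rfl⟩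
        rw [Scheme.Hom.range_fiberι] at hz
        rw [Scheme.Opens.range_ι, Scheme.Hom.comp_apply]
        rw [show D₀.hom (r z) = ξ from hz]
        exact h₂))
      (IsOpenImmersion.lift_fac _ _ _).symm
    have hm : ∀ z, r₂ (m z) = r z := fun z => by
      rw [← Scheme.Hom.comp_apply, pullback.lift_fst]
    have hlc' : Topology.IsLocallyConstructible (r ⁻¹' (d₀.left ⁻¹' (Set.range w.left)ᶜ)) := by
      have h' := AlgSpDec.isLocallyConstructible_preimage_hom m hlc
      rwa [← Set.preimage_comp, show (r₂ : _ → D₀.left) ∘ (m : _ → _) = (r : _ → D₀.left) from funext hm] at h'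
    obtain ⟨𝒮, -, hl, h𝒮⟩ := (finLC_of_isConstructible hlc'.isConstructible).1
    obtain ⟨L, hL, hpL⟩ : p' ∈ ⋃₀ 𝒮 := h𝒮 ▸ (show d₀.left (r p') ∈ (Set.range w.left)ᶜ from hp'.symm ▸ hp)
    obtain ⟨x, hx⟩ := exists_geomPt σ J ⟨p', hpL⟩ (hl L hL)
    let x' : geomS σ ⟶ D₀ := ((Over.mapPullbackAdj ιξ).homEquiv _ D₀).symm x
    have hx' : x'.left (IsLocalRing.closedPoint K) = r (x.left (IsLocalRing.closedPoint K)) := by
      show (((Over.mapPullbackAdj ιξ).homEquiv _ D₀).symm x).left (IsLocalRing.closedPoint K) = _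
      rw [Adjunction.homEquiv_counit]
      rfl
    have hw := hword _ (hpts.le ⟨x', rfl⟩)
    have hcon : x.left (IsLocalRing.closedPoint K) ∈ r ⁻¹' (d₀.left ⁻¹' (Set.range w.left)ᶜ) := h𝒮.ge ⟨L, hL, hx⟩
    exact hcon (hx' ▸ hw))
  refine ⟨N, D₀, d₀, inferInstance, inferInstance, inferInstance, hpts, ⟨φ, hu⟩, U₁ ⊓ U₂ ⊓ U₃, ⟨⟨h₁, h₂⟩, h₃⟩,
    pr_mono @Smooth D₀.hom (inf_le_left.trans inf_le_left) hU₁,
    pr_mono @Smooth X.hom (inf_le_left.trans inf_le_right) hU₂, fun p hp => ?_⟩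
  by_contra hn
  exact Set.disjoint_left.mp hU₃ hp.2 hn

/-- Factorisation through a closed subscheme is tested on geometric generic points. -/
theorem exists_lift_pts (σ : Spec (CommRingCat.of K) ⟶ Spec (CommRingCat.of ↑(S.residueField (genericPoint S)))) {U : S.Opens}
    {D₀ : Over S} (d₀ : D₀ ⟶ G) [IsClosedImmersion d₀.left] (T : Over (U : Scheme.{u})) [Smooth T.hom]
    (φ : T ⟶ Red.bc U.ι G)
    (h : ∀ x : geomS σ ⟶ (Over.map U.ι).obj T,
      x ≫ (ptsEquiv (G := G) U.ι T).symm φ ∈ Set.range fun y : geomS σ ⟶ D₀ => y ≫ d₀) :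
    ∃ φ' : T ⟶ Red.bc U.ι D₀, φ' ≫ (Over.pullback U.ι).map d₀ = φ := by
  let T' : Over S := (Over.map U.ι).obj T
  haveI : Smooth T'.hom := inferInstanceAs (Smooth (T.hom ≫ U.ι))
  haveI : IsReduced T'.left := DescLib.isReduced_of_smooth_of_isReduced T'.hom
  let ψ : T' ⟶ G := (ptsEquiv (G := G) U.ι T).symm φ
  have hr := range_subset_of_generic σ T' T'.hom.isOpenMap ψ d₀.left.isClosedEmbedding.isClosed_range fun x => by
    obtain ⟨y, hy⟩ := h x
    exact ⟨y.left (IsLocalRing.closedPoint K),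
      congrArg (fun q : geomS σ ⟶ G => q.left (IsLocalRing.closedPoint K)) hy⟩
  obtain ⟨g, hg⟩ := H23.RedSub.exists_lift_closed ψ.left d₀.left hr
  let g' : T' ⟶ D₀ := Over.homMk g (by rw [← Over.w d₀, reassoc_of% hg, Over.w ψ])
  refine ⟨(Over.mapPullbackAdj U.ι).homEquiv _ _ g', ?_⟩
  rw [← Adjunction.homEquiv_naturality_right, show g' ≫ d₀ = ψ from Over.OverMorphism.ext hg]
  exact (ptsEquiv (G := G) U.ι T).apply_symm_apply φ

/-- **A closed subscheme whose geometric generic points form a subgroup is a subgroup scheme where it is smooth.** -/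
theorem exists_group (σ : Spec (CommRingCat.of K) ⟶ Spec (CommRingCat.of ↑(S.residueField (genericPoint S)))) {U : S.Opens}
    {D₀ : Over S} (d₀ : D₀ ⟶ G) [IsClosedImmersion d₀.left] (hsm : Smooth (pullback.snd D₀.hom U.ι))
    (H : Subgroup (geomS σ ⟶ G)) (hH : (Set.range fun y : geomS σ ⟶ D₀ => y ≫ d₀) = H) :
    ∃ _ : GrpObj (Red.bc U.ι D₀), IsMonHom ((Over.pullback U.ι).map d₀) ∧
      IsClosedImmersion ((Over.pullback U.ι).map d₀).left := by
  let D : Over (U : Scheme.{u}) := Red.bc U.ι D₀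
  let d : D ⟶ Red.bc U.ι G := (Over.pullback U.ι).map d₀
  haveI : Smooth D.hom := hsm
  haveI : Smooth (𝟙_ (Over (U : Scheme.{u}))).hom := inferInstanceAs (Smooth (𝟙 (U : Scheme.{u})))
  haveI : Smooth (D ⊗ D).hom := smooth_tensor D D
  haveI : IsClosedImmersion d.left := MorphismProperty.baseChange_map (P := @IsClosedImmersion) U.ι d₀ inferInstance
  haveI : Mono d := (Over.forget _).mono_of_mono_map (inferInstanceAs (Mono d.left))
  have hmem : ∀ {T : Over (U : Scheme.{u})} (p : T ⟶ D) (x : geomS σ ⟶ (Over.map U.ι).obj T),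
      x ≫ (ptsEquiv (G := G) U.ι T).symm (p ≫ d) ∈ H := by
    intro T p x
    rw [← SetLike.mem_coe, ← hH]
    refine ⟨x ≫ ((Over.mapPullbackAdj U.ι).homEquiv _ _).symm p, (Category.assoc _ _ _).trans ?_⟩
    exact congrArg (x ≫ ·) ((Over.mapPullbackAdj U.ι).homEquiv_naturality_right_symm p d₀).symm
  obtain ⟨e₁, he₁⟩ := exists_lift_pts σ d₀ (𝟙_ _) η[Red.bc U.ι G] fun x => by
    rw [hH, MonObj.one_eq_one, map_one, MonObj.comp_one]
    exact H.one_mem
  obtain ⟨m, hm⟩ := exists_lift_pts σ d₀ (D ⊗ D) ((fst D D ≫ d) * (snd D D ≫ d)) fun x => by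
    rw [hH, map_mul, MonObj.comp_mul]
    exact H.mul_mem (hmem _ x) (hmem _ x)
  obtain ⟨v, hv⟩ := exists_lift_pts σ d₀ D d⁻¹ fun x => by
    rw [hH, MulEquiv.map_inv, GrpObj.comp_inv]
    have := hmem (𝟙 D) x
    rw [Category.id_comp] at this
    exact H.inv_mem this
  obtain ⟨str, hd⟩ := GrpSchLib.exists_grpObj_of_mono d e₁ he₁ m hm v hv
  exact ⟨str, hd, inferInstance⟩

/-- The commutator of two subgroups factors through a subscheme containing the commutators of generic points. -/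
theorem exists_cm_lift (σ : Spec (CommRingCat.of K) ⟶ Spec (CommRingCat.of ↑(S.residueField (genericPoint S)))) {U : S.Opens}
    {D₀ A B : Over S} (d₀ : D₀ ⟶ G) [IsClosedImmersion d₀.left] (a : A ⟶ G) (b : B ⟶ G)
    [Smooth (Red.bc U.ι A).hom] [Smooth (Red.bc U.ι B).hom]
    (h : Set.image2 (fun g g' : geomS σ ⟶ G => (⁅g, g'⁆ : geomS σ ⟶ G)) (Set.range fun x : geomS σ ⟶ A => x ≫ a)
        (Set.range fun y : geomS σ ⟶ B => y ≫ b) ⊆ Set.range fun y : geomS σ ⟶ D₀ => y ≫ d₀) :
    ∃ c : Red.bc U.ι A ⊗ Red.bc U.ι B ⟶ Red.bc U.ι D₀,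
      c ≫ (Over.pullback U.ι).map d₀ = cm ((Over.pullback U.ι).map a) ((Over.pullback U.ι).map b) := by
  haveI : Smooth (Red.bc U.ι A ⊗ Red.bc U.ι B).hom := smooth_tensor _ _
  refine exists_lift_pts σ d₀ _ _ fun x => h ?_
  let T := Red.bc U.ι A ⊗ Red.bc U.ι B
  have hcm : cm ((Over.pullback U.ι).map a) ((Over.pullback U.ι).map b) =
      (⁅fst (Red.bc U.ι A) (Red.bc U.ι B) ≫ (Over.pullback U.ι).map a,
        snd (Red.bc U.ι A) (Red.bc U.ι B) ≫ (Over.pullback U.ι).map b⁆ : T ⟶ Red.bc U.ι G) := rfl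
  rw [hcm, show ((ptsEquiv (G := G) U.ι T).symm : (T ⟶ Red.bc U.ι G) → _) =
    ((ptsEquiv (G := G) U.ι T).symm.toMonoidHom : (T ⟶ Red.bc U.ι G) → _) from rfl, map_commutatorElement]
  refine ⟨_, ⟨x ≫ ((Over.mapPullbackAdj U.ι).homEquiv _ _).symm (fst (Red.bc U.ι A) (Red.bc U.ι B)), rfl⟩, _,
    ⟨x ≫ ((Over.mapPullbackAdj U.ι).homEquiv _ _).symm (snd (Red.bc U.ι A) (Red.bc U.ι B)), rfl⟩, ?_⟩
  simp only [commutatorElement_def, MonObj.comp_mul, GrpObj.comp_inv, Category.assoc,
    ← Adjunction.homEquiv_naturality_right_symm]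
  rfl

end

end Groth.Agent.Deform.GenSub.Spread
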