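import Groth.Agent.Deform.GenSub.SpreadGeneric
import Groth.Agent.GrpSchLib.HomFibre
import Groth.Agent.S0351

/-!
# A subgroup covered by commutator words is the commutator subgroup on every fibre
-/

set_option autoImplicit false

universe u

open CategoryTheory CategoryTheory.Limits MonoidalCategory CartesianMonoidalCategory MonObj GrpObj AlgebraicGeometry

attribute [local instance] CategoryTheory.Hom.monoid CategoryTheory.Hom.group
set_option linter.style.haveILetI false
set_option linter.unusedSectionVars false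

namespace Groth.Agent.Deform.GenSub.Spread

noncomputable section

open Chev Luna.SolvLocus GrpSchLib
open scoped commutatorElement

variable {T : Scheme.{u}} {G A B D : Over T} [GrpObj G] [GrpObj A] [GrpObj B] [GrpObj D]
  (a : A ⟶ G) [IsMonHom a] (b : B ⟶ G) [IsMonHom b] (d : D ⟶ G) [IsMonHom d] [IsClosedImmersion d.left]
  [Smooth D.hom]

omit [GrpObj A] [GrpObj B] [GrpObj D] [IsMonHom a] [IsMonHom b] [IsMonHom d] in
/-- The fibre of a closed subscheme covered by commutator words is in every subgroup receiving the commutators. -/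
theorem fibre_min (n : ℕ) (hsurj : Set.range d.left ⊆ Set.range (wMor (cm a b) (alt n)).left) (s : T)
    (Γ : Over (Spec (CommRingCat.of ↑(T.residueField s)))) [GrpObj Γ] (i : Γ ⟶ Red.bc (gι s) G) [IsMonHom i]
    [IsClosedImmersion i.left]
    (hc : ∃ c, c ≫ i = cm ((Over.pullback (gι s)).map a) ((Over.pullback (gι s)).map b)) :
    ∃ j : Red.bc (gι s) D ⟶ Γ, j ≫ i = (Over.pullback (gι s)).map d := by
  obtain ⟨c, hc⟩ := hc
  haveI : Smooth (Red.bc (gι s) D).hom := MorphismProperty.pullback_snd D.hom (gι s) inferInstance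
  haveI : IsReduced (Red.bc (gι s) D).left := DescLib.isReduced_of_smooth_of_isReduced (Red.bc (gι s) D).hom
  obtain ⟨θ, hθ⟩ := exists_map_wMor (gι s) (cm a b) i
    (lift ((Over.pullback (gι s)).map (fst A B)) ((Over.pullback (gι s)).map (snd A B)) ≫ c)
    (by rw [Category.assoc, hc, map_cm]) (alt n)
  have hw : wMor i (alt n) = wMor (𝟙 Γ) (alt n) ≫ i := by rw [wMor_comp, Category.id_comp]
  refine exists_lift_range i _ ?_
  rw [range_map]
  intro p hp
  obtain ⟨z, hz⟩ := (range_map (gι s) (wMor (cm a b) (alt n))).ge (hsurj hp)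
  exact ⟨(θ ≫ wMor (𝟙 Γ) (alt n)).left z, by
    rw [← hz, ← hθ, hw, ← Scheme.Hom.comp_apply, ← Over.comp_left, Category.assoc]⟩

/-- The commutators of the fibres lie in the fibre. -/
theorem fibre_factor (hc : ∃ c, c ≫ d = cm a b) (s : T) :
    ∃ c, c ≫ (Over.pullback (gι s)).map d = cm ((Over.pullback (gι s)).map a) ((Over.pullback (gι s)).map b) := by
  obtain ⟨c, hc⟩ := hc
  exact ⟨Functor.LaxMonoidal.μ (Over.pullback (gι s)) A B ≫ (Over.pullback (gι s)).map c, by
    rw [Category.assoc, ← Functor.map_comp, hc, μ_map_cm]⟩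

/-- Connected fibres. -/
theorem fibre_connected [LocallyOfFiniteType G.hom] [IsImmersion a.left] [IsImmersion b.left] [Smooth A.hom]
    [Smooth B.hom] [QuasiCompact B.hom] (n : ℕ) (hc : ∃ c, c ≫ d = cm a b)
    (hsurj : Set.range d.left ⊆ Set.range (wMor (cm a b) (alt n)).left) (s : T)
    (hA : ConnectedSpace (Red.bc (gι s) A).left) : ConnectedSpace (Red.bc (gι s) D).left := by
  let K := AlgebraicClosure (T.residueField s)
  let σ : Spec (CommRingCat.of K) ⟶ Spec (CommRingCat.of ↑(T.residueField s)) :=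
    Spec.map (CommRingCat.ofHom (algebraMap (T.residueField s) K))
  let aS : Red.bc (gι s) A ⟶ Red.bc (gι s) G := (Over.pullback (gι s)).map a
  let bS : Red.bc (gι s) B ⟶ Red.bc (gι s) G := (Over.pullback (gι s)).map b
  let dS : Red.bc (gι s) D ⟶ Red.bc (gι s) G := (Over.pullback (gι s)).map d
  haveI : IsMonHom aS := inferInstanceAs (IsMonHom ((Over.pullback (gι s)).map a))
  haveI : IsMonHom bS := inferInstanceAs (IsMonHom ((Over.pullback (gι s)).map b))
  haveI : IsMonHom dS := inferInstanceAs (IsMonHom ((Over.pullback (gι s)).map d))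
  haveI : IsImmersion aS.left := MorphismProperty.overPullbackMap (P := @IsImmersion) (gι s) a inferInstance
  haveI : IsImmersion bS.left := MorphismProperty.overPullbackMap (P := @IsImmersion) (gι s) b inferInstance
  haveI : IsClosedImmersion dS.left := MorphismProperty.overPullbackMap (P := @IsClosedImmersion) (gι s) d inferInstance
  haveI : IsClosedImmersion aS.left := S0351.result _ _ _ aS
  haveI : IsClosedImmersion bS.left := S0351.result _ _ _ bS
  haveI : LocallyOfFiniteType (Red.bc (gι s) G).hom := MorphismProperty.pullback_snd G.hom (gι s) inferInstance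
  haveI : Smooth (Red.bc (gι s) A).hom := MorphismProperty.pullback_snd A.hom (gι s) inferInstance
  haveI : Smooth (Red.bc (gι s) B).hom := MorphismProperty.pullback_snd B.hom (gι s) inferInstance
  haveI : QuasiCompact (Red.bc (gι s) B).hom := MorphismProperty.pullback_snd B.hom (gι s) inferInstance
  haveI := IsogenyFibre.geometricallyReduced_of_smooth' (Red.bc (gι s) A).hom
  haveI := IsogenyFibre.geometricallyReduced_of_smooth' (Red.bc (gι s) B).hom
  obtain ⟨I, _, i, hi, hic, -, -, hfI, hminI, hconn, -⟩ := exists_commutator σ aS bS (.inr hA)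
  haveI := hi; haveI := hic
  obtain ⟨φ, -⟩ := generated_iso i hfI hminI dS (fibre_factor a b d hc s)
    (fun Γ iΓ j hj hjc hf => by
      haveI := hj; haveI := hjc
      exact fibre_min a b d n hsurj s Γ j hf)
  haveI := hconn hA
  exact Function.Surjective.connectedSpace (f := φ.hom.left) (fun p =>
    ⟨φ.inv.left p, by rw [← Scheme.Hom.comp_apply, ← Over.comp_left, Iso.inv_hom_id]; rfl⟩) φ.hom.left.continuous

/-- The shear map makes multiplication flat. -/
theorem mul_flat [Flat D.hom] [LocallyOfFinitePresentation D.hom] :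
    Flat (μ[D] : D ⊗ D ⟶ D).left ∧ LocallyOfFinitePresentation (μ[D] : D ⊗ D ⟶ D).left ∧
      Surjective (μ[D] : D ⊗ D ⟶ D).left := by
  let e : D ⊗ D ≅ D ⊗ D :=
    { hom := lift (fst D D) (fst D D * snd D D)
      inv := lift (fst D D) ((fst D D)⁻¹ * snd D D)
      hom_inv_id := by
        apply CartesianMonoidalCategory.hom_ext
        · simp
        · simp [MonObj.comp_mul, GrpObj.comp_inv, inv_mul_cancel_left]
      inv_hom_id := by
        apply CartesianMonoidalCategory.hom_ext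
        · simp
        · simp [MonObj.comp_mul, mul_inv_cancel_left] }
  have hμ : (μ[D] : D ⊗ D ⟶ D) = e.hom ≫ snd D D := by
    simp only [e, lift_snd]
    rw [Hom.mul_def, lift_fst_snd, Category.id_comp]
  have hsnd : (snd D D).left = pullback.snd D.hom D.hom := rfl
  haveI : IsIso e.hom.left := ((Over.forget _).mapIso e).isIso_hom
  haveI : Surjective D.hom := ⟨fun t => ⟨η[D].left t, by
    rw [← Scheme.Hom.comp_apply, Over.w η[D]]; rfl⟩⟩
  haveI : Flat (snd D D).left := hsnd ▸ inferInstance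
  haveI : LocallyOfFinitePresentation (snd D D).left := hsnd ▸ inferInstance
  haveI : Surjective (snd D D).left := hsnd ▸ (MorphismProperty.pullback_snd D.hom D.hom inferInstance)
  rw [hμ, Over.comp_left]
  exact ⟨inferInstance, inferInstance, inferInstance⟩

omit [GrpObj G] [GrpObj A] [GrpObj B] [GrpObj D] [IsMonHom a] [IsMonHom b] [IsMonHom d] [IsClosedImmersion d.left] in
/-- A surjective morphism of smooth schemes is flat over an open dense in every fibre. -/
theorem exists_flat_piece {W : Over T} [Smooth W.hom] [QuasiCompact W.hom] [QuasiSeparated D.hom] (wD : W ⟶ D)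
    [Surjective wD.left] :
    ∃ L : W.left.Opens, Flat (L.ι ≫ wD.left) ∧ LocallyOfFinitePresentation (L.ι ≫ wD.left) ∧
      ∀ (s : T) (O : (Red.bc (gι s) D).left.Opens), (O : Set (Red.bc (gι s) D).left).Nonempty →
        ∃ p ∈ O, pullback.fst D.hom (gι s) p ∈ Set.range (L.ι ≫ wD.left) := by
  haveI : LocallyOfFinitePresentation wD.left := HomFibre.lfp_of_flat_lfp wD
  haveI : QuasiCompact (wD.left ≫ D.hom) := by rw [Over.w wD]; infer_instance
  haveI : QuasiCompact wD.left := QuasiCompact.of_comp wD.left D.hom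
  let L : W.left.Opens := ⟨Loci.loc Loci.FL wD.left, Loci.isOpen_loc _ _⟩
  have hL : Loci.FL (L.ι ≫ wD.left) := by
    refine Loci.of_forall_mem Loci.FL _ ?_
    intro x
    obtain ⟨U, hx, hU⟩ : L.ι x ∈ Loci.loc Loci.FL wD.left := x.2
    refine ⟨L.ι ⁻¹ᵁ U, hx, ?_⟩
    rw [← morphismRestrict_ι_assoc]
    exact Loci.FL.comp_mem _ _ (Loci.imm_le_FL _ inferInstance) hU
  haveI : Flat (L.ι ≫ wD.left) := hL.1
  haveI : LocallyOfFinitePresentation (L.ι ≫ wD.left) := hL.2
  refine ⟨L, hL.1, hL.2, ?_⟩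
  intro s O hO
  let wS : Red.bc (gι s) W ⟶ Red.bc (gι s) D := (Over.pullback (gι s)).map wD
  haveI : LocallyOfFiniteType wS.left := HomFibre.fib_lft wD (gι s)
  haveI : QuasiCompact wS.left := MorphismProperty.overPullbackMap (P := @QuasiCompact) (gι s) wD inferInstance
  haveI : Smooth (Red.bc (gι s) D).hom := MorphismProperty.pullback_snd D.hom (gι s) inferInstance
  haveI : IsReduced (Red.bc (gι s) D).left := DescLib.isReduced_of_smooth_of_isReduced (Red.bc (gι s) D).hom
  obtain ⟨O', hO'd, hfl, hfp⟩ := FlatMisc.exists_dense_flat wS.left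
  haveI := hfl; haveI := hfp
  obtain ⟨p, hpO, hpO'⟩ := hO'd.inter_open_nonempty _ O.2 hO
  obtain ⟨z, hz⟩ : p ∈ Set.range wS.left := by
    rw [range_map, wD.left.surjective.range_eq]; trivial
  have hzL : z ∈ Loci.loc Loci.FL wS.left := by
    refine ⟨wS.left ⁻¹ᵁ O', show wS.left z ∈ O' by rw [hz]; exact hpO', ?_⟩
    rw [← morphismRestrict_ι]
    exact ⟨inferInstance, inferInstance⟩
  refine ⟨p, hpO, ⟨⟨HomFibre.incl W s z, (HomFibre.flat_iff wD s z).mp hzL⟩, ?_⟩⟩
  rw [← hz]
  exact (congrArg (fun q => q z) (HomFibre.map_isPullback wD (gι s)).w).symm ▸ rfl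

omit [GrpObj G] [GrpObj A] [GrpObj B] [GrpObj D] [IsMonHom a] [IsMonHom b] [IsMonHom d] [IsClosedImmersion d.left] [Smooth D.hom] in
/-- Every rational point of a group over an algebraically closed field is a product of two points of a dense open. -/
theorem exists_mul_mem_pt {K : Type u} [Field K] [IsAlgClosed K] (J : Over (Spec (CommRingCat.of K))) [GrpObj J]
    [LocallyOfFiniteType J.hom] {W : Set J.left} (hW : IsOpen W) (hd : Dense W) (x : Pt J) :
    ∃ y : Pt J, pimg y ∈ W ∧ pimg (y⁻¹ * x) ∈ W := by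
  letI := Luna.SolvPts.ptTop J
  have hsep := Luna.SolvPts.sepCont (G := J)
  have hden : ∀ O₁ : Set (Pt J), IsOpen O₁ → O₁.Nonempty → (O₁ ∩ pimg ⁻¹' W).Nonempty := by
    intro O₁ hO₁ ⟨g₁, hg₁⟩
    obtain ⟨O₂, hO₂, rfl⟩ := Luna.SolvPts.isInducing_pimg.isOpen_iff.mp hO₁
    obtain ⟨g, hg⟩ := exists_pt (G := J) (S := O₂ ∩ W) (hd.inter_open_nonempty _ hO₂ ⟨_, hg₁⟩)
      (hO₂.inter hW).isLocallyClosed
    exact ⟨g, hg.1, hg.2⟩
  have hc : Continuous fun g : Pt J => g⁻¹ * x := (hsep.right x).comp hsep.inv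
  obtain ⟨g₀, -, hg₀⟩ := hden Set.univ isOpen_univ ⟨1, trivial⟩
  have hne : ((fun g : Pt J => g⁻¹ * x) ⁻¹' (pimg ⁻¹' W)).Nonempty := by
    refine ⟨x * g₀⁻¹, ?_⟩
    show pimg ((x * g₀⁻¹)⁻¹ * x) ∈ W
    rwa [_root_.mul_inv_rev, _root_.inv_inv, inv_mul_cancel_right]
  obtain ⟨g, hg₁, hg₂⟩ := hden _ ((hW.preimage Luna.SolvPts.isInducing_pimg.continuous).preimage hc) hne
  exact ⟨g, hg₂, hg₁⟩

omit [GrpObj G] [GrpObj A] [GrpObj B] [GrpObj D] [IsMonHom a] [IsMonHom b] [IsMonHom d] [IsClosedImmersion d.left] [Smooth D.hom] in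
/-- Every geometric point of a group is the product of two points of a dense open subset. -/
theorem exists_mul_mem {k : Type u} [Field k] {K : Type u} [Field K] [IsAlgClosed K]
    (σ : Spec (CommRingCat.of K) ⟶ Spec (CommRingCat.of k)) (J : Over (Spec (CommRingCat.of k))) [GrpObj J]
    [LocallyOfFiniteType J.hom] {V : Set J.left} (hV : IsOpen V) (hd : Dense V) (x : geomT σ ⟶ J) :
    ∃ y : geomT σ ⟶ J, y.left (IsLocalRing.closedPoint K) ∈ V ∧
      (y⁻¹ * x).left (IsLocalRing.closedPoint K) ∈ V := by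
  haveI : LocallyOfFiniteType (Red.bc σ J).hom := MorphismProperty.pullback_snd J.hom σ inferInstance
  haveI : UniversallyOpen σ := VarGeom.universallyOpen_of_field _
  haveI : UniversallyOpen (pullback.fst J.hom σ) := MorphismProperty.pullback_fst _ _ inferInstance
  let e := ptsEquiv (G := J) σ (𝟙_ (Over (Spec (CommRingCat.of K))))
  obtain ⟨g, hg₁, hg₂⟩ := exists_mul_mem_pt (Red.bc σ J) (W := pullback.fst J.hom σ ⁻¹' V)
    (hV.preimage (pullback.fst J.hom σ).continuous) (hd.preimage (pullback.fst J.hom σ).isOpenMap) (e x)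
  have hr : ∀ h : geomT σ ⟶ J,
      pullback.fst J.hom σ (pimg (G := Red.bc σ J) (e h)) = h.left (IsLocalRing.closedPoint K) := fun h => fst_pimg σ h
  refine ⟨e.symm g, ?_, ?_⟩
  · have h := hr (e.symm g)
    rw [e.apply_symm_apply] at h
    exact h ▸ hg₁
  · have h := hr ((e.symm g)⁻¹ * x)
    rw [map_mul, MulEquiv.map_inv, e.apply_symm_apply] at h
    exact h ▸ hg₂

omit [GrpObj G] [GrpObj A] [GrpObj B] [IsMonHom a] [IsMonHom b] [IsMonHom d] [IsClosedImmersion d.left] in
/-- Products of points in an image lie in the image of the product. -/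
theorem mem_range_mul {W' U : Over T} (p : W' ⟶ D) (y z : U ⟶ D) (u : U.left) (hy : y.left u ∈ Set.range p.left)
    (hz : z.left u ∈ Set.range p.left) : (y * z).left u ∈ Set.range ((p ⊗ₘ p) ≫ μ).left := by
  have h : (lift y z).left u ∈ Set.range (p ⊗ₘ p).left := by
    rw [Over.tensorHom_left, Scheme.Pullback.range_map]
    refine ⟨?_, ?_⟩
    · show (lift y z ≫ fst D D).left u ∈ Set.range p.left
      rwa [lift_fst]
    · show (lift y z ≫ snd D D).left u ∈ Set.range p.left
      rwa [lift_snd]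
  obtain ⟨q, hq⟩ := h
  refine ⟨q, ?_⟩
  rw [Hom.mul_def, Over.comp_left, Over.comp_left, Scheme.Hom.comp_apply, hq, Scheme.Hom.comp_apply]

omit [GrpObj G] [GrpObj A] [GrpObj B] [IsMonHom a] [IsMonHom b] [IsMonHom d] [IsClosedImmersion d.left] in
/-- Products of two points in a flat piece dense in every fibre fill the group. -/
theorem mul_surjective {W' : Over T} (p : W' ⟶ D) [Flat p.left] [LocallyOfFinitePresentation p.left]
    (hdense : ∀ (s : T) (O : (Red.bc (gι s) D).left.Opens), (O : Set (Red.bc (gι s) D).left).Nonempty →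
      ∃ q ∈ O, pullback.fst D.hom (gι s) q ∈ Set.range p.left) :
    Flat ((p ⊗ₘ p) ≫ μ).left ∧ LocallyOfFinitePresentation ((p ⊗ₘ p) ≫ μ).left ∧
      Surjective ((p ⊗ₘ p) ≫ μ).left := by
  obtain ⟨hm₁, hm₂, hm₃⟩ := mul_flat (D := D)
  have hT : Flat (p ⊗ₘ p).left ∧ LocallyOfFinitePresentation (p ⊗ₘ p).left := by
    rw [Over.tensorHom_left]
    exact ⟨MorphismProperty.pullbackMap (P := @Flat) ‹Flat p.left› ‹Flat p.left› (Over.w p).symm (Over.w p).symm,
      MorphismProperty.pullbackMap (P := @LocallyOfFinitePresentation) ‹LocallyOfFinitePresentation p.left›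
        ‹LocallyOfFinitePresentation p.left› (Over.w p).symm (Over.w p).symm⟩
  haveI := hT.1; haveI := hT.2
  have h₁ : Flat ((p ⊗ₘ p) ≫ μ).left := by rw [Over.comp_left]; infer_instance
  have h₂ : LocallyOfFinitePresentation ((p ⊗ₘ p) ≫ μ).left := by rw [Over.comp_left]; infer_instance
  haveI := h₁; haveI := h₂
  refine ⟨h₁, h₂, ⟨fun x₀ => ?_⟩⟩
  by_contra hx₀
  let s := D.hom x₀
  let K := AlgebraicClosure (T.residueField s)
  let σ : Spec (CommRingCat.of K) ⟶ Spec (CommRingCat.of ↑(T.residueField s)) :=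
    Spec.map (CommRingCat.ofHom (algebraMap (T.residueField s) K))
  let DS := Red.bc (gι s) D
  let r : DS.left ⟶ D.left := pullback.fst D.hom (gι s)
  haveI : Smooth DS.hom := MorphismProperty.pullback_snd D.hom (gι s) inferInstance
  obtain ⟨x₁, hx₁⟩ : x₀ ∈ Set.range r := by
    show x₀ ∈ Set.range (D.hom.fiberι s); rw [Scheme.Hom.range_fiberι]; rfl
  obtain ⟨x, hx⟩ := exists_geomPt σ DS (S := r ⁻¹' (Set.range ((p ⊗ₘ p) ≫ μ).left)ᶜ)
    ⟨x₁, fun hc => hx₀ (hx₁ ▸ hc)⟩
    (((p ⊗ₘ p) ≫ μ).left.isOpenMap.isOpen_range.isClosed_compl.preimage r.continuous).isLocallyClosed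
  obtain ⟨y, hy, hz⟩ := exists_mul_mem σ DS (V := r ⁻¹' Set.range p.left)
    (p.left.isOpenMap.isOpen_range.preimage r.continuous) (dense_iff_inter_open.mpr fun O hO hne => by
      obtain ⟨q, hq, hq'⟩ := hdense s ⟨O, hO⟩ hne
      exact ⟨q, hq, hq'⟩) x
  let e := ptsEquiv (G := D) (gι s) (geomT σ)
  have hleft : ∀ h : geomT σ ⟶ DS, (e.symm h).left (IsLocalRing.closedPoint K) =
      r (h.left (IsLocalRing.closedPoint K)) := fun h => by
    show (((Over.mapPullbackAdj (gι s)).homEquiv _ D).symm h).left (IsLocalRing.closedPoint K) = _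
    rw [Adjunction.homEquiv_counit]
    rfl
  have hmem := mem_range_mul p (e.symm y) (e.symm (y⁻¹ * x)) (IsLocalRing.closedPoint K)
    ((hleft y).symm ▸ hy) ((hleft (y⁻¹ * x)).symm ▸ hz)
  rw [← map_mul, mul_inv_cancel_left, hleft] at hmem
  exact hx hmem

/-- **Normality.** -/
theorem isNormalHom_of_words [LocallyOfFiniteType G.hom] [Smooth A.hom] [QuasiCompact A.hom] [Smooth B.hom]
    [QuasiCompact B.hom] [QuasiSeparated D.hom]
    (hA : AlgGrp.IsNormalHom a) (hB : AlgGrp.IsNormalHom b) (n : ℕ) (hc : ∃ c, c ≫ d = cm a b)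
    (hsurj : Set.range d.left ⊆ Set.range (wMor (cm a b) (alt n)).left) : AlgGrp.IsNormalHom d := by
  obtain ⟨c, hc⟩ := hc
  let X := A ⊗ B
  haveI : Smooth X.hom := smooth_tensor A B
  haveI : QuasiCompact X.hom := by rw [Over.tensorObj_hom]; infer_instance
  haveI := smooth_wObj X (alt n)
  haveI := (props_wObjS X (alt n)).2
  let W := wObj X (alt n)
  let wD : W ⟶ D := wMor c (alt n)
  have hwd : wD ≫ d = wMor (cm a b) (alt n) := by rw [wMor_comp d c, hc]
  haveI : Surjective wD.left := ⟨fun p => by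
    obtain ⟨z, hz⟩ := hsurj ⟨p, rfl⟩
    refine ⟨z, d.left.injective ?_⟩
    rw [← hz, ← hwd]; rfl⟩
  obtain ⟨L, hL₁, hL₂, hdense⟩ := exists_flat_piece wD
  let W' : Over T := Over.mk (L.ι ≫ W.hom)
  let jW : W' ⟶ W := Over.homMk L.ι rfl
  let wD' : W' ⟶ D := jW ≫ wD
  haveI : Flat wD'.left := hL₁
  haveI : LocallyOfFinitePresentation wD'.left := hL₂
  let P := W' ⊗ W'
  let Φ : P ⟶ D := (wD' ⊗ₘ wD') ≫ μ
  obtain ⟨hΦ₁, -, hΦ₃⟩ := mul_surjective wD' hdense
  haveI : Flat Φ.left := hΦ₁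
  haveI : Surjective Φ.left := hΦ₃
  -- descend
  intro U g m
  let q := pullback.fst m.left Φ.left
  let U' : Over T := Over.mk (q ≫ U.hom)
  let q' : U' ⟶ U := Over.homMk q rfl
  let r' : U' ⟶ P := Over.homMk (pullback.snd m.left Φ.left) (by
    show pullback.snd m.left Φ.left ≫ P.hom = q ≫ U.hom
    rw [← Over.w Φ, ← pullback.condition_assoc, Over.w m])
  have hm : r' ≫ Φ = q' ≫ m := Over.OverMorphism.ext pullback.condition.symm
  let C : Set (U' ⟶ G) := Set.range fun x : U' ⟶ X => x ≫ cm a b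
  let g' : U' ⟶ G := q' ≫ g
  have hconj : ∀ v ∈ C, g' * v * g'⁻¹ ∈ C := by
    rintro _ ⟨x, rfl⟩
    obtain ⟨a', ha'⟩ := hA U' g' (x ≫ fst A B)
    obtain ⟨b', hb'⟩ := hB U' g' (x ≫ snd A B)
    refine ⟨lift a' b', ?_⟩
    simp only [comp_cm, lift_fst, lift_snd, ← ha', ← hb']
    exact (conjugate_commutatorElement _ _ _).symm
  have hword : ∀ v : U' ⟶ W', ∃ v' : U' ⟶ D, g' * (v ≫ wD' ≫ d) * g'⁻¹ = v' ≫ d := by
    intro v
    have h : v ≫ wD' ≫ d ∈ wVal C (alt n) := by
      rw [show wD' ≫ d = jW ≫ wMor (cm a b) (alt n) from (Category.assoc _ _ _).trans (congrArg (jW ≫ ·) hwd),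
        ← range_wMor]
      exact ⟨v ≫ jW, Category.assoc _ _ _⟩
    obtain ⟨y, hy⟩ := (range_wMor (cm a b) U' (alt n)).ge (conj_mem_wVal g' hconj h)
    exact ⟨y ≫ wD, hy.symm.trans (by rw [Category.assoc, hwd])⟩
  obtain ⟨v₁, hv₁⟩ := hword (r' ≫ fst W' W')
  obtain ⟨v₂, hv₂⟩ := hword (r' ≫ snd W' W')
  have key : (v₁ * v₂) ≫ d = q' ≫ (g * (m ≫ d) * g⁻¹) := by
    rw [MonObj.mul_comp, ← hv₁, ← hv₂, MonObj.comp_mul, MonObj.comp_mul, GrpObj.comp_inv, ← Category.assoc q', ← hm]
    have hΦ : Φ ≫ d = (fst W' W' ≫ wD' ≫ d) * (snd W' W' ≫ wD' ≫ d) := by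
      rw [Category.assoc, IsMonHom.mul_hom d, ← Category.assoc, tensorHom_comp_tensorHom, Hom.mul_def]
      congr 1 <;> apply CartesianMonoidalCategory.hom_ext <;> simp
    rw [Category.assoc r' Φ d, hΦ, MonObj.comp_mul, ← Category.assoc r', ← Category.assoc r']
    show g' * _ * g'⁻¹ * (g' * _ * g'⁻¹) = g' * _ * g'⁻¹
    group
  obtain ⟨ψ, hψ⟩ := exists_fac_of_cover q d.left (g * (m ≫ d) * g⁻¹).left (v₁ * v₂).left
    (congrArg Over.Hom.left key)
  exact ⟨Over.homMk ψ (by rw [← Over.w d, reassoc_of% hψ, Over.w]), Over.OverMorphism.ext hψ.symm⟩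

end

end Groth.Agent.Deform.GenSub.Spread
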