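import Groth.Agent.Deform.Luna.SolvBound
import Mathlib.Topology.Constructible

/-!
# Subgroups which are finite unions of locally closed sets are closed
-/

set_option autoImplicit false
set_option linter.style.haveILetI false

universe u

namespace Groth.Agent.Deform.GenSub

open Topology Luna.SolvBound

variable {X : Type u} [TopologicalSpace X]

/-- A finite union of locally closed subsets. -/
def FinLC (S : Set X) : Prop :=
  ∃ 𝒮 : Set (Set X), 𝒮.Finite ∧ (∀ L ∈ 𝒮, IsLocallyClosed L) ∧ S = ⋃₀ 𝒮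

theorem FinLC.of_isLocallyClosed {S : Set X} (h : IsLocallyClosed S) : FinLC S :=
  ⟨{S}, Set.finite_singleton S, fun _ hL => hL ▸ h, (Set.sUnion_singleton S).symm⟩

theorem FinLC.union {S T : Set X} (hS : FinLC S) (hT : FinLC T) : FinLC (S ∪ T) := by
  obtain ⟨𝒮, hf, hl, rfl⟩ := hS
  obtain ⟨𝒯, hf', hl', rfl⟩ := hT
  exact ⟨𝒮 ∪ 𝒯, hf.union hf', fun L hL => hL.elim (hl L) (hl' L), (Set.sUnion_union 𝒮 𝒯).symm⟩

theorem FinLC.empty : FinLC (∅ : Set X) := ⟨∅, Set.finite_empty, fun _ h => h.elim, Set.sUnion_empty.symm⟩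

theorem FinLC.inter {S T : Set X} (hS : FinLC S) (hT : FinLC T) : FinLC (S ∩ T) := by
  obtain ⟨𝒮, hf, hl, rfl⟩ := hS
  obtain ⟨𝒯, hf', hl', rfl⟩ := hT
  refine ⟨Set.image2 (· ∩ ·) 𝒮 𝒯, hf.image2 _ hf', ?_, ?_⟩
  · rintro _ ⟨L, hL, M, hM, rfl⟩
    exact (hl L hL).inter (hl' M hM)
  · ext x
    simp only [Set.mem_inter_iff, Set.mem_sUnion, Set.mem_image2]
    exact ⟨fun ⟨⟨L, hL, hx⟩, M, hM, hx'⟩ => ⟨_, ⟨L, hL, M, hM, rfl⟩, hx, hx'⟩,
      fun ⟨_, ⟨L, hL, M, hM, e⟩, h⟩ => by subst e; exact ⟨⟨L, hL, h.1⟩, M, hM, h.2⟩⟩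

theorem FinLC.iUnion {ι : Type*} [Finite ι] {S : ι → Set X} (h : ∀ i, FinLC (S i)) : FinLC (⋃ i, S i) := by
  choose 𝒮 hf hl he using h
  refine ⟨⋃ i, 𝒮 i, Set.finite_iUnion hf, fun L hL => ?_, ?_⟩
  · obtain ⟨i, hi⟩ := Set.mem_iUnion.mp hL
    exact hl i L hi
  · simp only [Set.sUnion_iUnion, ← he]

theorem FinLC.preimage {Y : Type u} [TopologicalSpace Y] {f : Y → X} (hf : Continuous f) {S : Set X} (hS : FinLC S) :
    FinLC (f ⁻¹' S) := by
  obtain ⟨𝒮, hfin, hl, rfl⟩ := hS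
  refine ⟨Set.preimage f '' 𝒮, hfin.image _, ?_, ?_⟩
  · rintro _ ⟨L, hL, rfl⟩
    exact (hl L hL).preimage hf
  · rw [Set.sUnion_image, Set.preimage_sUnion]

/-- Constructible sets are finite unions of locally closed ones. -/
theorem finLC_of_isConstructible {S : Set X} (h : IsConstructible S) : FinLC S ∧ FinLC Sᶜ := by
  induction h using IsConstructible.empty_union_induction with
  | open_retrocompact U hU _ =>
    exact ⟨.of_isLocallyClosed hU.isLocallyClosed, .of_isLocallyClosed hU.isClosed_compl.isLocallyClosed⟩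
  | union s t _ _ hs ht => rw [Set.compl_union]; exact ⟨hs.1.union ht.1, hs.2.inter ht.2⟩
  | compl s _ hs => exact ⟨hs.2, by rw [compl_compl]; exact hs.1⟩

/-- A finite union of locally closed sets contains a nonempty open piece of its closure. -/
theorem FinLC.exists_open {S : Set X} (hS : FinLC S) (hne : S.Nonempty) :
    ∃ V : Set X, IsOpen V ∧ V ∩ closure S ⊆ S ∧ (V ∩ S).Nonempty := by
  obtain ⟨𝒮, hf, hl, rfl⟩ := hS
  have hbd : ∀ L ∈ 𝒮, IsClosed (closure L \ L) := fun L hL => by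
    obtain ⟨U, Z, hU, hZ, rfl⟩ := hl L hL
    have e : closure (U ∩ Z) \ (U ∩ Z) = closure (U ∩ Z) \ U := by
      ext x
      exact ⟨fun ⟨h, h'⟩ => ⟨h, fun hx => h' ⟨hx, closure_minimal Set.inter_subset_right hZ h⟩⟩,
        fun ⟨h, h'⟩ => ⟨h, fun hx => h' hx.1⟩⟩
    rw [e]
    exact isClosed_closure.sdiff hU
  have key : ∀ 𝒯 : Set (Set X), 𝒯.Finite → 𝒯 ⊆ 𝒮 → ∀ O : Set X, IsOpen O → (O ∩ ⋃₀ 𝒮).Nonempty →
      ((O \ ⋃ L ∈ 𝒯, closure L \ L) ∩ ⋃₀ 𝒮).Nonempty := by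
    intro 𝒯 h𝒯
    induction 𝒯, h𝒯 using Set.Finite.induction_on with
    | empty => intro _ O _ h; simpa using h
    | @insert L 𝒯 _ hT ih =>
      intro hsub O hO hne
      have hLS : L ∈ 𝒮 := hsub (Set.mem_insert _ _)
      have hTS : 𝒯 ⊆ 𝒮 := (Set.subset_insert _ _).trans hsub
      have hO' : IsOpen (O \ ⋃ M ∈ 𝒯, closure M \ M) :=
        hO.sdiff (hT.isClosed_biUnion fun M hM => hbd M (hTS hM))
      obtain ⟨x, hxO, hxS⟩ := ih hTS O hO hne
      rw [Set.biUnion_insert]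
      by_cases hx : x ∈ closure L \ L
      · obtain ⟨z, hzO, hzL⟩ := mem_closure_iff.mp hx.1 _ hO' hxO
        exact ⟨z, ⟨hzO.1, fun h => h.elim (fun h' => h'.2 hzL) hzO.2⟩, L, hLS, hzL⟩
      · exact ⟨x, ⟨hxO.1, fun h => h.elim hx hxO.2⟩, hxS⟩
  refine ⟨(⋃ L ∈ 𝒮, closure L \ L)ᶜ, (hf.isClosed_biUnion hbd).isOpen_compl, ?_, ?_⟩
  · rintro x ⟨hxV, hx⟩
    rw [hf.closure_sUnion] at hx
    obtain ⟨L, hL, hxL⟩ := Set.mem_iUnion₂.mp hx
    exact ⟨L, hL, by_contra fun h => hxV (Set.mem_iUnion₂.mpr ⟨L, hL, hxL, h⟩)⟩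
  · obtain ⟨x, hx, hxS⟩ := key 𝒮 hf subset_rfl Set.univ isOpen_univ (by rwa [Set.univ_inter])
    exact ⟨x, hx.2, hxS⟩

variable {P : Type u} [Group P] [TopologicalSpace P]

/-- A set containing an open piece of the closure of a subgroup in which it is dense, generates that closure in two
steps. -/
theorem mem_mul_of_dense (h : SepCont P) {S : Set P} (hS : FinLC S) (hne : S.Nonempty) {K : Subgroup P}
    (hK : closure S = K) {g : P} (hg : g ∈ K) : ∃ a ∈ S, ∃ b ∈ S, a * b = g := by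
  obtain ⟨V, hV, hVS, ⟨v, hvV, hvS⟩⟩ := hS.exists_open hne
  have hW : IsOpen ((fun x => g * x⁻¹) ⁻¹' V) := hV.preimage ((h.left g).comp h.inv)
  have hv : v⁻¹ * g ∈ closure S := by
    rw [hK]
    exact K.mul_mem (K.inv_mem (by rw [← SetLike.mem_coe, ← hK]; exact subset_closure hvS)) hg
  have hgv : g * (v⁻¹ * g)⁻¹ = v := by group
  obtain ⟨b, hbW, hbS⟩ := mem_closure_iff.mp hv _ hW (show g * (v⁻¹ * g)⁻¹ ∈ V by rw [hgv]; exact hvV)
  have hbK : b ∈ K := by rw [← SetLike.mem_coe, ← hK]; exact subset_closure hbS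
  refine ⟨g * b⁻¹, hVS ⟨hbW, by rw [hK]; exact K.mul_mem hg (K.inv_mem hbK)⟩, b, hbS, inv_mul_cancel_right g b⟩

/-- **A subgroup which is a finite union of locally closed sets is closed.** -/
theorem isClosed_subgroup (h : SepCont P) (H : Subgroup P) (hH : FinLC (H : Set P)) : IsClosed (H : Set P) := by
  refine closure_subset_iff_isClosed.mp fun g hg => ?_
  obtain ⟨a, ha, b, hb, rfl⟩ := mem_mul_of_dense h hH ⟨1, H.one_mem⟩ (K := clSub h H) rfl hg
  exact H.mul_mem ha hb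

end Groth.Agent.Deform.GenSub
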